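import Mathlib.GroupTheory.SpecificGroups.Alternating
import Mathlib.Dynamics.PeriodicPts.Lemmas
import Mathlib.Tactic

/-!
# Automorphisms of two-power order of the alternating group of degree five respecting a four group
-/

set_option autoImplicit false
set_option maxRecDepth 100000

namespace Cfsg.Agent.Lib.Inter3310.AFive

open Equiv

abbrev A5 : Type := ↥(alternatingGroup (Fin 5))

/-- The four group fixing the last point. -/
def InV (x : A5) : Prop := (x : Perm (Fin 5)) 4 = 4 ∧ x * x = 1

instance : DecidablePred InV := fun x => inferInstanceAs (Decidable ((x : Perm (Fin 5)) 4 = 4 ∧ x * x = 1))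

def va : A5 := ⟨swap 0 1 * swap 2 3, Perm.mem_alternatingGroup.2 (by decide +kernel)⟩

def vb : A5 := ⟨swap 0 2 * swap 1 3, Perm.mem_alternatingGroup.2 (by decide +kernel)⟩

def cn : A5 := ⟨swap 0 1 * swap 1 2, Perm.mem_alternatingGroup.2 (by decide +kernel)⟩

def cu : A5 := ⟨swap 0 1 * swap 3 4, Perm.mem_alternatingGroup.2 (by decide +kernel)⟩

theorem inV_cases : ∀ x : A5, InV x → x = 1 ∨ x = va ∨ x = vb ∨ x = va * vb := by
  decide +kernel

theorem inV_conj : ∀ x : A5, InV x → InV (cn * x * cn⁻¹) := by decide +kernel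

theorem inV_comm : ∀ x : A5, InV x → ∀ y : A5, InV y → x * y = y * x := by decide +kernel

theorem inV_orbit : ∀ x : A5, InV x → x = 1 ∨ x = va ∨ x = cn * va * cn⁻¹ ∨
    x = cn * (cn * va * cn⁻¹) * cn⁻¹ := by decide +kernel

theorem cn_cube : cn * (cn * (cn * va * cn⁻¹) * cn⁻¹) * cn⁻¹ = va := by decide +kernel

theorem cn_six : cn * (cn * (cn * (cn * (cn * (cn * va * cn⁻¹) * cn⁻¹) * cn⁻¹) * cn⁻¹) * cn⁻¹) * cn⁻¹ =
    va := by decide +kernel

theorem twist : ∀ x : A5, InV x → ∃ t : A5, InV t ∧ t * cn * t⁻¹ = x * cn := by decide +kernel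

theorem cu_unique : ∀ y : A5, y * y = 1 → (y * cn) ^ 2 = 1 → (y * va) ^ 3 = 1 → y = cu := by
  decide +kernel

theorem cu_rel : cu * cu = 1 ∧ (cu * cn) ^ 2 = 1 ∧ (cu * va) ^ 3 = 1 := by decide +kernel

/-- The elements fixing the last point. -/
def fixList : List A5 :=
  [1, va, vb, va * vb, cn, cn * va, cn * vb, cn * (va * vb), cn * cn, cn * cn * va, cn * cn * vb,
    cn * cn * (va * vb)]

theorem gen_cases : ∀ x : A5, x ∈ fixList ∨ ∃ l ∈ fixList, ∃ m ∈ fixList, x = l * cu * m ∨
    x = l * cu * va * cu * m := by decide +kernel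

theorem va_inV : InV va := by decide +kernel

theorem vb_inV : InV vb := by decide +kernel

theorem va_ne : va ≠ 1 := by decide +kernel

theorem vb_cases : vb = cn * va * cn⁻¹ ∨ vb = cn * (cn * va * cn⁻¹) * cn⁻¹ := by decide +kernel

attribute [local irreducible] va vb cn cu fixList InV

/-- An automorphism of two-power order normalising the four group and trivial on the quotient of
its normaliser is an inner one by an element of the four group. -/
theorem inner_of_two (f : A5 →* A5) (k : ℕ) (hk : ∀ x, f^[2 ^ k] x = x)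
    (hV : ∀ x, InV x → InV (f x)) (hn : InV (f cn * cn⁻¹)) :
    ∃ t : A5, InV t ∧ ∀ x, f x = t * x * t⁻¹ := by
  set w := f cn * cn⁻¹ with hw
  have hfn : f cn = w * cn := by rw [hw, inv_mul_cancel_right]
  have hcom : ∀ v, InV v → f (cn * v * cn⁻¹) = cn * f v * cn⁻¹ := by
    intro v hv
    calc f (cn * v * cn⁻¹) = w * (cn * f v * cn⁻¹) * w⁻¹ := by
          rw [map_mul, map_mul, map_inv, hfn]; group
      _ = cn * f v * cn⁻¹ := by
          rw [inV_comm w hn _ (inV_conj _ (hV v hv)), mul_inv_cancel_right]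
  have hva := va_inV
  have hinj : Function.Injective f := fun x y e => by
    have h1 : ∀ j, f^[j + 1] x = f^[j + 1] y := fun j => by
      rw [Function.iterate_succ_apply, Function.iterate_succ_apply, e]
    obtain ⟨j, hj⟩ : ∃ j, 2 ^ k = j + 1 := ⟨2 ^ k - 1, (Nat.sub_add_cancel Nat.one_le_two_pow).symm⟩
    rw [← hk x, ← hk y, hj, h1]
  have hfa : f va = va := by
    have h3 : f^[3] va = va := by
      have hI1 := inV_conj va hva
      rcases inV_orbit _ (hV va hva) with e | e | e | e
      · exact absurd (hinj (e.trans (map_one f).symm)) va_ne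
      · simp [Function.iterate_succ_apply, e]
      · show f (f (f va)) = va
        rw [e, hcom _ hva, e, hcom _ hI1, hcom _ hva, e]
        exact cn_cube
      · show f (f (f va)) = va
        rw [e, hcom _ hI1, hcom _ hva, e, hcom _ (inV_conj _ (inV_conj _ hI1)),
          hcom _ (inV_conj _ hI1), hcom _ hI1, hcom _ hva, e]
        exact cn_six
    have hg : Function.IsPeriodicPt f (Nat.gcd 3 (2 ^ k)) va :=
      Function.IsPeriodicPt.gcd h3 (hk va)
    rwa [Nat.Coprime.pow_right k (by norm_num : Nat.Coprime 3 2)] at hg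
  have hfb : f vb = vb := by
    rcases vb_cases with e | e
    · rw [e, hcom _ hva, hfa]
    · rw [e, hcom _ (inV_conj _ hva), hcom _ hva, hfa]
  obtain ⟨t, ht, htn⟩ := twist w hn
  have hfix : ∀ x ∈ ({va, vb, cn, cu} : Set A5), f x = t * x * t⁻¹ := by
    have hta : f va = t * va * t⁻¹ := by
      rw [hfa, inV_comm t ht va hva, mul_inv_cancel_right]
    have htb : f vb = t * vb * t⁻¹ := by
      rw [hfb, inV_comm t ht vb vb_inV, mul_inv_cancel_right]
    have htc : f cn = t * cn * t⁻¹ := by rw [hfn, htn]
    rintro x (rfl | rfl | rfl | rfl)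
    · exact hta
    · exact htb
    · exact htc
    · have key : ∀ y, y = t⁻¹ * f cu * t → y = cu := by
        intro y hy
        have hy' : f cu = t * y * t⁻¹ := by rw [hy]; group
        obtain ⟨r1, r2, r3⟩ := cu_rel
        refine cu_unique y ?_ ?_ ?_
        · have := congrArg f r1
          rw [map_mul, map_one, hy', conj_mul] at this
          exact conj_eq_one_iff.1 this
        · have := congrArg f r2
          rw [map_pow, map_one, map_mul, hy', htc, conj_mul, conj_pow] at this
          exact conj_eq_one_iff.1 this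
        · have := congrArg f r3
          rw [map_pow, map_one, map_mul, hy', hta, conj_mul, conj_pow] at this
          exact conj_eq_one_iff.1 this
      have := key _ rfl
      calc f cu = t * (t⁻¹ * f cu * t) * t⁻¹ := by group
        _ = t * cu * t⁻¹ := by rw [this]
  refine ⟨t, ht, fun x => ?_⟩
  let S := MonoidHom.eqLocus f (MulAut.conj t).toMonoidHom
  have hs : ∀ y ∈ ({va, vb, cn, cu} : Set A5), y ∈ S := hfix
  have ha := hs va (Or.inl rfl)
  have hb := hs vb (Or.inr (Or.inl rfl))
  have hc := hs cn (Or.inr (Or.inr (Or.inl rfl)))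
  have hu := hs cu (Or.inr (Or.inr (Or.inr rfl)))
  have hl : ∀ y ∈ fixList, y ∈ S := by
    intro y hy
    simp only [fixList, List.mem_cons, List.not_mem_nil, or_false] at hy
    rcases hy with rfl | rfl | rfl | rfl | rfl | rfl | rfl | rfl | rfl | rfl | rfl | rfl <;>
      first
        | exact one_mem S | exact ha | exact hb | exact hc
        | exact mul_mem ha hb | exact mul_mem hc ha | exact mul_mem hc hb
        | exact mul_mem hc (mul_mem ha hb) | exact mul_mem hc hc
        | exact mul_mem (mul_mem hc hc) ha | exact mul_mem (mul_mem hc hc) hb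
        | exact mul_mem (mul_mem hc hc) (mul_mem ha hb)
  rcases gen_cases x with h | ⟨l, hlm, m, hmm, rfl | rfl⟩
  · exact hl x h
  · exact mul_mem (mul_mem (hl l hlm) hu) (hl m hmm)
  · exact mul_mem (mul_mem (mul_mem (mul_mem (hl l hlm) hu) ha) hu) (hl m hmm)

end Cfsg.Agent.Lib.Inter3310.AFive
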