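import Cfsg.Agent.Lib.Inter3310.Setting
import Cfsg.Agent.Lib.BC77.CyclicCentPair.Main
import Cfsg.Agent.Lib.Fusion.DihedralClasses
import Cfsg.Agent.Lib.GorensteinWalter.Main
import Cfsg.Agent.Lib.SylowInter.CyclicTwoTools
import Cfsg.Agent.Lib.Balance.LBalance
import Cfsg.Agent.S3116
import Cfsg.Agent.S0215

/-!
# An outer involution with uniquely determined Sylow subgroup on a simple group with dihedral
Sylow 2-subgroups does not exist
-/

set_option autoImplicit false
set_option linter.style.haveILetI false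
set_option linter.unusedSectionVars false

namespace Cfsg.Agent.Lib.Inter3310

open Subgroup
open Cfsg.Agent.Lib.BC77.CyclicCentPair (HasFour oddHalf)
open scoped Pointwise

universe u

/-- An involutory automorphism without a fixed four-group fixes an element of odd order together
with its centraliser. -/
theorem exists_fixed_odd {L : Type u} [Group L] [Finite L]
    (h : GorensteinWalter.IsKnownD L) {α : MulAut L} (hα : α * α = 1) (hno : ¬ HasFour α) :
    ∃ y : L, y ≠ 1 ∧ Odd (orderOf y) ∧ α y = y ∧ ∀ x : L, Commute y x → α x = x := by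
  classical
  rcases h with ⟨F, _, _, hodd, h3, ⟨e⟩⟩ | ⟨⟨e⟩⟩
  · obtain ⟨p, hp⟩ := CharP.exists F
    haveI := hp
    obtain ⟨m, hpp, hcard⟩ := FiniteField.card F p
    haveI : Fact p.Prime := ⟨hpp⟩
    have hp2 : p ≠ 2 := by
      rintro rfl
      rw [hcard] at hodd
      exact Nat.not_even_iff_odd.2 hodd (Nat.even_pow.2 ⟨even_two, m.ne_zero⟩)
    have h5 : 5 ≤ Fintype.card F := by
      obtain ⟨k, hk⟩ := hodd
      omega
    set β := MulAut.congr e α with hβ
    have hβα : ∀ x, β (e x) = e (α x) := fun x => by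
      show e (α (e.symm (e x))) = _
      rw [e.symm_apply_apply]
    obtain ⟨y, hy, hfix, hcom, -⟩ := BC77.CyclicCentPair.exists_torus_data (p := p) hp2 h5 (α := β)
      (by rw [hβ, ← map_mul, hα, map_one]) (by
        rintro ⟨v, w, hv, hw, hne, hc, hfv, hfw⟩
        refine hno ⟨e.symm v, e.symm w, by rw [MulEquiv.orderOf_eq, hv],
          by rw [MulEquiv.orderOf_eq, hw], fun e' => hne (e.symm.injective e'),
          hc.map e.symm.toMonoidHom, e.injective ?_, e.injective ?_⟩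
        · rw [← hβα, e.apply_symm_apply, hfv]
        · rw [← hβα, e.apply_symm_apply, hfw])
    have hk : 3 ≤ oddHalf (Fintype.card F) ∧ oddHalf (Fintype.card F) % 2 = 1 := by
      obtain ⟨k, hk⟩ := hodd
      unfold oddHalf
      constructor <;> split_ifs <;> omega
    refine ⟨e.symm y, fun e' => ?_, ?_, e.injective ?_, fun x hx => e.injective ?_⟩
    · rw [MulEquiv.map_eq_one_iff] at e'
      rw [e', orderOf_one] at hy
      omega
    · rw [MulEquiv.orderOf_eq, hy, Nat.odd_iff]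
      exact hk.2
    · rw [← hβα, e.apply_symm_apply, hfix]
    · rw [← hβα]
      refine hcom _ ?_
      have := hx.map e.toMonoidHom
      simpa using this
  · set β := MulAut.congr e α with hβ
    obtain ⟨v, w, hv, hw, hne, hc, hfv, hfw⟩ :=
      BC77.CyclicCentPair.hasFour_alt_seven β (by rw [hβ, ← map_mul, hα, map_one])
    refine absurd ⟨e.symm v, e.symm w, by rw [MulEquiv.orderOf_eq, hv],
      by rw [MulEquiv.orderOf_eq, hw], fun e' => hne (e.symm.injective e'),
      hc.map e.symm.toMonoidHom, e.injective ?_, e.injective ?_⟩ hno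
    · have h1 : e (α (e.symm v)) = v := hfv
      rw [h1, e.apply_symm_apply]
    · have h1 : e (α (e.symm w)) = w := hfw
      rw [h1, e.apply_symm_apply]

/-- An element of odd order centralising two of the three involutions of a four-group. -/
theorem commute_of_pow {G : Type u} [Group G] {y a : G} (hy : Odd (orderOf y))
    (h : y * y * a = a * (y * y)) : y * a = a * y := by
  obtain ⟨k, hk⟩ := hy
  have hc : Commute (y * y) a := h
  have h1 : (y * y) ^ (k + 1) = y := by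
    rw [← pow_two, ← pow_mul, show 2 * (k + 1) = orderOf y + 1 by omega, pow_succ,
      pow_orderOf_eq_one, one_mul]
  have := (hc.pow_left (k + 1)).eq
  rwa [h1] at this

/-- Powers of elements with equal conjugation action on a normalised set act equally. -/
theorem conj_pow_eq {G : Type u} [Group G] {A : Set G} {r n : G}
    (hmem : ∀ x ∈ A, n * x * n⁻¹ ∈ A) (h : ∀ x ∈ A, r * x * r⁻¹ = n * x * n⁻¹) :
    ∀ (j : ℕ), ∀ x ∈ A, r ^ j * x * (r ^ j)⁻¹ = n ^ j * x * (n ^ j)⁻¹ ∧ n ^ j * x * (n ^ j)⁻¹ ∈ A := by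
  intro j
  induction j with
  | zero => intro x hx; simpa using hx
  | succ j ih =>
    intro x hx
    obtain ⟨h1, h2⟩ := ih x hx
    constructor
    · calc r ^ (j + 1) * x * (r ^ (j + 1))⁻¹ = r * (r ^ j * x * (r ^ j)⁻¹) * r⁻¹ := by
            rw [pow_succ']; group
        _ = n * (n ^ j * x * (n ^ j)⁻¹) * n⁻¹ := by rw [h1, h _ h2]
        _ = _ := by rw [pow_succ']; group
    · rw [show n ^ (j + 1) * x * (n ^ (j + 1))⁻¹ = n * (n ^ j * x * (n ^ j)⁻¹) * n⁻¹ by
        rw [pow_succ']; group]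
      exact hmem _ h2

variable {X : Type u} [Group X] [Finite X]

set_option maxHeartbeats 1000000 in
/-- No involution outside a simple normal subgroup with dihedral Sylow 2-subgroups and trivial
centraliser determines its Sylow 2-subgroup. -/
theorem false_of_dihedral (M : Subgroup X) [M.Normal] [IsSimpleGroup ↥M]
    (hna : ¬ IsMulCommutative ↥M) (hcent : centralizer (M : Set X) = ⊥)
    (hdih : ∀ P : Sylow 2 ↥M, ∃ n, 1 ≤ n ∧ Nonempty (↥(P : Subgroup ↥M) ≃* DihedralGroup (2 ^ n)))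
    (S : Sylow 2 X) {t : X} (htS : t ∈ (S : Subgroup X)) (ht : t * t = 1) (htM : t ∉ M)
    (star : ∀ x : X, x * t * x⁻¹ ∈ (S : Subgroup X) →
      x ∈ normalizer ((S : Subgroup X) : Set X)) : False := by
  classical
  haveI : Fact (Nat.Prime 2) := ⟨Nat.prime_two⟩
  have hti : t⁻¹ = t := inv_eq_of_mul_eq_one_right ht
  have ht1 : t ≠ 1 := fun e => htM (e ▸ one_mem M)
  have hknown : GorensteinWalter.IsKnownD ↥M := by
    refine GorensteinWalter.known_of_simple ↥M inferInstance hna fun P => ?_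
    obtain ⟨n, hn, he⟩ := hdih P
    exact ⟨2 ^ n, Nat.le_self_pow (by omega) 2, he⟩
  -- 2-subgroups containing `t` lie in `S`
  have hsyl : ∀ R : Subgroup X, IsPGroup 2 ↥R → t ∈ R → R ≤ (S : Subgroup X) := by
    intro R hR htR
    obtain ⟨S', hS'⟩ := hR.exists_le_sylow
    obtain ⟨g, rfl⟩ := MulAction.exists_smul_eq X S S'
    have h1 : g⁻¹ * t * g⁻¹⁻¹ ∈ (S : Subgroup X) := by
      rw [inv_inv]; exact mem_smul_iff.1 (hS' htR)
    have h2 := inv_mem (star _ h1)
    rw [inv_inv] at h2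
    rwa [eq_smul_iff.2 h2] at hS'
  have htwo : ∀ x ∈ normalizer ((S : Subgroup X) : Set X), ∀ k : ℕ, x ^ 2 ^ k = 1 →
      x ∈ (S : Subgroup X) := by
    intro x hx k hk
    have hsup : IsPGroup 2 ↥((S : Subgroup X) ⊔ zpowers x) :=
      IsPGroup.to_sup_of_normal_left' S.2 (SylowInter.CyclicTwoTools.isPGroup_zpowers hk)
        (zpowers_le.2 hx)
    rw [← S.3 hsup le_sup_left]
    exact mem_sup_right (mem_zpowers x)
  have hcommN : ∀ x : X, x * t = t * x → x ∈ normalizer ((S : Subgroup X) : Set X) := fun x hx =>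
    star x (by rw [hx, mul_inv_cancel_right]; exact htS)
  set T := (S : Subgroup X) ⊓ M with hT
  obtain ⟨P, hP⟩ := Balance.exists_sylow_inf_normal S M
  have hPT : ∀ x : ↥M, x ∈ (P : Subgroup ↥M) ↔ (x : X) ∈ T := fun x => by
    rw [hP]; exact ⟨fun h => ⟨h, x.2⟩, fun h => h.1⟩
  obtain ⟨n, hn1, ⟨eP⟩⟩ := hdih P
  haveI : NeZero (2 ^ n : ℕ) := ⟨pow_ne_zero n two_ne_zero⟩
  let e : ↥T ≃* DihedralGroup (2 ^ n) :=
    (((MulEquiv.subgroupCongr (show (P : Subgroup ↥M).map M.subtype = T by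
        rw [hP, Subgroup.subgroupOf_map_subtype])).symm).trans
      ((P : Subgroup ↥M).equivMapOfInjective _ M.subtype_injective).symm).trans eP
  have hTn : ∀ x ∈ normalizer ((S : Subgroup X) : Set X), x ∈ normalizer (T : Set X) := by
    intro x hx
    refine mem_normalizer_iff.2 fun a => and_congr (mem_normalizer_iff.1 hx a)
      ⟨fun h => (inferInstance : M.Normal).conj_mem a h x, fun h => ?_⟩
    have := (inferInstance : M.Normal).conj_mem _ h x⁻¹
    rwa [show x⁻¹ * (x * a * x⁻¹) * x⁻¹⁻¹ = a by group] at this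
  -- automorphisms of a big dihedral group
  have haut : 2 ≤ n → ∀ x ∈ normalizer (T : Set X), ∃ k : ℕ,
      ∀ a ∈ T, x ^ 2 ^ k * a * (x ^ 2 ^ k)⁻¹ = a := by
    intro hn2 x hx
    have h2 : IsPGroup 2 (MulAut ↥T) := Cfsg.Agent.S3116.result (X := ↥T)
      (S.isPGroup'.to_le inf_le_left)
      (Or.inl ⟨2 ^ n, by
        calc (4 : ℕ) = 2 ^ 2 := by norm_num
          _ ≤ 2 ^ n := Nat.pow_le_pow_right two_pos hn2, ⟨e⟩⟩)
    obtain ⟨k, hk⟩ := h2 (T.normalizerMonoidHom ⟨x, hx⟩)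
    refine ⟨k, fun a ha => ?_⟩
    rw [← map_pow] at hk
    have := congrArg Subtype.val (MulEquiv.ext_iff.1 hk ⟨a, ha⟩)
    simpa using this
  set α : MulAut ↥M := MulAut.conjNormal t with hα
  have hα2 : α * α = 1 := by rw [hα, ← map_mul, ht, map_one]
  have hfix : ∀ x : ↥M, α x = x ↔ (x : X) * t = t * x := fun x => by
    constructor
    · intro h
      have h1 : t * (x : X) * t⁻¹ = x := by
        have h2 := congrArg Subtype.val h
        rw [hα, MulAut.conjNormal_apply] at h2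
        exact h2
      exact (mul_inv_eq_iff_eq_mul.1 h1).symm
    · intro h
      apply Subtype.ext
      rw [hα, MulAut.conjNormal_apply, ← h, mul_inv_cancel_right]
  -- two commuting involutions of `T`
  obtain ⟨p, q, hp, hq, hpq, hpqc⟩ : ∃ p q : DihedralGroup (2 ^ n),
      orderOf p = 2 ∧ orderOf q = 2 ∧ p ≠ q ∧ p * q = q * p := by
    obtain ⟨m, rfl⟩ : ∃ m, n = m + 1 := ⟨n - 1, by omega⟩
    have hz : ((2 ^ m : ℕ) : ZMod (2 ^ (m + 1))) + (2 ^ m : ℕ) = 0 := by
      rw [← Nat.cast_add, show 2 ^ m + 2 ^ m = 2 ^ (m + 1) by ring, ZMod.natCast_self]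
    have hz0 : ((2 ^ m : ℕ) : ZMod (2 ^ (m + 1))) ≠ 0 := by
      rw [Ne, ZMod.natCast_eq_zero_iff]
      intro h
      have := Nat.le_of_dvd (pow_pos two_pos m) h
      have h2 : 2 ^ (m + 1) = 2 * 2 ^ m := by ring
      have := pow_pos (two_pos (α := ℕ)) m
      omega
    refine ⟨.r ((2 ^ m : ℕ) : ZMod (2 ^ (m + 1))), .sr 0, ?_, DihedralGroup.orderOf_sr 0,
      by simp, ?_⟩
    · refine orderOf_eq_prime ?_ ?_
      · rw [pow_two, DihedralGroup.r_mul_r, hz]; rfl
      · rw [DihedralGroup.one_def]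
        intro h
        exact hz0 (DihedralGroup.r.inj h)
    · rw [DihedralGroup.r_mul_sr, DihedralGroup.sr_mul_r, zero_sub, zero_add]
      congr 1
      exact neg_eq_of_add_eq_zero_left hz
  by_cases hfour : HasFour α
  swap
  · -- no fixed four-group
    obtain ⟨y, hy1, hyo, hyf, hyc⟩ := exists_fixed_odd hknown hα2 hfour
    have hyN : (y : X) ∈ normalizer ((S : Subgroup X) : Set X) := hcommN _ ((hfix y).1 hyf)
    have hyT := hTn _ hyN
    have hyo' : Odd (orderOf (y : X)) := by rwa [Subgroup.orderOf_coe]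
    have hcT : ∀ a ∈ T, (y : X) * a = a * y := by
      by_cases hn2 : 2 ≤ n
      · obtain ⟨k, hk⟩ := haut hn2 _ hyT
        intro a ha
        obtain ⟨d, hd⟩ := hyo'
        have hcop : (2 ^ k).Coprime (orderOf (y : X)) :=
          (Nat.coprime_two_left.2 ⟨d, hd⟩).pow_left k
        obtain ⟨j, hj⟩ := exists_pow_eq_self_of_coprime hcop
        have hc : Commute ((y : X) ^ 2 ^ k) a := mul_inv_eq_iff_eq_mul.1 (hk a ha)
        have := (hc.pow_left j).eq
        rwa [hj] at this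
      · -- a four-group
        obtain rfl : n = 1 := by omega
        have hTsq : ∀ a ∈ T, a * a = 1 := by
          intro a ha
          have : ∀ d : DihedralGroup (2 ^ 1), d * d = 1 := by decide
          exact congrArg Subtype.val (e.injective (a₁ := (⟨a, ha⟩ : ↥T) * ⟨a, ha⟩) (a₂ := 1)
            (by rw [map_mul, map_one, this]))
        have hTc : ∀ a ∈ T, ∀ b ∈ T, a * b = b * a := fun a ha b hb => by
          have h1 := inv_eq_of_mul_eq_one_right (hTsq _ (mul_mem ha hb))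
          rw [mul_inv_rev, inv_eq_of_mul_eq_one_right (hTsq a ha),
            inv_eq_of_mul_eq_one_right (hTsq b hb)] at h1
          exact h1.symm
        have htT : t ∈ normalizer (T : Set X) := hTn t (le_normalizer htS)
        -- a fixed point of `t`
        obtain ⟨u, hu, hu1, hut⟩ : ∃ u ∈ T, u ≠ 1 ∧ u * t = t * u := by
          set a : X := ((e.symm p : ↥T) : X) with hadef
          have ha : a ∈ T := (e.symm p).2
          have ha1 : a ≠ 1 := fun h => by
            rw [show p = 1 from e.symm.injective ((show e.symm p = 1 from Subtype.ext h).trans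
              (map_one _).symm), orderOf_one] at hp
            exact absurd hp (by norm_num)
          by_cases hat : t * a * t⁻¹ = a
          · exact ⟨a, ha, ha1, (mul_inv_eq_iff_eq_mul.1 hat).symm⟩
          have hta : t * a * t⁻¹ ∈ T := (mem_normalizer_iff.1 htT a).1 ha
          refine ⟨a * (t * a * t⁻¹), mul_mem ha hta, fun h => hat ?_, ?_⟩
          · rw [← inv_eq_of_mul_eq_one_right h, inv_eq_of_mul_eq_one_right (hTsq a ha)]
          · have h1 : t * (a * (t * a * t⁻¹)) * t⁻¹ = a * (t * a * t⁻¹) := by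
              calc t * (a * (t * a * t⁻¹)) * t⁻¹ = (t * a * t⁻¹) * (t * t * a * (t * t)⁻¹) := by group
                _ = (t * a * t⁻¹) * a := by rw [ht]; group
                _ = _ := hTc _ hta _ ha
            exact (mul_inv_eq_iff_eq_mul.1 h1).symm
        have hyu : (y : X) * u = u * y := by
          by_contra hne
          have h1 : (y : X) * u * (y : X)⁻¹ ∈ T := (mem_normalizer_iff.1 hyT u).1 hu
          refine hfour ⟨⟨u, hu.2⟩, ⟨_, h1.2⟩, orderOf_eq_prime ?_ ?_, orderOf_eq_prime ?_ ?_, ?_, ?_,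
            (hfix _).2 hut, (hfix _).2 ?_⟩
          · rw [pow_two]; exact Subtype.ext (hTsq u hu)
          · exact fun h => hu1 (congrArg Subtype.val h)
          · rw [pow_two]; exact Subtype.ext (hTsq _ h1)
          · exact fun h => hu1 (conj_eq_one_iff.1 (congrArg Subtype.val h))
          · exact fun h => hne (mul_inv_eq_iff_eq_mul.1 (congrArg Subtype.val h).symm)
          · exact Subtype.ext (hTc u hu _ h1)
          · have hy' : Commute (y : X) t := (hfix y).1 hyf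
            have hu' : Commute u t := hut
            exact ((hy'.mul_left hu').mul_left hy'.inv_left).eq
        intro a ha
        by_cases hau : a = 1 ∨ a = u
        · rcases hau with rfl | rfl
          · rw [mul_one, one_mul]
          · exact hyu
        push Not at hau
        refine commute_of_pow hyo' ?_
        have hcard : Nat.card ↥T = 4 := by
          rw [Nat.card_congr e.toEquiv, DihedralGroup.nat_card]; norm_num
        have hcases : ∀ b ∈ T, b = 1 ∨ b = u ∨ b = a ∨ b = u * a := by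
          intro b hb
          let f : Fin 4 → ↥T := ![1, ⟨u, hu⟩, ⟨a, ha⟩, ⟨u * a, mul_mem hu ha⟩]
          have hua : u * a ≠ 1 := fun h => hau.2 (by
            rw [← inv_eq_of_mul_eq_one_right h, inv_eq_of_mul_eq_one_right (hTsq u hu)])
          have hf : Function.Injective f := by
            intro i j hij
            have h2 : ((f i : ↥T) : X) = ((f j : ↥T) : X) := by rw [hij]
            fin_cases i <;> fin_cases j <;> simp [f] at h2 ⊢ <;>
              first
                | exact hu1 h2 | exact hu1 h2.symm | exact hau.1 h2 | exact hau.1 h2.symm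
                | exact hau.2 h2 | exact hau.2 h2.symm | exact hua h2 | exact hua h2.symm
          obtain ⟨i, hi⟩ := ((Nat.bijective_iff_injective_and_card f).2
            ⟨hf, by rw [hcard]; simp⟩).2 ⟨b, hb⟩
          have hi' : ((f i : ↥T) : X) = b := by rw [hi]
          rw [← hi']
          fin_cases i <;> simp [f]
        have h1 : (y : X) * a * (y : X)⁻¹ ∈ T := (mem_normalizer_iff.1 hyT a).1 ha
        rcases hcases _ h1 with h | h | h | h
        · exact absurd (conj_eq_one_iff.1 h) hau.1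
        · refine absurd ?_ hau.2
          calc a = (y : X)⁻¹ * ((y : X) * a * (y : X)⁻¹) * y := by group
            _ = (y : X)⁻¹ * (u * y) := by rw [h, mul_assoc]
            _ = u := by rw [← hyu, inv_mul_cancel_left]
        · have h' := mul_inv_eq_iff_eq_mul.1 h
          rw [mul_assoc, h', ← mul_assoc, h', mul_assoc]
        · refine mul_inv_eq_iff_eq_mul.1 ?_
          calc (y : X) * y * a * ((y : X) * y)⁻¹ = (y : X) * ((y : X) * a * (y : X)⁻¹) * (y : X)⁻¹ := by
                group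
            _ = (y : X) * u * (y : X)⁻¹ * ((y : X) * a * (y : X)⁻¹) := by
              conv_lhs => rw [h]
              group
            _ = u * (u * a) := by rw [h, hyu, mul_inv_cancel_right]
            _ = a := by rw [← mul_assoc, hTsq u hu, one_mul]
    refine hfour ⟨⟨(e.symm p : ↥T), (e.symm p).2.2⟩, ⟨(e.symm q : ↥T), (e.symm q).2.2⟩, ?_, ?_, ?_, ?_,
      hyc _ (Subtype.ext (hcT _ (e.symm p).2)), hyc _ (Subtype.ext (hcT _ (e.symm q).2))⟩
    · rw [← Subgroup.orderOf_coe]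
      show orderOf ((e.symm p : ↥T) : X) = 2
      rw [Subgroup.orderOf_coe, MulEquiv.orderOf_eq, hp]
    · rw [← Subgroup.orderOf_coe]
      show orderOf ((e.symm q : ↥T) : X) = 2
      rw [Subgroup.orderOf_coe, MulEquiv.orderOf_eq, hq]
    · exact fun h => hpq (e.symm.injective (Subtype.ext (congrArg (fun k : ↥M => (k : X)) h)))
    · refine Subtype.ext ?_
      show ((e.symm p : ↥T) : X) * (e.symm q : ↥T) = (e.symm q : ↥T) * (e.symm p : ↥T)
      rw [← Subgroup.coe_mul, ← Subgroup.coe_mul, ← map_mul, ← map_mul, hpqc]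
  -- a fixed four-group
  obtain ⟨v, w, hv, hw, hvw, hvwc, hvf, hwf⟩ := hfour
  have hvv : v * v = 1 := by rw [← pow_two, ← hv, pow_orderOf_eq_one]
  have hww : w * w = 1 := by rw [← pow_two, ← hw, pow_orderOf_eq_one]
  have hv1 : v ≠ 1 := fun h => by rw [h, orderOf_one] at hv; exact absurd hv (by norm_num)
  have hw1 : w ≠ 1 := fun h => by rw [h, orderOf_one] at hw; exact absurd hw (by norm_num)
  have hinT : ∀ x : ↥M, α x = x → x * x = 1 → (x : X) ∈ T := fun x hx hx2 =>
    ⟨htwo _ (hcommN _ ((hfix x).1 hx)) 1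
      (by rw [pow_one, pow_two]; exact congrArg Subtype.val hx2), x.2⟩
  have hvT := hinT v hvf hvv
  have hwT := hinT w hwf hww
  let V : Subgroup ↥M :=
    { carrier := {x | 1 = x ∨ v = x ∨ w = x ∨ v * w = x}
      one_mem' := Or.inl rfl
      mul_mem' := by
        have hc : w * v = v * w := hvwc.eq.symm
        have e1 : v * (v * w) = w := by rw [← mul_assoc, hvv, one_mul]
        have e2 : w * (v * w) = v := by rw [← mul_assoc, hc, mul_assoc, hww, mul_one]
        have e3 : v * w * v = w := by rw [mul_assoc, hc, e1]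
        have e4 : v * w * w = v := by rw [mul_assoc, hww, mul_one]
        have e5 : v * w * (v * w) = 1 := by rw [← mul_assoc, e3, hww]
        rintro a b (rfl | rfl | rfl | rfl) (rfl | rfl | rfl | rfl) <;>
          simp [one_mul, mul_one, hvv, hww, hc, e1, e2, e3, e4, e5]
      inv_mem' := by
        rintro a (rfl | rfl | rfl | rfl)
        · exact Or.inl inv_one.symm
        · exact Or.inr (Or.inl (inv_eq_of_mul_eq_one_right hvv).symm)
        · exact Or.inr (Or.inr (Or.inl (inv_eq_of_mul_eq_one_right hww).symm))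
        · right; right; right
          rw [mul_inv_rev, inv_eq_of_mul_eq_one_right hww, inv_eq_of_mul_eq_one_right hvv]
          exact hvwc.eq }
  have hvwT : ∀ x ∈ V, (x : X) ∈ T := by
    rintro x (rfl | rfl | rfl | rfl)
    exacts [one_mem T, hvT, hwT, mul_mem hvT hwT]
  have hVt : ∀ x ∈ V, (x : X) * t = t * x := by
    rintro x (rfl | rfl | rfl | rfl)
    · rw [Subgroup.coe_one, one_mul, mul_one]
    · exact (hfix _).1 hvf
    · exact (hfix _).1 hwf
    · have e1 : Commute (v : X) t := (hfix _).1 hvf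
      have e2 : Commute (w : X) t := (hfix _).1 hwf
      exact (e1.mul_left e2).eq
  have hVc : ∀ x ∈ V, ∀ y ∈ V, x * y = y * x := by
    have hc : w * v = v * w := hvwc.eq.symm
    have e0 : Commute v w := hvwc
    have gen : ∀ x ∈ V, Commute x v ∧ Commute x w := by
      rintro x (rfl | rfl | rfl | rfl)
      exacts [⟨Commute.one_left _, Commute.one_left _⟩, ⟨Commute.refl _, e0⟩,
        ⟨e0.symm, Commute.refl _⟩, ⟨(Commute.refl v).mul_left e0.symm, e0.mul_left (Commute.refl w)⟩]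
    intro x hx y hy
    obtain ⟨g1, g2⟩ := gen x hx
    rcases hy with rfl | rfl | rfl | rfl
    exacts [by rw [mul_one, one_mul], g1.eq, g2.eq, (g1.mul_right g2).eq]
  have hVsq : ∀ x ∈ V, x * x = 1 := by
    rintro x (rfl | rfl | rfl | rfl)
    · exact one_mul 1
    · exact hvv
    · exact hww
    · have hc : w * v = v * w := hvwc.eq.symm
      rw [mul_assoc v w (v * w), ← mul_assoc w v w, hc, mul_assoc v w w, hww, mul_one, hvv]
  have hVfour : Fusion.Dihedral.IsFour V := by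
    refine ⟨?_, hVsq⟩
    let f : Fin 4 → ↥V :=
      ![1, ⟨v, Or.inr (Or.inl rfl)⟩, ⟨w, Or.inr (Or.inr (Or.inl rfl))⟩, ⟨v * w, Or.inr (Or.inr (Or.inr rfl))⟩]
    have hvw1 : v * w ≠ 1 := fun h => hvw (by
      rw [← inv_eq_of_mul_eq_one_right h, inv_eq_of_mul_eq_one_right hvv])
    have hf : Function.Bijective f := by
      constructor
      · intro i j hij
        have h2 : ((f i : ↥V) : ↥M) = ((f j : ↥V) : ↥M) := by rw [hij]
        fin_cases i <;> fin_cases j <;> simp [f] at h2 ⊢ <;>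
          first
            | exact hv1 h2 | exact hv1 h2.symm | exact hw1 h2 | exact hw1 h2.symm
            | exact hvw h2 | exact hvw h2.symm | exact hvw1 h2 | exact hvw1 h2.symm
      · rintro ⟨x, rfl | rfl | rfl | rfl⟩
        exacts [⟨0, rfl⟩, ⟨1, rfl⟩, ⟨2, rfl⟩, ⟨3, rfl⟩]
    rw [← Nat.card_eq_of_bijective f hf, Nat.card_eq_fintype_card, Fintype.card_fin]
  -- an element of odd order rotating it
  obtain ⟨σ, hσV, hσo, hσne⟩ : ∃ σ : ↥M, σ ∈ normalizer (V : Set ↥M) ∧ Odd (orderOf σ) ∧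
      ∃ x ∈ V, σ * x ≠ x * σ := by
    obtain ⟨P', hP'⟩ := (IsPGroup.of_card (p := 2) (G := ↥V) (n := 2)
      (by rw [hVfour.1]; norm_num)).exists_le_sylow
    obtain ⟨m, hm, ⟨e'⟩⟩ := hdih P'
    by_contra hcon
    push Not at hcon
    obtain ⟨H, hH⟩ := (Fusion.Dihedral.Coords.ofEquiv e').exists_index_two
      (Nat.le_self_pow (by omega) 2) hP' hVfour (fun σ hσ ho x hx => hcon σ hσ ho x hx)
    rcases (Subgroup.normal_of_index_eq_two hH).eq_bot_or_eq_top with hb | hb
    · rw [hb, Subgroup.index_bot] at hH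
      haveI := isCyclic_of_prime_card hH
      exact hna IsCyclic.isMulCommutative
    · rw [hb, Subgroup.index_top] at hH
      omega
  set H := M ⊔ zpowers t with hH
  have hMH : M ≤ H := le_sup_left
  have htH : t ∈ H := mem_sup_right (mem_zpowers t)
  have hHmem : ∀ g ∈ H, g ∈ M ∨ g * t ∈ M := by
    intro g hg
    rw [hH, ← SetLike.mem_coe, Subgroup.normal_mul] at hg
    obtain ⟨m, hm, _, ⟨i, rfl⟩, rfl⟩ := hg
    rcases Int.even_or_odd' i with ⟨j, rfl | rfl⟩
    · left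
      show m * t ^ (2 * j) ∈ M
      rwa [zpow_mul, show t ^ (2 : ℤ) = 1 by rw [zpow_two, ht], one_zpow, mul_one]
    · right
      show m * t ^ (2 * j + 1) * t ∈ M
      rwa [zpow_add, zpow_mul, show t ^ (2 : ℤ) = 1 by rw [zpow_two, ht], one_zpow, one_mul, zpow_one,
        mul_assoc, ht, mul_one]
  -- Frattini: a rotation in the normaliser of `S`
  set VX := V.map M.subtype with hVX
  have hVXT : VX ≤ T := by
    rintro _ ⟨x, hx, rfl⟩
    exact hvwT x hx
  obtain ⟨r, hrS, hrM, hract⟩ : ∃ r ∈ normalizer ((S : Subgroup X) : Set X), r ∈ M ∧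
      ∀ x ∈ VX, r * x * r⁻¹ = (σ : X) * x * (σ : X)⁻¹ := by
    set C0 := centralizer (VX : Set X) ⊓ H with hC0
    have htC : t ∈ C0 := ⟨mem_centralizer_iff.2 (by rintro _ ⟨x, hx, rfl⟩; exact hVt x hx), htH⟩
    have hσC : ∀ c ∈ C0, (σ : X) * c * (σ : X)⁻¹ ∈ C0 := by
      intro c hc
      refine ⟨mem_centralizer_iff.2 ?_, mul_mem (mul_mem (hMH σ.2) hc.2) (H.inv_mem (hMH σ.2))⟩
      rintro _ ⟨x, hx, rfl⟩
      have hx' := (mem_normalizer_iff.1 (inv_mem hσV) x).1 hx
      rw [inv_inv] at hx'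
      have h1 : ((σ⁻¹ * x * σ : ↥M) : X) * c = c * ((σ⁻¹ * x * σ : ↥M) : X) :=
        mem_centralizer_iff.1 hc.1 _ ⟨_, hx', rfl⟩
      simp only [Subgroup.coe_mul, Subgroup.coe_inv] at h1
      show (x : X) * ((σ : X) * c * (σ : X)⁻¹) = (σ : X) * c * (σ : X)⁻¹ * x
      calc (x : X) * ((σ : X) * c * (σ : X)⁻¹)
          = (σ : X) * (((σ : X)⁻¹ * x * σ) * c) * (σ : X)⁻¹ := by group
        _ = (σ : X) * (c * ((σ : X)⁻¹ * x * σ)) * (σ : X)⁻¹ := by rw [h1]
        _ = _ := by group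
    obtain ⟨T1, hT1⟩ := exists_sylow_of_sq (G := ↥C0) (w := ⟨t, htC⟩) (Subtype.ext ht)
    have hT1S : ∀ x : ↥C0, x ∈ (T1 : Subgroup ↥C0) → (x : X) ∈ (S : Subgroup X) := fun x hx =>
      hsyl _ (T1.isPGroup'.map C0.subtype) ⟨_, hT1, rfl⟩ ⟨x, hx, rfl⟩
    have ht'C := hσC t htC
    obtain ⟨T2, hT2⟩ := exists_sylow_of_sq (G := ↥C0) (w := ⟨_, ht'C⟩)
      (Subtype.ext (show (σ : X) * t * (σ : X)⁻¹ * ((σ : X) * t * (σ : X)⁻¹) = 1 by
        rw [conj_mul, ht, mul_one, mul_inv_cancel]))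
    obtain ⟨c, hc⟩ := MulAction.exists_smul_eq ↥C0 T2 T1
    have h2 := hT1S _ (hc ▸ conj_mem_smul c hT2)
    simp only [Subgroup.coe_mul, Subgroup.coe_inv] at h2
    have hR : (c : X) * σ ∈ normalizer ((S : Subgroup X) : Set X) := star _ (by
      rwa [show (c : X) * σ * t * ((c : X) * σ)⁻¹ = (c : X) * ((σ : X) * t * (σ : X)⁻¹) * (c : X)⁻¹ by
        group])
    have hact : ∀ x ∈ VX, (c : X) * σ * x * ((c : X) * σ)⁻¹ = (σ : X) * x * (σ : X)⁻¹ := by
      rintro _ ⟨x, hx, rfl⟩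
      have hx' := (mem_normalizer_iff.1 hσV x).1 hx
      have h1 : ((σ * x * σ⁻¹ : ↥M) : X) * (c : X) = (c : X) * ((σ * x * σ⁻¹ : ↥M) : X) :=
        mem_centralizer_iff.1 c.2.1 _ ⟨_, hx', rfl⟩
      simp only [Subgroup.coe_mul, Subgroup.coe_inv] at h1
      show (c : X) * σ * (x : X) * ((c : X) * σ)⁻¹ = (σ : X) * x * (σ : X)⁻¹
      calc (c : X) * σ * (x : X) * ((c : X) * σ)⁻¹
          = (c : X) * ((σ : X) * x * (σ : X)⁻¹) * (c : X)⁻¹ := by group
        _ = _ := by rw [← h1, mul_inv_cancel_right]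
    rcases hHmem _ (mul_mem c.2.2 (hMH σ.2)) with hm | hm
    · exact ⟨_, hR, hm, hact⟩
    · refine ⟨_, mul_mem hR (le_normalizer htS), hm, fun x hx => ?_⟩
      obtain ⟨x, hx', rfl⟩ := hx
      have h1 : t * (x : X) * t⁻¹ = x := by rw [← hVt x hx', mul_inv_cancel_right]
      show (c : X) * σ * t * (x : X) * ((c : X) * σ * t)⁻¹ = (σ : X) * x * (σ : X)⁻¹
      calc (c : X) * σ * t * (x : X) * ((c : X) * σ * t)⁻¹
          = (c : X) * σ * (t * (x : X) * t⁻¹) * ((c : X) * σ)⁻¹ := by group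
        _ = _ := by rw [h1]; exact hact _ ⟨x, hx', rfl⟩
  have hσVX : ∀ x ∈ (VX : Set X), (σ : X) * x * (σ : X)⁻¹ ∈ (VX : Set X) := by
    rintro _ ⟨x, hx, rfl⟩
    exact ⟨_, (mem_normalizer_iff.1 hσV x).1 hx, rfl⟩
  -- only the identity is fixed by the rotation
  have hmove : ∀ x ∈ V, x ≠ 1 → σ * x * σ⁻¹ ≠ x := by
    intro x hx hx1 hfixed
    obtain ⟨b, hb, hb2⟩ := hσne
    have hσx : σ * x = x * σ := mul_inv_eq_iff_eq_mul.1 hfixed
    refine hb2 (commute_of_pow hσo ?_)
    by_cases hbx : b = 1 ∨ b = x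
    · rcases hbx with rfl | rfl
      · rw [mul_one, one_mul]
      · have e1 : Commute σ b := hσx
        exact (e1.mul_left e1).eq
    push Not at hbx
    have hbσ : σ * b * σ⁻¹ ∈ V := (mem_normalizer_iff.1 hσV b).1 hb
    have hxb : x * b ≠ 1 := fun h => hbx.2 (by
      rw [← inv_eq_of_mul_eq_one_right h, inv_eq_of_mul_eq_one_right (hVsq x hx)])
    let f : Fin 4 → ↥V := ![1, ⟨x, hx⟩, ⟨b, hb⟩, ⟨x * b, mul_mem hx hb⟩]
    have hf : Function.Injective f := by
      intro i j hij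
      have h2 : ((f i : ↥V) : ↥M) = ((f j : ↥V) : ↥M) := by rw [hij]
      fin_cases i <;> fin_cases j <;> simp [f] at h2 ⊢ <;>
        first
          | exact hx1 h2 | exact hx1 h2.symm | exact hbx.1 h2 | exact hbx.1 h2.symm
          | exact hbx.2 h2 | exact hbx.2 h2.symm | exact hxb h2 | exact hxb h2.symm
    obtain ⟨i, hi⟩ := ((Nat.bijective_iff_injective_and_card f).2
      ⟨hf, by rw [hVfour.1]; simp⟩).2 ⟨_, hbσ⟩
    have hi' : ((f i : ↥V) : ↥M) = σ * b * σ⁻¹ := by rw [hi]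
    fin_cases i <;> simp [f] at hi'
    · exact absurd (conj_eq_one_iff.1 hi'.symm) hbx.1
    · refine absurd ?_ hbx.2
      calc b = σ⁻¹ * (σ * b * σ⁻¹) * σ := by group
        _ = σ⁻¹ * (x * σ) := by rw [← hi', mul_assoc]
        _ = x := by rw [← hσx, inv_mul_cancel_left]
    · have h1 := mul_inv_eq_iff_eq_mul.1 hi'.symm
      rw [mul_assoc, h1, ← mul_assoc, h1, mul_assoc]
    · refine mul_inv_eq_iff_eq_mul.1 ?_
      calc σ * σ * b * (σ * σ)⁻¹ = σ * (σ * b * σ⁻¹) * σ⁻¹ := by group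
        _ = σ * x * σ⁻¹ * (σ * b * σ⁻¹) := by
          conv_lhs => rw [← hi']
          group
        _ = x * (x * b) := by rw [hfixed, ← hi']
        _ = b := by rw [← mul_assoc, hVsq x hx, one_mul]
  -- the Sylow subgroup of `M` is the four-group
  have hn' : n = 1 := by
    by_contra hne
    obtain ⟨k, hk⟩ := haut (by omega) r (hTn r hrS)
    obtain ⟨d, hd⟩ := hσo
    have hcop : (2 ^ k).Coprime (orderOf σ) := (Nat.coprime_two_left.2 ⟨d, hd⟩).pow_left k
    obtain ⟨j, hj⟩ := exists_pow_eq_self_of_coprime hcop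
    refine hmove v (Or.inr (Or.inl rfl)) hv1 (Subtype.ext ?_)
    show (σ : X) * v * (σ : X)⁻¹ = v
    have hvX : (v : X) ∈ VX := ⟨v, Or.inr (Or.inl rfl), rfl⟩
    have h1 : ((σ : X) ^ 2 ^ k) * v * ((σ : X) ^ 2 ^ k)⁻¹ = v := by
      rw [← (conj_pow_eq hσVX hract (2 ^ k) _ hvX).1]
      exact hk _ hvT
    have hc : Commute ((σ : X) ^ 2 ^ k) (v : X) := mul_inv_eq_iff_eq_mul.1 h1
    have h2 := (hc.pow_left j).eq
    rw [← SubgroupClass.coe_pow, ← SubgroupClass.coe_pow, hj] at h2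
    rw [h2, mul_inv_cancel_right]
  have hTV : T = VX := by
    refine (Subgroup.eq_of_le_of_card_ge hVXT ?_).symm
    rw [Nat.card_congr e.toEquiv, DihedralGroup.nat_card, hn',
      Subgroup.card_map_of_injective M.subtype_injective, hVfour.1]
    norm_num
  have hTsq : ∀ a ∈ T, a * a = 1 := by
    rw [hTV]; rintro _ ⟨x, hx, rfl⟩; exact congrArg Subtype.val (hVsq x hx)
  have hTc : ∀ a ∈ T, ∀ b ∈ T, a * b = b * a := by
    rw [hTV]; rintro _ ⟨x, hx, rfl⟩ _ ⟨y, hy, rfl⟩; exact congrArg Subtype.val (hVc x hx y hy)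
  have hTt : ∀ a ∈ T, a * t = t * a := by
    rw [hTV]; rintro _ ⟨x, hx, rfl⟩; exact hVt x hx
  have hrT : ∀ a ∈ T, a ≠ 1 → r * a * r⁻¹ ≠ a := by
    rw [hTV]
    rintro _ ⟨x, hx, rfl⟩ h1 h2
    have h3 := hract _ ⟨x, hx, rfl⟩
    rw [h2] at h3
    exact hmove x hx (fun e => h1 (by rw [e]; rfl)) (Subtype.ext h3.symm)
  have hrTn := hTn r hrS
  -- the element of `t T` fixed by the rotation
  obtain ⟨u, hu, hufix⟩ : ∃ u ∈ T, r * (u * t) * r⁻¹ = u * t := by
    have hrt : r * t * r⁻¹ * t⁻¹ ∈ T := by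
      refine ⟨mul_mem ((mem_normalizer_iff.1 hrS t).1 htS) ((S : Subgroup X).inv_mem htS), ?_⟩
      rw [show r * t * r⁻¹ * t⁻¹ = r * (t * r⁻¹ * t⁻¹) by group]
      exact mul_mem hrM ((inferInstance : M.Normal).conj_mem _ (inv_mem hrM) t)
    let φ : ↥T → ↥T := fun a => ⟨r * a * r⁻¹ * a,
      mul_mem ((mem_normalizer_iff.1 hrTn a).1 a.2) a.2⟩
    have hφ : Function.Injective φ := by
      intro a b hab
      have hab' : r * (a : X) * r⁻¹ * a = r * b * r⁻¹ * b := congrArg Subtype.val hab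
      by_contra hne
      have hab1 : (a : X) * b ≠ 1 := fun h => hne (Subtype.ext (by
        rw [← inv_eq_of_mul_eq_one_right h, inv_eq_of_mul_eq_one_right (hTsq _ a.2)]))
      refine hrT _ (mul_mem a.2 b.2) hab1 ?_
      have hca : r * (a : X) * r⁻¹ ∈ T := (mem_normalizer_iff.1 hrTn a).1 a.2
      calc r * ((a : X) * b) * r⁻¹ = (r * a * r⁻¹) * (r * b * r⁻¹) := by group
        _ = (r * a * r⁻¹) * ((r * b * r⁻¹ * b) * b) := by rw [mul_assoc (r * b * r⁻¹) (b : X) b,
              hTsq _ b.2, mul_one]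
        _ = (r * a * r⁻¹) * ((r * a * r⁻¹ * a) * b) := by rw [hab']
        _ = ((r * a * r⁻¹) * (r * a * r⁻¹)) * ((a : X) * b) := by group
        _ = (a : X) * b := by rw [hTsq _ hca, one_mul]
    obtain ⟨⟨u, hu⟩, huφ⟩ := (Finite.injective_iff_surjective.1 hφ) ⟨_, hrt⟩
    have huφ' : r * u * r⁻¹ * u = r * t * r⁻¹ * t⁻¹ := congrArg Subtype.val huφ
    have hcu : r * u * r⁻¹ ∈ T := (mem_normalizer_iff.1 hrTn u).1 hu
    refine ⟨u, hu, ?_⟩
    calc r * (u * t) * r⁻¹ = (r * u * r⁻¹) * (r * t * r⁻¹ * t⁻¹) * t := by group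
      _ = (r * u * r⁻¹) * (r * u * r⁻¹ * u) * t := by rw [huφ']
      _ = ((r * u * r⁻¹) * (r * u * r⁻¹)) * (u * t) := by group
      _ = u * t := by rw [hTsq _ hcu, one_mul]
  set t₀ := u * t with ht₀
  have ht₀2 : t₀ * t₀ = 1 := by
    calc t₀ * t₀ = u * (t * u) * t := by rw [ht₀]; group
      _ = u * u * (t * t) := by rw [← hTt u hu]; group
      _ = 1 := by rw [hTsq u hu, ht, one_mul]
  have ht₀M : t₀ ∉ M := fun h => htM (by
    have := M.mul_mem (M.inv_mem hu.2) h
    rwa [ht₀, inv_mul_cancel_left] at this)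
  -- the Sylow subgroup of `H`
  set A := (S : Subgroup X) ⊓ H with hA
  have htA : t ∈ A := ⟨htS, htH⟩
  have hAcases : ∀ x ∈ A, x ∈ T ∨ x * t ∈ T := fun x hx =>
    (hHmem x hx.2).imp (fun h => ⟨hx.1, h⟩) fun h => ⟨mul_mem hx.1 htS, h⟩
  have hAcomm : ∀ x ∈ A, ∀ y ∈ A, x * y = y * x := by
    have hdec : ∀ x ∈ A, ∃ a ∈ T, x = a ∨ x = a * t := fun x hx => by
      rcases hAcases x hx with h | h
      · exact ⟨x, h, Or.inl rfl⟩
      · exact ⟨x * t, h, Or.inr (by rw [mul_assoc, ht, mul_one])⟩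
    intro x hx y hy
    obtain ⟨a, ha, hxa⟩ := hdec x hx
    obtain ⟨b, hb, hyb⟩ := hdec y hy
    have e1 : Commute a b := hTc a ha b hb
    have e2 : Commute a t := hTt a ha
    have e3 : Commute b t := hTt b hb
    rcases hxa with rfl | rfl <;> rcases hyb with rfl | rfl
    exacts [e1.eq, (e1.mul_right e2).eq, (e1.mul_left e3.symm).eq,
      ((e1.mul_left e3.symm).mul_right (e2.mul_left (Commute.refl t))).eq]
  have ht₀A : t₀ ∈ A := ⟨mul_mem hu.1 htS, mul_mem (hMH hu.2) htH⟩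
  obtain ⟨TH, hTH⟩ := ((S.isPGroup'.to_le (inf_le_left : A ≤ (S : Subgroup X))).comap_subtype
    (K := H)).exists_le_sylow
  have hTHA : ∀ x : ↥H, x ∈ (TH : Subgroup ↥H) → (x : X) ∈ A := fun x hx =>
    ⟨hsyl _ (TH.isPGroup'.map H.subtype) ⟨⟨t, htH⟩, hTH (show (⟨t, htH⟩ : ↥H) ∈ A.comap H.subtype
      from htA), rfl⟩ ⟨x, hx, rfl⟩, x.2⟩
  have hfixN : ∀ m ∈ normalizer ((S : Subgroup X) : Set X), m ∈ M → m * t₀ * m⁻¹ = t₀ := by
    have hcfix : ∀ d ∈ normalizer ((S : Subgroup X) : Set X), d ∈ M → (∀ a ∈ T, d * a = a * d) →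
        d * t₀ * d⁻¹ = t₀ := by
      intro d hd hdM hdT
      have hdt₀ : d * t₀ * d⁻¹ * t₀⁻¹ ∈ T := by
        refine ⟨mul_mem ((mem_normalizer_iff.1 hd t₀).1 ht₀A.1) ((S : Subgroup X).inv_mem ht₀A.1), ?_⟩
        rw [show d * t₀ * d⁻¹ * t₀⁻¹ = d * (t₀ * d⁻¹ * t₀⁻¹) by group]
        exact mul_mem hdM ((inferInstance : M.Normal).conj_mem _ (inv_mem hdM) t₀)
      set a := d * t₀ * d⁻¹ * t₀⁻¹ with hadef
      have h1 : d * t₀ * d⁻¹ = a * t₀ := by rw [hadef, inv_mul_cancel_right]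
      have h2 : ∀ j : ℕ, d ^ j * t₀ * (d ^ j)⁻¹ = a ^ j * t₀ := by
        intro j
        induction j with
        | zero => simp
        | succ j ih =>
          have hda : d * a ^ j * d⁻¹ = a ^ j := by
            have hc : Commute d a := hdT a hdt₀
            rw [(hc.pow_right j).eq, mul_inv_cancel_right]
          calc d ^ (j + 1) * t₀ * (d ^ (j + 1))⁻¹ = d * (d ^ j * t₀ * (d ^ j)⁻¹) * d⁻¹ := by
                rw [pow_succ']; group
            _ = (d * a ^ j * d⁻¹) * (d * t₀ * d⁻¹) := by rw [ih]; group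
            _ = a ^ (j + 1) * t₀ := by rw [hda, h1, pow_succ]; group
      by_cases ha1 : a = 1
      · rw [h1, ha1, one_mul]
      exfalso
      obtain ⟨k, o, ho, hko⟩ : ∃ k o, Odd o ∧ orderOf d = 2 ^ k * o := by
        obtain ⟨k, o, ho, e'⟩ := Nat.exists_eq_two_pow_mul_odd (orderOf_pos d).ne'
        exact ⟨k, o, ho, e'⟩
      have hdoM : d ^ o ∈ M := pow_mem hdM o
      have hdoT : d ^ o ∈ T := ⟨htwo _ (pow_mem hd o) k (by
        rw [← pow_mul, mul_comm, ← hko, pow_orderOf_eq_one]), hdoM⟩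
      have h3 : d ^ o * t₀ * (d ^ o)⁻¹ = t₀ := by
        rw [hAcomm _ ⟨hdoT.1, hMH hdoT.2⟩ t₀ ht₀A, mul_inv_cancel_right]
      rw [h2, mul_eq_right] at h3
      obtain ⟨i, rfl⟩ := ho
      rw [pow_succ, pow_mul, pow_two, hTsq a hdt₀, one_pow, one_mul] at h3
      exact ha1 h3
    have hfix1 : ∀ d ∈ normalizer ((S : Subgroup X) : Set X), d ∈ M →
        d * (v : X) * d⁻¹ = v → d * t₀ * d⁻¹ = t₀ := by
      intro d hd hdM hdv
      refine hcfix d hd hdM fun a ha => mul_inv_eq_iff_eq_mul.1 ?_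
      have key : ∀ x ∈ V, d * (x : X) * d⁻¹ = x := by
        have hdw : d * (w : X) * d⁻¹ = w := by
          have hwd : d * (w : X) * d⁻¹ ∈ VX := hTV ▸ (mem_normalizer_iff.1 (hTn d hd) _).1 hwT
          obtain ⟨x, hx, hxe⟩ := hwd
          change (x : X) = d * (w : X) * d⁻¹ at hxe
          rcases hx with rfl | rfl | rfl | rfl
          · exact absurd (conj_eq_one_iff.1 hxe.symm) fun h => hw1 (Subtype.ext h)
          · exact absurd (mul_left_cancel (mul_right_cancel (hxe.symm.trans hdv.symm)))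
              fun h => hvw (Subtype.ext h).symm
          · exact hxe.symm
          · exfalso
            obtain ⟨k, o, ho, hko⟩ := Nat.exists_eq_two_pow_mul_odd (orderOf_pos d).ne'
            have hdoT : d ^ o ∈ T := ⟨htwo _ (pow_mem hd o) k (by
              rw [← pow_mul, mul_comm, ← hko, pow_orderOf_eq_one]), pow_mem hdM o⟩
            obtain ⟨i, rfl⟩ := ho
            have hd2 : Commute (d * d) (w : X) := mul_inv_eq_iff_eq_mul.1 (by
              calc d * d * (w : X) * (d * d)⁻¹ = d * (d * (w : X) * d⁻¹) * d⁻¹ := by group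
                _ = (d * (v : X) * d⁻¹) * (d * (w : X) * d⁻¹) := by
                  conv_lhs => rw [← hxe, Subgroup.coe_mul]
                  group
                _ = (v : X) * ((v : X) * w) := by rw [hdv, ← hxe, Subgroup.coe_mul]
                _ = w := by rw [← mul_assoc, ← Subgroup.coe_mul, hvv, Subgroup.coe_one, one_mul])
            have h1 : (d ^ (2 * i + 1)) * (w : X) * (d ^ (2 * i + 1))⁻¹ = w := by
              rw [hTc _ hdoT _ hwT, mul_inv_cancel_right]
            have h2 : (d ^ (2 * i + 1)) * (w : X) * (d ^ (2 * i + 1))⁻¹ = d * (w : X) * d⁻¹ := by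
              rw [pow_succ', pow_mul, pow_two]
              calc d * (d * d) ^ i * (w : X) * (d * (d * d) ^ i)⁻¹
                  = d * ((d * d) ^ i * (w : X) * ((d * d) ^ i)⁻¹) * d⁻¹ := by group
                _ = _ := by rw [(hd2.pow_left i).eq, mul_inv_cancel_right]
            rw [h1, ← hxe, Subgroup.coe_mul, right_eq_mul] at h2
            exact hv1 (Subtype.ext h2)
        rintro x (rfl | rfl | rfl | rfl)
        · simp
        · exact hdv
        · exact hdw
        · rw [Subgroup.coe_mul, ← conj_mul, hdv, hdw]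
      rw [hTV] at ha
      obtain ⟨x, hx, rfl⟩ := ha
      exact key x hx
    intro m hm hmM
    have hr1 : r * (v : X) * r⁻¹ ∈ VX := hTV ▸ (mem_normalizer_iff.1 hrTn _).1 hvT
    have hr2 : r * (r * (v : X) * r⁻¹) * r⁻¹ ∈ VX := hTV ▸ (mem_normalizer_iff.1 hrTn _).1 (hTV ▸ hr1)
    have hm1 : m * (v : X) * m⁻¹ ∈ VX := hTV ▸ (mem_normalizer_iff.1 (hTn m hm) _).1 hvT
    have hv1' : (v : X) ≠ 1 := fun h => hv1 (Subtype.ext h)
    have hrv : r * (v : X) * r⁻¹ ≠ v := hrT _ hvT hv1'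
    have hrv1 : r * (v : X) * r⁻¹ ≠ 1 := fun h => hv1' (conj_eq_one_iff.1 h)
    have hrrv : r * (r * (v : X) * r⁻¹) * r⁻¹ ≠ r * (v : X) * r⁻¹ :=
      hrT _ (hTV ▸ hr1) hrv1
    have hrrv' : r * (r * (v : X) * r⁻¹) * r⁻¹ ≠ v := by
      intro h
      have h2 : Commute ((σ : X) * σ) (v : X) := by
        refine mul_inv_eq_iff_eq_mul.1 ?_
        have := (conj_pow_eq hσVX hract 2 (v : X) ⟨v, Or.inr (Or.inl rfl), rfl⟩).1
        rw [pow_two, pow_two, show r * r * (v : X) * (r * r)⁻¹ = r * (r * v * r⁻¹) * r⁻¹ by group,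
          h] at this
        exact this.symm
      have h3 : (σ : X) * v = v * σ := commute_of_pow (by rwa [Subgroup.orderOf_coe]) h2.eq
      refine hmove v (Or.inr (Or.inl rfl)) hv1 (Subtype.ext ?_)
      show (σ : X) * v * (σ : X)⁻¹ = v
      rw [h3, mul_inv_cancel_right]
    have hposs : ∀ a ∈ VX, a ≠ 1 → a = v ∨ a = r * (v : X) * r⁻¹ ∨
        a = r * (r * (v : X) * r⁻¹) * r⁻¹ := by
      intro a ha ha1
      by_contra hcon
      push Not at hcon
      let f : Fin 5 → ↥VX := ![1, ⟨a, ha⟩, ⟨v, v, Or.inr (Or.inl rfl), rfl⟩, ⟨_, hr1⟩, ⟨_, hr2⟩]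
      have hrr1 : r * (r * (v : X) * r⁻¹) * r⁻¹ ≠ 1 := fun h => hrv1 (conj_eq_one_iff.1 h)
      have hf : Function.Injective f := by
        intro i j hij
        have h2 : ((f i : ↥VX) : X) = ((f j : ↥VX) : X) := by rw [hij]
        fin_cases i <;> fin_cases j <;> simp [f] at h2 ⊢ <;>
          first
            | exact ha1 h2 | exact ha1 h2.symm | exact hv1 h2 | exact hv1 h2.symm | exact hv1' h2 | exact hv1' h2.symm
            | exact hrv1 h2 | exact hrv1 h2.symm | exact hrr1 h2 | exact hrr1 h2.symm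
            | exact hcon.1 h2 | exact hcon.1 h2.symm | exact hcon.2.1 h2 | exact hcon.2.1 h2.symm
            | exact hcon.2.2 h2 | exact hcon.2.2 h2.symm | exact hrv h2 | exact hrv h2.symm
            | exact hrrv h2 | exact hrrv h2.symm | exact hrrv' h2 | exact hrrv' h2.symm
      have := Nat.card_le_card_of_injective f hf
      rw [Subgroup.card_map_of_injective M.subtype_injective, hVfour.1, Nat.card_eq_fintype_card,
        Fintype.card_fin] at this
      omega
    have hfr : r⁻¹ * t₀ * r⁻¹⁻¹ = t₀ := by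
      calc r⁻¹ * t₀ * r⁻¹⁻¹ = r⁻¹ * (r * t₀ * r⁻¹) * r⁻¹⁻¹ := by rw [hufix]
        _ = t₀ := by group
    have hr' : r⁻¹ ∈ normalizer ((S : Subgroup X) : Set X) := inv_mem hrS
    rcases hposs _ hm1 (fun h => hv1' (conj_eq_one_iff.1 h)) with h | h | h
    · exact hfix1 m hm hmM h
    · have h1 := hfix1 (r⁻¹ * m) (mul_mem hr' hm) (mul_mem (inv_mem hrM) hmM) (by
        calc r⁻¹ * m * (v : X) * (r⁻¹ * m)⁻¹ = r⁻¹ * (m * (v : X) * m⁻¹) * r⁻¹⁻¹ := by group
          _ = v := by rw [h]; group)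
      calc m * t₀ * m⁻¹ = r * (r⁻¹ * m * t₀ * (r⁻¹ * m)⁻¹) * r⁻¹ := by group
        _ = t₀ := by rw [h1, hufix]
    · have h1 := hfix1 (r⁻¹ * r⁻¹ * m) (mul_mem (mul_mem hr' hr') hm)
        (mul_mem (mul_mem (inv_mem hrM) (inv_mem hrM)) hmM) (by
        calc r⁻¹ * r⁻¹ * m * (v : X) * (r⁻¹ * r⁻¹ * m)⁻¹
            = r⁻¹ * r⁻¹ * (m * (v : X) * m⁻¹) * (r⁻¹ * r⁻¹)⁻¹ := by group
          _ = v := by rw [h]; group)
      calc m * t₀ * m⁻¹ = r * (r * (r⁻¹ * r⁻¹ * m * t₀ * (r⁻¹ * r⁻¹ * m)⁻¹) * r⁻¹) * r⁻¹ := by group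
        _ = t₀ := by rw [h1, hufix, hufix]
  have hiso : ∀ g : ↥H, g * ⟨t₀, ht₀A.2⟩ * g⁻¹ ∈ (TH : Subgroup ↥H) →
      g * ⟨t₀, ht₀A.2⟩ * g⁻¹ = ⟨t₀, ht₀A.2⟩ := by
    intro g hg
    have hgA : (g : X) * t₀ * (g : X)⁻¹ ∈ A := hTHA _ hg
    set s := (g : X) * t₀ * (g : X)⁻¹ with hs
    set C := H ⊓ centralizer ({s} : Set X) with hC
    have hAC : A ≤ C := fun x hx => ⟨hx.2, mem_centralizer_singleton_iff.2 (hAcomm x hx s hgA)⟩
    have ht'C : (g : X) * t * (g : X)⁻¹ ∈ C := ⟨mul_mem (mul_mem g.2 htH) (H.inv_mem g.2),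
      mem_centralizer_singleton_iff.2 (by rw [hs, conj_mul, conj_mul, hAcomm t htA t₀ ht₀A])⟩
    obtain ⟨T1, hT1⟩ := exists_sylow_of_sq (G := ↥C) (w := ⟨t, hAC htA⟩) (Subtype.ext ht)
    obtain ⟨T2, hT2⟩ := exists_sylow_of_sq (G := ↥C) (w := ⟨_, ht'C⟩)
      (Subtype.ext (show (g : X) * t * (g : X)⁻¹ * ((g : X) * t * (g : X)⁻¹) = 1 by
        rw [conj_mul, ht, mul_one, mul_inv_cancel]))
    obtain ⟨c, hc⟩ := MulAction.exists_smul_eq ↥C T2 T1
    have h2 := hsyl _ (T1.isPGroup'.map C.subtype) ⟨_, hT1, rfl⟩ ⟨_, hc ▸ conj_mem_smul c hT2, rfl⟩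
    have hN : (c : X) * g ∈ normalizer ((S : Subgroup X) : Set X) := star _ (by
      change (c : X) * ((g : X) * t * (g : X)⁻¹) * (c : X)⁻¹ ∈ (S : Subgroup X) at h2
      rwa [show (c : X) * g * t * ((c : X) * g)⁻¹ = (c : X) * ((g : X) * t * (g : X)⁻¹) * (c : X)⁻¹ by
        group])
    have hkey : (c : X) * g * t₀ * ((c : X) * g)⁻¹ = s := by
      calc (c : X) * g * t₀ * ((c : X) * g)⁻¹ = (c : X) * s * (c : X)⁻¹ := by rw [hs]; group
        _ = s := by rw [mem_centralizer_singleton_iff.1 c.2.2, mul_inv_cancel_right]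
    apply Subtype.ext
    show s = t₀
    rw [← hkey]
    rcases hHmem _ (mul_mem c.2.1 g.2) with h | h
    · exact hfixN _ hN h
    · have h1 := hfixN _ (mul_mem hN (le_normalizer htS)) h
      calc (c : X) * g * t₀ * ((c : X) * g)⁻¹
          = ((c : X) * g * t) * (t⁻¹ * t₀ * t) * ((c : X) * g * t)⁻¹ := by group
        _ = ((c : X) * g * t) * t₀ * ((c : X) * g * t)⁻¹ := by
            rw [mul_assoc t⁻¹ t₀ t, ← hAcomm t htA t₀ ht₀A, inv_mul_cancel_left]
        _ = t₀ := h1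
  have ho₀ : orderOf (⟨t₀, ht₀A.2⟩ : ↥H) = 2 :=
    orderOf_eq_prime (by rw [pow_two]; exact Subtype.ext ht₀2)
      fun h => ht₀M (by rw [show t₀ = 1 from congrArg Subtype.val h]; exact one_mem M)
  obtain ⟨N, hNn, hNodd, hNc⟩ := Cfsg.Agent.S0215.result TH ⟨t₀, ht₀A.2⟩ ho₀
    (hTH (show (⟨t₀, ht₀A.2⟩ : ↥H) ∈ A.comap H.subtype from ht₀A)) hiso
  set Kb : Subgroup ↥M := (N.map H.subtype).subgroupOf M with hKb
  have hKn : Kb.Normal := ⟨fun k hk m => by
    obtain ⟨n, hn, hnk⟩ := hk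
    refine ⟨(⟨m, hMH m.2⟩ : ↥H) * n * (⟨m, hMH m.2⟩ : ↥H)⁻¹, hNn.conj_mem n hn _, ?_⟩
    have hnk' : (n : X) = (k : X) := hnk
    simp [hnk']⟩
  have hKbot : Kb = ⊥ := hKn.eq_bot_or_eq_top.resolve_right fun h => by
    have hd := Subgroup.card_dvd_of_le (Subgroup.subgroupOf_eq_top.1 h : M ≤ N.map H.subtype)
    rw [Subgroup.card_map_of_injective H.subtype_injective] at hd
    exact hna ⟨⟨IsSimpleGroup.comm_iff_isSolvable.2 (Cfsg.Agent.S0205.result (hNodd.of_dvd_nat hd))⟩⟩
  refine ht₀M ?_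
  suffices hz : t₀ ∈ centralizer (M : Set X) by
    rw [hcent, Subgroup.mem_bot] at hz
    rw [hz]
    exact one_mem M
  refine mem_centralizer_iff.2 fun m hm => ?_
  have h : (⟨t₀ * m * t₀⁻¹ * m⁻¹, mul_mem (Subgroup.Normal.conj_mem inferInstance m hm t₀)
      (inv_mem hm)⟩ : ↥M) ∈ Kb := ⟨_, hNc ⟨m, hMH hm⟩, rfl⟩
  rw [hKbot, Subgroup.mem_bot] at h
  have h' : t₀ * m * t₀⁻¹ * m⁻¹ = 1 := congrArg Subtype.val h
  exact (mul_inv_eq_iff_eq_mul.1 (mul_inv_eq_one.1 h')).symm

end Cfsg.Agent.Lib.Inter3310
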