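import Cfsg.Agent.Lib.Inter3310.Quat
import Cfsg.Agent.Lib.Inter3310.AFive
import Cfsg.Agent.Lib.Walter.PairsX
import Cfsg.Agent.Lib.CosetGraph.SylowIn

/-!
# Two components: the central product of two copies of `SL(2,5)`
-/

set_option autoImplicit false
set_option linter.style.haveILetI false
set_option linter.unusedSectionVars false

namespace Cfsg.Agent.Lib.Inter3310

open Subgroup
open scoped Pointwise
open Cfsg.Agent.Lib.Components

universe u

open AFive in
/-- An endomorphism of two-power order of a copy of `A₅` respecting a Sylow subgroup and trivial on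
the quotient of its normaliser is conjugation by an element of that Sylow subgroup. -/
theorem inner_of_normalizes {X : Type u} [Group X] [Finite X] (e : X ≃* A5) (T : Sylow 2 X)
    (h4 : Nat.card ↥(T : Subgroup X) = 4) (f : X →* X) (k : ℕ) (hk : ∀ x, f^[2 ^ k] x = x)
    (hT : ∀ x ∈ (T : Subgroup X), f x ∈ (T : Subgroup X))
    (hN : ∀ n ∈ normalizer ((T : Subgroup X) : Set X), f n * n⁻¹ ∈ (T : Subgroup X)) :
    ∃ t ∈ (T : Subgroup X), ∀ x, f x = t * x * t⁻¹ := by
  classical
  haveI : Fact (Nat.Prime 2) := ⟨Nat.prime_two⟩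
  let V : Subgroup A5 :=
    { carrier := {x | InV x}
      one_mem' := by decide +kernel
      mul_mem' := fun {a b} ha hb => ⟨by
          show (a : Equiv.Perm (Fin 5)) ((b : Equiv.Perm (Fin 5)) 4) = 4
          rw [hb.1, ha.1], by
          rw [mul_assoc, ← mul_assoc b a b, ← inV_comm a ha b hb, mul_assoc a b b, hb.2, mul_one, ha.2]⟩
      inv_mem' := fun {a} ha => by
        rw [inv_eq_of_mul_eq_one_right ha.2]; exact ha }
  have hV4 : Nat.card ↥V = 4 := by
    rw [show Nat.card ↥V = Nat.card {x : A5 // InV x} from rfl, Nat.card_eq_fintype_card]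
    decide +kernel
  have hVp : IsPGroup 2 ↥V := IsPGroup.of_card (n := 2) hV4
  obtain ⟨P, hP⟩ := hVp.exists_le_sylow
  set T' := T.mapSurjective (f := e.toMonoidHom) e.surjective
  have hT' : Nat.card ↥(T' : Subgroup A5) = 4 := by
    show Nat.card ↥((T : Subgroup X).map e.toMonoidHom) = 4
    rw [Subgroup.card_map_of_injective (f := e.toMonoidHom) e.injective, h4]
  have hPV : (P : Subgroup A5) = V := (Subgroup.eq_of_le_of_card_ge hP (by
    rw [hV4, Sylow.card_eq_multiplicity, ← Sylow.card_eq_multiplicity T', hT'])).symm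
  obtain ⟨g, hg⟩ := MulAction.exists_smul_eq A5 T' P
  let e' : X ≃* A5 := e.trans (MulAut.conj g)
  have hmem : ∀ x, x ∈ (T : Subgroup X) ↔ InV (e' x) := by
    intro x
    show _ ↔ e' x ∈ V
    rw [← hPV, ← hg, mem_smul_iff]
    show _ ↔ g⁻¹ * (g * e x * g⁻¹) * g ∈ (T : Subgroup X).map e.toMonoidHom
    rw [show g⁻¹ * (g * e x * g⁻¹) * g = e x by group]
    exact (Subgroup.mem_map_iff_mem (f := e.toMonoidHom) e.injective).symm
  set f' : A5 →* A5 := (e'.toMonoidHom.comp f).comp e'.symm.toMonoidHom with hf'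
  have hit : ∀ j x, f'^[j] x = e' (f^[j] (e'.symm x)) := by
    intro j x
    induction j with
    | zero => simp
    | succ j ih =>
      rw [Function.iterate_succ_apply', Function.iterate_succ_apply', ih]
      show e' (f (e'.symm (e' _))) = _
      rw [e'.symm_apply_apply]
  have hcn : e'.symm cn ∈ normalizer ((T : Subgroup X) : Set X) := by
    refine mem_normalizer_iff.2 fun x => ?_
    rw [hmem, hmem, map_mul, map_mul, map_inv, e'.apply_symm_apply]
    refine ⟨inV_conj _, fun hx => ?_⟩
    have h1 := inV_conj _ (inV_conj _ hx)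
    have h3 : cn * cn * cn = 1 := by decide +kernel
    rwa [show cn * (cn * (cn * e' x * cn⁻¹) * cn⁻¹) * cn⁻¹ =
      cn * cn * cn * e' x * (cn * cn * cn)⁻¹ by group, h3, one_mul, inv_one, mul_one] at h1
  obtain ⟨t, ht, htx⟩ := inner_of_two f' k (fun x => by rw [hit, hk, e'.apply_symm_apply])
    (fun v hv => (hmem _).1 (hT _ ((hmem (e'.symm v)).2 (by rwa [e'.apply_symm_apply]))))
    (by
      have := (hmem _).1 (hN _ hcn)
      rwa [map_mul, map_inv, e'.apply_symm_apply] at this)
  refine ⟨e'.symm t, (hmem _).2 (by rwa [e'.apply_symm_apply]), fun x => e'.injective ?_⟩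
  have h1 := htx (e' x)
  rw [map_mul, map_mul, map_inv, e'.apply_symm_apply, ← h1]
  show e' (f x) = e' (f (e'.symm (e' x)))
  rw [e'.symm_apply_apply]

variable {G : Type u} [Group G] [Finite G] {z : G} {K : Subgroup G}

set_option maxHeartbeats 1000000 in
/-- A 2-element normalising `K` and a Sylow subgroup of `G` acts on `K` as an element of it. -/
theorem NI.exists_inner (h : Cen G z) (hn : NI z K) {q : G} (hq : q * q = z)
    (hqK : ∀ k ∈ K, k * q = q * k) (S : Sylow 2 G) (hqS : q ∈ (S : Subgroup G)) {s : G}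
    (hs : s ∈ (S : Subgroup G)) (hsK : ∀ k ∈ K, s * k * s⁻¹ ∈ K) :
    ∃ p ∈ (S : Subgroup G), p ∈ K ∧ ∀ k ∈ K, p⁻¹ * s * k = k * (p⁻¹ * s) := by
  classical
  haveI : Fact (Nat.Prime 2) := ⟨Nat.prime_two⟩
  have hQS := h.qs hn.comp
  obtain ⟨P, hP⟩ := Walter.Pairs.exists_sylow_subnormal S hn.comp.1
  have hPS : ∀ x : ↥K, x ∈ (P : Subgroup ↥K) ↔ (x : G) ∈ (S : Subgroup G) := fun x => by rw [hP]; rfl
  -- the normaliser of `P` normalises `S`
  have hNP : ∀ n ∈ normalizer ((P : Subgroup ↥K) : Set ↥K),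
      (n : G) ∈ normalizer ((S : Subgroup G) : Set G) := by
    intro n hnn
    obtain ⟨m, hm1, ⟨e⟩⟩ := hn.sylow_quat P
    set x : ↥(P : Subgroup ↥K) := e.symm (QuaternionGroup.xa 0) with hx
    haveI : NeZero (2 ^ m : ℕ) := ⟨pow_ne_zero m two_ne_zero⟩
    have ho : orderOf x = 4 := by rw [hx, MulEquiv.orderOf_eq, QuaternionGroup.orderOf_xa]
    have hxc : (x : ↥K) ∉ center ↥K := fun hc => by
      have h2 : x ^ 2 = 1 := Subtype.ext (Subtype.ext (by
        show ((x : ↥K) : G) ^ 2 = 1
        rcases hn.center_cases h hc with e1 | e1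
        · rw [e1, one_pow]
        · rw [e1, pow_two, h.sq]))
      have := Nat.le_of_dvd two_pos (orderOf_dvd_of_pow_eq_one h2)
      omega
    have hx2 : (x : ↥K) * x ∈ center ↥K := by
      have h4 : x * x * (x * x) = 1 := by
        have h' := pow_orderOf_eq_one x
        rw [ho] at h'
        simpa [pow_succ, mul_assoc] using h'
      rcases hn.only _ ((x * x : ↥(P : Subgroup ↥K)) : ↥K).2
        (congrArg (fun y : ↥(P : Subgroup ↥K) => ((y : ↥K) : G)) h4) with e1 | e1
      · rw [show ((x : ↥K) * x) = 1 from Subtype.ext e1]; exact one_mem _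
      · exact h.z_center e1
    have hxx := hn.sq_eq h hxc hx2
    set w := ((x : ↥K) : G) * q with hw
    have hw2 : w * w = 1 := by
      calc w * w = ((x : ↥K) : G) * (q * (x : ↥K)) * q := by rw [hw]; group
        _ = ((x : ↥K) : G) * (x : ↥K) * (q * q) := by rw [← hqK _ (x : ↥K).2]; group
        _ = 1 := by rw [hxx, hq, h.sq]
    have hcase : ∀ c : G, c ∈ center G → w = c → False := fun c hc e' => by
      refine hxc (mem_center_iff.2 fun l => Subtype.ext ?_)
      have hxe : ((x : ↥K) : G) = c * q⁻¹ := by rw [← e', hw, mul_inv_cancel_right]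
      show (l : G) * (x : ↥K) = (x : ↥K) * l
      rw [hxe]
      have e1 : Commute (l : G) c := mem_center_iff.1 hc l
      have e2 : Commute (l : G) q := hqK l l.2
      exact (e1.mul_right e2.inv_right).eq
    have hwS : w ∈ (S : Subgroup G) := mul_mem ((hPS _).1 x.2) hqS
    refine h.uni.normalizes h.central hwS hw2 (fun e' => hcase 1 (one_mem _) e')
      (fun e' => hcase z h.central e') ?_
    have hnx := (hPS _).1 ((mem_normalizer_iff.1 hnn _).1 x.2)
    have hnq : (n : G) * q * (n : G)⁻¹ = q := by rw [hqK n n.2, mul_inv_cancel_right]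
    rw [hw, show (n : G) * (((x : ↥K) : G) * q) * (n : G)⁻¹ =
      ((n : G) * (x : ↥K) * (n : G)⁻¹) * ((n : G) * q * (n : G)⁻¹) by group, hnq]
    exact mul_mem hnx hqS
  -- the automorphism of the quotient
  let c : ↥K →* ↥K :=
    { toFun := fun x => ⟨s * x * s⁻¹, hsK x x.2⟩
      map_one' := Subtype.ext (by simp)
      map_mul' := fun x y => Subtype.ext (by simp [mul_assoc]) }
  have hcc : center ↥K ≤ (center ↥K).comap c := fun x hx => by
    rcases hn.center_cases h hx with e1 | e1
    · rw [show x = 1 from Subtype.ext e1]; exact one_mem _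
    · refine h.z_center ?_
      show s * (x : G) * s⁻¹ = z
      rw [e1, mem_center_iff.1 h.central s, mul_inv_cancel_right]
  set π := QuotientGroup.mk' (center ↥K) with hπ
  let f : ↥K ⧸ center ↥K →* ↥K ⧸ center ↥K := QuotientGroup.map _ _ c hcc
  have hf : ∀ x, f (π x) = π (c x) := fun x => QuotientGroup.map_mk _ _ _ _ x
  have hit : ∀ (j : ℕ) (x : ↥K), ∀ hx : s ^ j * x * (s ^ j)⁻¹ ∈ K,
      f^[j] (π x) = π ⟨s ^ j * x * (s ^ j)⁻¹, hx⟩ := by
    intro j
    induction j with
    | zero => intro x hx; exact congrArg π (Subtype.ext (by simp))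
    | succ j ih =>
      intro x hx
      rw [Function.iterate_succ_apply, hf, ih (c x) (by
        show s ^ j * (s * x * s⁻¹) * (s ^ j)⁻¹ ∈ K
        rwa [show s ^ j * (s * x * s⁻¹) * (s ^ j)⁻¹ = s ^ (j + 1) * x * (s ^ (j + 1))⁻¹ by
          rw [pow_succ]; group])]
      exact congrArg π (Subtype.ext (by
        show s ^ j * (s * x * s⁻¹) * (s ^ j)⁻¹ = s ^ (j + 1) * x * (s ^ (j + 1))⁻¹
        rw [pow_succ]; group))
  obtain ⟨k, hk⟩ := S.isPGroup' ⟨s, hs⟩
  have hk' : s ^ 2 ^ k = 1 := congrArg Subtype.val hk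
  obtain ⟨F, _, _, hF, ⟨e0⟩⟩ := hn.linear_four h hq hqK
  obtain ⟨e4⟩ := Cfsg.Agent.S0252.result hF
  set T := P.mapSurjective (QuotientGroup.mk'_surjective (center ↥K)) with hT
  obtain ⟨t, ht, htf⟩ := inner_of_normalizes (e0.trans e4) T (hn.card_four h hq hqK T) f k
    (fun y => by
      obtain ⟨x, rfl⟩ := QuotientGroup.mk'_surjective (center ↥K) y
      rw [hit (2 ^ k) x (by rw [hk']; simp)]
      exact congrArg π (Subtype.ext (by simp [hk'])))
    (by
      rintro _ ⟨x, hx, rfl⟩
      rw [hf]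
      refine mem_map_of_mem π ((hPS _).2 ?_)
      exact mul_mem (mul_mem hs ((hPS x).1 hx)) (inv_mem hs))
    (by
      intro y hy
      obtain ⟨x, rfl⟩ := QuotientGroup.mk'_surjective (center ↥K) y
      have hxN : x ∈ normalizer ((P : Subgroup ↥K) : Set ↥K) := by
        refine mem_normalizer_iff.2 fun p => ?_
        have h1 := mem_normalizer_iff.1 hy (π p)
        rw [← map_inv, ← map_mul, ← map_mul] at h1
        constructor
        · intro hp
          obtain ⟨p', hp', e1⟩ := h1.1 (mem_map_of_mem π hp)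
          exact hQS.mem_of_pi_eq P hp' e1
        · intro hp
          obtain ⟨p', hp', e1⟩ := h1.2 (mem_map_of_mem π hp)
          exact hQS.mem_of_pi_eq P hp' e1
      rw [hf, ← map_inv, ← map_mul]
      refine mem_map_of_mem π ((hPS _).2 ?_)
      show s * (x : G) * s⁻¹ * (x : G)⁻¹ ∈ (S : Subgroup G)
      have := mul_mem hs ((mem_normalizer_iff.1 (hNP x hxN) s⁻¹).1 (inv_mem hs))
      simpa [mul_assoc] using this)
  obtain ⟨p, hp, rfl⟩ := ht
  refine ⟨(p : G), (hPS p).1 hp, p.2, ?_⟩
  -- `p⁻¹ s` centralises `K` modulo its centre, hence `K`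
  set g := (p : G)⁻¹ * s with hg
  have hmod : ∀ x : ↥K, g * x * g⁻¹ * (x : G)⁻¹ = 1 ∨ g * x * g⁻¹ * (x : G)⁻¹ = z := by
    intro x
    have h1 : π (c x) = π (p * x * p⁻¹) := by
      rw [← hf, htf, map_mul, map_mul, map_inv]
    have h2 := (inferInstance : (center ↥K).Normal).conj_mem _ (pi_eq.1 h1.symm) (x * p⁻¹)
    rcases hn.center_cases h h2 with e1 | e1
    · left
      rw [← e1]
      show _ = (x : G) * (p : G)⁻¹ * (((p : G) * x * (p : G)⁻¹)⁻¹ * (s * x * s⁻¹)) *
        ((x : G) * (p : G)⁻¹)⁻¹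
      rw [hg]; group
    · right
      rw [← e1]
      show _ = (x : G) * (p : G)⁻¹ * (((p : G) * x * (p : G)⁻¹)⁻¹ * (s * x * s⁻¹)) *
        ((x : G) * (p : G)⁻¹)⁻¹
      rw [hg]; group
  let ε : G → G := fun x => g * x * g⁻¹ * x⁻¹
  have hεc : ∀ x : ↥K, ε x ∈ center G := fun x => by
    rcases hmod x with e1 | e1
    · show g * x * g⁻¹ * (x : G)⁻¹ ∈ center G
      rw [e1]; exact one_mem _
    · show g * x * g⁻¹ * (x : G)⁻¹ ∈ center G
      rw [e1]; exact h.central
  let χ : ↥K →* ↥(center G) :=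
    { toFun := fun x => ⟨ε x, hεc x⟩
      map_one' := Subtype.ext (by simp [ε])
      map_mul' := fun a b => Subtype.ext (by
        show g * ((a : G) * b) * g⁻¹ * ((a : G) * b)⁻¹ = ε a * ε b
        have e1 : ε (b : G) * (a : G)⁻¹ = (a : G)⁻¹ * ε b := (mem_center_iff.1 (hεc b) _).symm
        calc g * ((a : G) * b) * g⁻¹ * ((a : G) * b)⁻¹
            = g * a * g⁻¹ * (ε b * (a : G)⁻¹) := by simp only [ε]; group
          _ = g * a * g⁻¹ * ((a : G)⁻¹ * ε b) := by rw [e1]
          _ = ε a * ε b := by simp only [ε]; group) }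
  intro x hx
  have hker : χ.ker = ⊤ := by
    rw [eq_top_iff, ← hQS.perfect, commutator_eq_closure, closure_le]
    rintro _ ⟨a, b, rfl⟩
    rw [SetLike.mem_coe, MonoidHom.mem_ker, map_commutatorElement, commutatorElement_eq_one_iff_mul_comm]
    exact Subtype.ext (mem_center_iff.1 (χ b).2 (χ a : G))
  have hx1 : χ ⟨x, hx⟩ = 1 := MonoidHom.mem_ker.1 (hker ▸ mem_top _)
  exact mul_inv_eq_iff_eq_mul.1 (mul_inv_eq_one.1 (congrArg Subtype.val hx1))

/-- Two components: all the data. -/
structure Pair (z : G) (K L : Subgroup G) : Prop where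
  hK : Cfsg.IsComponent K
  hL : Cfsg.IsComponent L
  ne : L ≠ K

theorem Pair.symm {L : Subgroup G} (hp : Pair z K L) : Pair z L K := ⟨hp.hL, hp.hK, Ne.symm hp.ne⟩

theorem Pair.ni {L : Subgroup G} (h : Cen G z) (hp : Pair z K L) : NI z K :=
  ⟨hp.hK, fun _ hw hw2 => h.only_z hp.hK hp.hL hp.ne hw hw2⟩

theorem Pair.comm {L : Subgroup G} (hp : Pair z K L) {k l : G} (hk : k ∈ K) (hl : l ∈ L) :
    k * l = l * k :=
  mem_centralizer_iff.1 (Component.le_centralizer_of_ne hp.hL hp.hK hp.ne hl) k hk

/-- An element of order four of `L` centralising `K`. -/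
theorem Pair.exists_q {L : Subgroup G} (h : Cen G z) (hp : Pair z K L) :
    ∃ q ∈ L, q * q = z ∧ (∀ k ∈ K, k * q = q * k) ∧ ¬ ∀ l ∈ L, l * q = q * l := by
  obtain ⟨q, hqL, hq2, hqc⟩ := (hp.symm.ni h).exists_four h
  exact ⟨q, hqL, hq2, fun k hk => hp.comm hk hqL, hqc⟩

/-- There are no other components. -/
theorem Pair.only {L : Subgroup G} (h : Cen G z) (hp : Pair z K L) {J : Subgroup G}
    (hJ : Cfsg.IsComponent J) : J = K ∨ J = L := by
  by_contra hcon
  push Not at hcon
  obtain ⟨a, haK, ha2, hac⟩ := (hp.ni h).exists_four h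
  obtain ⟨b, hbL, hb2, hbK, -⟩ := hp.exists_q h
  have hab : a * b = b * a := hp.comm haK hbL
  have hw2 : a * b * (a * b) = 1 := by
    calc a * b * (a * b) = a * (b * a) * b := by group
      _ = a * a * (b * b) := by rw [← hab]; group
      _ = 1 := by rw [ha2, hb2, h.sq]
  have hcase : ∀ c ∈ center G, a * b = c → False := fun c hc e => hac fun k hk => by
    have e1 : Commute k c := mem_center_iff.1 hc k
    have e2 : Commute k b := hbK k hk
    rw [show a = c * b⁻¹ by rw [← e, mul_inv_cancel_right]]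
    exact (e1.mul_right e2.inv_right).eq
  refine h.false_of_centralizes hJ hw2 (hcase 1 (one_mem _)) (hcase z h.central) fun j hj => ?_
  have e1 : Commute j a := (mem_centralizer_iff.1
    (Component.le_centralizer_of_ne hJ hp.hK hcon.1 hj) a haK).symm
  have e2 : Commute j b := (mem_centralizer_iff.1
    (Component.le_centralizer_of_ne hJ hp.hL hcon.2 hj) b hbL).symm
  exact (e1.mul_right e2).eq

/-- The 2-core has order two. -/
theorem Pair.core_cases {L : Subgroup G} (h : Cen G z) (hp : Pair z K L) {y : G}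
    (hy : y ∈ Cfsg.pCore 2 G) : y = 1 ∨ y = z := by
  by_contra hcon
  obtain ⟨k, hk⟩ := Cores.pCore_isPGroup (G := G) 2 ⟨y, hy⟩
  have hk' : y ^ 2 ^ k = 1 := congrArg Subtype.val hk
  obtain ⟨j, -, hj⟩ := (Nat.dvd_prime_pow Nat.prime_two).1 (orderOf_dvd_of_pow_eq_one hk')
  rcases j with _ | _ | j
  · exact hcon (Or.inl (orderOf_eq_one_iff.1 (by simpa using hj)))
  · refine hcon (h.uniq y hy ?_)
    have := pow_orderOf_eq_one y
    rwa [hj, pow_one, pow_two] at this
  set v := y ^ 2 ^ j with hv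
  have ho : orderOf v = 4 := by
    rw [hv, orderOf_pow_of_dvd (pow_ne_zero _ two_ne_zero) (hj ▸ pow_dvd_pow 2 (by omega)), hj]
    exact Nat.div_eq_of_eq_mul_left (pow_pos two_pos j) (by ring)
  have hv1 : v ^ 2 ≠ 1 := fun e => by
    have := Nat.le_of_dvd two_pos (orderOf_dvd_of_pow_eq_one e)
    omega
  have hv2 : v * v = z := by
    refine (h.uniq _ (mul_mem (pow_mem hy _) (pow_mem hy _)) ?_).resolve_left
      (fun e => hv1 (by rw [pow_two]; exact e))
    have := pow_orderOf_eq_one v
    rw [ho] at this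
    simpa [pow_succ, mul_assoc] using this
  obtain ⟨a, haK, ha2, hac⟩ := (hp.ni h).exists_four h
  have hvy : v ∈ Cfsg.pCore 2 G := pow_mem hy _
  have hva : a * v = v * a := h.comp_comm hp.hK hvy haK
  have hcase : ∀ c ∈ center G, a * v = c → False := fun c hc e => hac fun l hl => by
    have e1 : Commute l c := mem_center_iff.1 hc l
    have e2 : Commute l v := h.comp_comm hp.hK hvy hl
    rw [show a = c * v⁻¹ by rw [← e, mul_inv_cancel_right]]
    exact (e1.mul_right e2.inv_right).eq
  refine h.false_of_centralizes hp.hL (w := a * v) ?_ (hcase 1 (one_mem _)) (hcase z h.central)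
    fun l hl => ?_
  · calc a * v * (a * v) = a * (v * a) * v := by group
      _ = a * a * (v * v) := by rw [← hva]; group
      _ = 1 := by rw [ha2, hv2, h.sq]
  · have e1 : Commute l a := (hp.comm haK hl).symm
    have e2 : Commute l v := h.comp_comm hp.hL hvy hl
    exact (e1.mul_right e2).eq

theorem neg_one_ne : (-1 : Matrix.SpecialLinearGroup (Fin 2) (ZMod 5)) ≠ 1 := by decide +kernel

set_option maxHeartbeats 1000000 in
/-- The subgroup generated by the two components. -/
theorem two_case {L : Subgroup G} (h : Cen G z) (hp : Pair z K L) :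
    ∃ (E : Subgroup G) (_ : E.Normal), (Odd E.index ∨ ∃ k : ℕ, Odd k ∧ E.index = 2 * k) ∧
      ∃ (Zc : Subgroup (Matrix.SpecialLinearGroup (Fin 2) (ZMod 5) ×
        Matrix.SpecialLinearGroup (Fin 2) (ZMod 5))) (_ : Zc.Normal),
        Zc = Subgroup.zpowers ((-1 : Matrix.SpecialLinearGroup (Fin 2) (ZMod 5)),
          (-1 : Matrix.SpecialLinearGroup (Fin 2) (ZMod 5))) ∧
        Nonempty (↥E ≃* (Matrix.SpecialLinearGroup (Fin 2) (ZMod 5) ×
          Matrix.SpecialLinearGroup (Fin 2) (ZMod 5)) ⧸ Zc) := by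
  classical
  haveI : Fact (Nat.Prime 2) := ⟨Nat.prime_two⟩
  set E := K ⊔ L with hE
  have hconj : ∀ (g : G) (J : Subgroup G), Cfsg.IsComponent J →
      J.map (MulAut.conj g).toMonoidHom = K ∨ J.map (MulAut.conj g).toMonoidHom = L :=
    fun g J hJ => hp.only h (Component.conj hJ g)
  have hEn : E.Normal := by
    refine ⟨fun x hx g => ?_⟩
    have hle : E.map (MulAut.conj g).toMonoidHom ≤ E := by
      rw [hE, Subgroup.map_sup]
      refine sup_le ?_ ?_
      · rcases hconj g K hp.hK with e | e <;> rw [e]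
        exacts [le_sup_left, le_sup_right]
      · rcases hconj g L hp.hL with e | e <;> rw [e]
        exacts [le_sup_left, le_sup_right]
    exact hle ⟨x, hx, rfl⟩
  refine ⟨E, hEn, ?_, ?_⟩
  · obtain ⟨S⟩ := (inferInstance : Nonempty (Sylow 2 G))
    have hcore : Cfsg.pCore 2 G ≤ K := fun y hy => by
      rcases hp.core_cases h hy with e | e <;> rw [e]
      exacts [one_mem _, (hp.ni h).zmem]
    -- an element of order four of the other component inside `S`
    have hq : ∀ {A B : Subgroup G}, Pair z A B → ∃ q ∈ (S : Subgroup G), q ∈ B ∧ q * q = z ∧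
        ∀ a ∈ A, a * q = q * a := by
      intro A B hAB
      obtain ⟨P, hP⟩ := Walter.Pairs.exists_sylow_subnormal S hAB.hL.1
      have hn := hAB.symm.ni h
      obtain ⟨m, hm1, ⟨e⟩⟩ := hn.sylow_quat P
      haveI : NeZero (2 ^ m : ℕ) := ⟨pow_ne_zero m two_ne_zero⟩
      set x : ↥(P : Subgroup ↥B) := e.symm (QuaternionGroup.xa 0) with hx
      have ho : orderOf x = 4 := by rw [hx, MulEquiv.orderOf_eq, QuaternionGroup.orderOf_xa]
      have hxS : ((x : ↥B) : G) ∈ (S : Subgroup G) := by
        exact SetLike.le_def.1 hP.le x.2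
      refine ⟨((x : ↥B) : G), hxS, (x : ↥B).2, ?_, fun a ha => hAB.comm ha (x : ↥B).2⟩
      have h4 := pow_orderOf_eq_one x
      rw [ho] at h4
      refine (hn.only _ (mul_mem (x : ↥B).2 (x : ↥B).2) ?_).resolve_left fun e1 => ?_
      · have := congrArg (fun y : ↥(P : Subgroup ↥B) => ((y : ↥B) : G)) h4
        simpa [pow_succ, mul_assoc] using this
      · have h2 : x ^ 2 = 1 := by rw [pow_two]; exact Subtype.ext (Subtype.ext e1)
        have := Nat.le_of_dvd two_pos (ho ▸ orderOf_dvd_of_pow_eq_one h2)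
        omega
    have hfix : ∀ s ∈ (S : Subgroup G), K.map (MulAut.conj s).toMonoidHom = K → s ∈ E := by
      intro s hs hsK
      have hsK' : ∀ k ∈ K, s * k * s⁻¹ ∈ K := fun k hk => hsK ▸ ⟨k, hk, rfl⟩
      have hsL : L.map (MulAut.conj s).toMonoidHom = L := (hconj s L hp.hL).resolve_left fun e =>
        hp.ne (Subgroup.map_injective (f := (MulAut.conj s).toMonoidHom) (MulAut.conj s).injective
          (e.trans hsK.symm))
      have hsL' : ∀ l ∈ L, s * l * s⁻¹ ∈ L := fun l hl => hsL ▸ ⟨l, hl, rfl⟩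
      obtain ⟨q, hqS, -, hq2, hqc⟩ := hq hp
      obtain ⟨p, hpS, hpK, hpc⟩ := (hp.ni h).exists_inner h hq2 hqc S hqS hs hsK'
      obtain ⟨q', hq'S, -, hq'2, hq'c⟩ := hq hp.symm
      have hs' : p⁻¹ * s ∈ (S : Subgroup G) := mul_mem (inv_mem hpS) hs
      obtain ⟨p', -, hpL, hpc'⟩ := (hp.symm.ni h).exists_inner h hq'2 hq'c S hq'S hs'
        (fun l hl => by
          have h1 : p⁻¹ * (s * l * s⁻¹) * p⁻¹⁻¹ = s * l * s⁻¹ := by
            rw [hp.comm (inv_mem hpK) (hsL' l hl), mul_inv_cancel_right]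
          rw [show p⁻¹ * s * l * (p⁻¹ * s)⁻¹ = p⁻¹ * (s * l * s⁻¹) * p⁻¹⁻¹ by group, h1]
          exact hsL' l hl)
      set r := p'⁻¹ * (p⁻¹ * s) with hr
      have hrK : ∀ k ∈ K, k * r = r * k := fun k hk => by
        have e1 : Commute k p'⁻¹ := hp.comm hk (inv_mem hpL)
        have e2 : Commute k (p⁻¹ * s) := (hpc k hk).symm
        exact (e1.mul_right e2).eq
      have hrmem : r ∈ Cfsg.pCore 2 G := h.mem_core (fun y hy => hrK y (hcore hy)) fun J hJ k hk => by
        rcases hp.only h hJ with e | e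
        · exact hrK k (e ▸ hk)
        · exact (hpc' k (e ▸ hk)).symm
      rw [show s = p * (p' * r) by rw [hr]; group]
      exact mul_mem (mem_sup_left hpK) (mul_mem (mem_sup_right hpL) (mem_sup_left (hcore hrmem)))
    -- at most two cosets of `E` in `S`
    have hrel : E.relIndex (S : Subgroup G) ≤ 2 := by
      rw [Subgroup.relIndex, Subgroup.index]
      refine (Nat.card_le_card_of_injective (β := Bool)
        (Quotient.lift (fun s : ↥(S : Subgroup G) =>
          decide (K.map (MulAut.conj (s : G)).toMonoidHom = K)) ?_) ?_).trans (by simp)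
      · intro a b hab
        have hab' : a⁻¹ * b ∈ E.subgroupOf (S : Subgroup G) := QuotientGroup.leftRel_apply.1 hab
        have he : (a : G)⁻¹ * b ∈ E := hab'
        have hnorm : E ≤ normalizer (K : Set G) :=
          sup_le le_normalizer ((Component.le_centralizer_of_ne hp.hL hp.hK hp.ne).trans
            (centralizer_le_normalizer _))
        have hK' : K.map (MulAut.conj ((a : G)⁻¹ * b)).toMonoidHom = K :=
          CosetGraph.SylowIn.conj_map_eq_self (hnorm he)
        have hb : K.map (MulAut.conj (b : G)).toMonoidHom = K.map (MulAut.conj (a : G)).toMonoidHom := by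
          conv_rhs => rw [← hK', Subgroup.map_map]
          congr 1
          ext x
          simp [mul_assoc]
        simp only [hb]
      · rintro ⟨a⟩ ⟨b⟩ hab
        simp only [decide_eq_decide] at hab
        refine Quotient.sound (QuotientGroup.leftRel_apply.2 ?_)
        show (a : G)⁻¹ * b ∈ E
        refine hfix _ (mul_mem (inv_mem a.2) b.2) ?_
        have key : K.map (MulAut.conj (a : G)).toMonoidHom =
            K.map (MulAut.conj (b : G)).toMonoidHom := by
          by_cases ha : K.map (MulAut.conj (a : G)).toMonoidHom = K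
          · rw [ha, hab.1 ha]
          · rw [(hconj a K hp.hK).resolve_left ha,
              (hconj b K hp.hK).resolve_left (fun e => ha (hab.2 e))]
        rw [show ((MulAut.conj ((a : G)⁻¹ * b)).toMonoidHom : G →* G) =
          (MulAut.conj (a : G)⁻¹).toMonoidHom.comp (MulAut.conj (b : G)).toMonoidHom by
            ext x; simp [mul_assoc], ← Subgroup.map_map, ← key, Subgroup.map_map]
        convert Subgroup.map_id K
        ext x
        simp [mul_assoc]
    -- hence the index
    haveI := hEn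
    set SQ := S.mapSurjective (QuotientGroup.mk'_surjective E)
    have hcard : Nat.card ↥(SQ : Subgroup (G ⧸ E)) = E.relIndex (S : Subgroup G) := by
      rw [Sylow.coe_mapSurjective, ← Subgroup.relIndex_ker, QuotientGroup.ker_mk']
    have hidx : E.index = E.relIndex (S : Subgroup G) * (SQ : Subgroup (G ⧸ E)).index := by
      rw [← hcard, Subgroup.card_mul_index, Subgroup.index_eq_card]
    have hodd : Odd (SQ : Subgroup (G ⧸ E)).index :=
      Nat.odd_iff.2 (Nat.two_dvd_ne_zero.1 SQ.not_dvd_index)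
    have hpos : 0 < E.relIndex (S : Subgroup G) := hcard ▸ Nat.card_pos
    rcases (show E.relIndex (S : Subgroup G) = 1 ∨ E.relIndex (S : Subgroup G) = 2 by omega)
      with e | e
    · left; rw [hidx, e, one_mul]; exact hodd
    · right; exact ⟨_, hodd, by rw [hidx, e]⟩
  · obtain ⟨qK, hqK, hqK2, hqKc, -⟩ := hp.exists_q h
    obtain ⟨qL, hqL, hqL2, hqLc, -⟩ := hp.symm.exists_q h
    obtain ⟨eK⟩ := (hp.ni h).equiv_sl25 h hqK2 hqKc
    obtain ⟨eL⟩ := (hp.symm.ni h).equiv_sl25 h hqL2 hqLc
    let φ : Matrix.SpecialLinearGroup (Fin 2) (ZMod 5) × Matrix.SpecialLinearGroup (Fin 2) (ZMod 5)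
        →* G := (K.subtype.comp eK.symm.toMonoidHom).noncommCoprod
          (L.subtype.comp eL.symm.toMonoidHom) fun a b => hp.comm (eK.symm a).2 (eL.symm b).2
    have hrange : φ.range = E := by
      rw [show φ.range = _ from MonoidHom.noncommCoprod_range _ _ _, hE]
      congr 1
      · rw [MonoidHom.range_comp, MonoidHom.range_eq_top.2 eK.symm.surjective,
          ← MonoidHom.range_eq_map, Subgroup.range_subtype]
      · rw [MonoidHom.range_comp, MonoidHom.range_eq_top.2 eL.symm.surjective,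
          ← MonoidHom.range_eq_map, Subgroup.range_subtype]
    have hneg2 : ((-1 : Matrix.SpecialLinearGroup (Fin 2) (ZMod 5)) *
        (-1 : Matrix.SpecialLinearGroup (Fin 2) (ZMod 5))) = 1 := by decide +kernel
    have hval : ∀ {A : Subgroup G}, NI z A → ∀ e : ↥A ≃* Matrix.SpecialLinearGroup (Fin 2) (ZMod 5),
        ((e.symm (-1) : ↥A) : G) = z := by
      intro A hA e
      refine (hA.only _ (e.symm (-1)).2 ?_).resolve_left fun e1 => ?_
      · rw [← Subgroup.coe_mul, ← map_mul, hneg2, map_one, Subgroup.coe_one]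
      · exact neg_one_ne (e.symm.injective ((show e.symm (-1) = 1 from Subtype.ext e1).trans
          (map_one _).symm))
    have hzK := hval (hp.ni h) eK
    have hzL := hval (hp.symm.ni h) eL
    have hker : φ.ker = Subgroup.zpowers ((-1 : Matrix.SpecialLinearGroup (Fin 2) (ZMod 5)),
        (-1 : Matrix.SpecialLinearGroup (Fin 2) (ZMod 5))) := by
      refine le_antisymm ?_ ?_
      · rintro ⟨a, b⟩ hab
        have hab' : ((eK.symm a : ↥K) : G) * (eL.symm b : ↥L) = 1 := hab
        have hc : (eK.symm a : ↥K) ∈ center ↥K := mem_center_iff.2 fun k => Subtype.ext (by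
          show (k : G) * (eK.symm a : ↥K) = (eK.symm a : ↥K) * k
          rw [eq_inv_of_mul_eq_one_left hab']
          exact hp.comm k.2 (inv_mem (eL.symm b).2))
        rcases (hp.ni h).center_cases h hc with e | e
        · have ha : a = 1 := eK.symm.injective (by rw [map_one]; exact Subtype.ext e)
          rw [e, one_mul] at hab'
          have hb : b = 1 := eL.symm.injective (by rw [map_one]; exact Subtype.ext hab')
          rw [ha, hb]
          exact one_mem _
        · have ha : a = -1 := eK.symm.injective (Subtype.ext (e.trans hzK.symm))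
          rw [e] at hab'
          have hb : b = -1 := eL.symm.injective (Subtype.ext (by
            rw [hzL, eq_inv_of_mul_eq_one_right hab', inv_eq_of_mul_eq_one_right h.sq]))
          rw [ha, hb]
          exact mem_zpowers _
      · refine zpowers_le.2 ?_
        show ((eK.symm (-1) : ↥K) : G) * (eL.symm (-1) : ↥L) = 1
        rw [hzK, hzL, h.sq]
    refine ⟨_, hker ▸ (inferInstance : φ.ker.Normal), rfl, ⟨?_⟩⟩
    haveI : (Subgroup.zpowers ((-1 : Matrix.SpecialLinearGroup (Fin 2) (ZMod 5)),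
        (-1 : Matrix.SpecialLinearGroup (Fin 2) (ZMod 5)))).Normal :=
      hker ▸ (inferInstance : φ.ker.Normal)
    exact ((MulEquiv.subgroupCongr hrange).symm.trans
      (QuotientGroup.quotientKerEquivRange φ).symm).trans (QuotientGroup.quotientMulEquivOfEq hker)

end Cfsg.Agent.Lib.Inter3310
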