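import Cfsg.Agent.Lib.Inter3310.One
import Cfsg.Agent.Lib.Inter3310.Two
import Cfsg.Agent.Lib.Inter3310.DihedralOuter
import Cfsg.Agent.Lib.GWConsumers12.RankOne

/-!
# The case of a nontrivial 2-core
-/

set_option autoImplicit false
set_option linter.style.haveILetI false
set_option linter.unusedSectionVars false

namespace Cfsg.Agent.Lib.Inter3310

open Subgroup Cfsg.Agent.Lib.Components
open scoped Pointwise

universe u

/-- The groups of Bender's theorem as S3310 lists them. -/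
def Bender (X : Type u) [Group X] : Prop :=
  (∃ (n : ℕ) (F : Type) (_ : Field F) (_ : Fintype F), 2 ≤ n ∧ Fintype.card F = 2 ^ n ∧
      Nonempty (X ≃* Matrix.ProjectiveSpecialLinearGroup (Fin 2) F)) ∨
    (∃ (m : ℕ) (F : Type) (_ : Field F) (_ : Fintype F), 1 ≤ m ∧ Fintype.card F = 2 ^ (2 * m + 1) ∧
      Nonempty (X ≃* ↥(Cfsg.Lie.Sz F (2 ^ (m + 1))))) ∨
    (∃ (n : ℕ) (F : Type) (_ : Field F) (_ : Fintype F), 2 ≤ n ∧ Fintype.card F = 4 ^ n ∧
      Nonempty (X ≃* Cfsg.PSU 3 F (2 ^ n)))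

theorem Bender.congr {X Y : Type u} [Group X] [Group Y] (e : Y ≃* X) (h : Bender X) : Bender Y := by
  rcases h with ⟨n, F, i, j, hn, hF, ⟨f⟩⟩ | ⟨m, F, i, j, hm, hF, ⟨f⟩⟩ | ⟨n, F, i, j, hn, hF, ⟨f⟩⟩
  · exact Or.inl ⟨n, F, i, j, hn, hF, ⟨e.trans f⟩⟩
  · exact Or.inr (Or.inl ⟨m, F, i, j, hm, hF, ⟨e.trans f⟩⟩)
  · exact Or.inr (Or.inr ⟨n, F, i, j, hn, hF, ⟨e.trans f⟩⟩)

theorem bender_of_target {X : Type u} [Group X] (h : BenderConsumers23.Target X) : Bender X := by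
  rcases h with ⟨F, i, j, n, hn, hF, he⟩ | ⟨F, i, j, m, hm, hF, he⟩ | ⟨F, i, j, n, hn, hF, he⟩
  · exact Or.inl ⟨n, F, i, j, hn, hF, he⟩
  · exact Or.inr (Or.inl ⟨m, F, i, j, hm, hF, he⟩)
  · refine Or.inr (Or.inr ⟨n, F, i, j, hn, ?_, he⟩)
    rw [hF, ← pow_mul, mul_comm, pow_mul]
    norm_num

variable {G : Type u} [Group G] [Finite G] {z : G} {K : Subgroup G}

/-- An element of a component is in the core iff it is central in the component. -/
theorem Cen.mem_core_iff (h : Cen G z) (hK : Cfsg.IsComponent K) (x : ↥K) :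
    (x : G) ∈ Cfsg.pCore 2 G ↔ x ∈ center ↥K :=
  ⟨fun hx => mem_center_iff.2 fun k => Subtype.ext (h.comp_comm hK hx k.2),
    fun hx => h.center_coe hK hx⟩

/-- The image of a component modulo the core is its central quotient. -/
theorem Cen.quot_equiv (h : Cen G z) (hK : Cfsg.IsComponent K) :
    Nonempty (↥K ⧸ center ↥K ≃* ↥(K.map (QuotientGroup.mk' (Cfsg.pCore 2 G)))) := by
  set ψ := (QuotientGroup.mk' (Cfsg.pCore 2 G)).subgroupMap K with hψ
  have hker : center ↥K = ψ.ker := by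
    ext x
    rw [← h.mem_core_iff hK x, MonoidHom.mem_ker]
    exact ⟨fun hx => Subtype.ext ((QuotientGroup.eq_one_iff (x : G)).2 hx),
      fun hx => (QuotientGroup.eq_one_iff (x : G)).1 (congrArg Subtype.val hx)⟩
  exact ⟨(QuotientGroup.quotientMulEquivOfEq hker).trans
    (QuotientGroup.quotientKerEquivOfSurjective ψ (MonoidHom.subgroupMap_surjective _ _))⟩

/-- A Sylow subgroup which is not quaternion has an involution other than `z`. -/
theorem Cen.exists_invol (h : Cen G z)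
    (hnQ : ∀ S : Sylow 2 G, ∀ n : ℕ, IsEmpty (↥(S : Subgroup G) ≃* QuaternionGroup (2 ^ (n + 1))))
    (S : Sylow 2 G) : ∃ t ∈ (S : Subgroup G), t * t = 1 ∧ t ≠ 1 ∧ t ≠ z := by
  haveI : Fact (Nat.Prime 2) := ⟨Nat.prime_two⟩
  by_contra hcon
  push Not at hcon
  have key : ∀ x : ↥(S : Subgroup G), orderOf x = 2 → (x : G) = z := fun x hx => by
    have hx2 : x * x = 1 := by
      have := pow_orderOf_eq_one x
      rwa [hx, pow_two] at this
    refine hcon x x.2 (congrArg Subtype.val hx2) fun e => ?_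
    rw [show x = 1 from Subtype.ext e, orderOf_one] at hx
    exact absurd hx (by norm_num)
  rcases PGroups.isCyclic_or_quaternion (p := 2) S.isPGroup' (fun x y hx hy => by
    rw [show y = x from Subtype.ext ((key y hy).trans (key x hx).symm)]
    exact mem_zpowers x) with hc | ⟨-, m, hm, he⟩
  · exact h.nonsolv (Inter3308.solvable_of_cyclic S hc)
  · obtain ⟨m, rfl⟩ : ∃ m', m = m' + 1 := ⟨m - 1, by omega⟩
    obtain ⟨e⟩ := he
    exact (hnQ S m).false e

/-- A component with only one involution forces an element of order four in the core. -/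
theorem NI.false_of_small (h : Cen G z) (hn : NI z K)
    (hu : ∀ J : Subgroup G, Cfsg.IsComponent J → J = K)
    (hcore : ∀ y ∈ Cfsg.pCore 2 G, y = 1 ∨ y = z)
    (hnQ : ∀ S : Sylow 2 G, ∀ n : ℕ, IsEmpty (↥(S : Subgroup G) ≃* QuaternionGroup (2 ^ (n + 1)))) :
    False := by
  haveI : Fact (Nat.Prime 2) := ⟨Nat.prime_two⟩
  set Z := Cfsg.pCore 2 G with hZ
  have hQS := h.qs hn.comp
  haveI := hQS.simple
  haveI : K.Normal := ⟨fun x hx g => (hu _ (Component.conj hn.comp g)).le ⟨x, hx, rfl⟩⟩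
  set φ := QuotientGroup.mk' Z with hφ
  have hφ1 : ∀ {g : G}, φ g = 1 ↔ g ∈ Z := fun {g} => QuotientGroup.eq_one_iff g
  have hsurj : Function.Surjective φ := QuotientGroup.mk'_surjective Z
  set M := K.map φ with hM
  haveI : M.Normal := Subgroup.Normal.map inferInstance φ hsurj
  obtain ⟨e⟩ := h.quot_equiv hn.comp
  haveI : IsSimpleGroup ↥M := e.symm.isSimpleGroup_congr.2 hQS.simple
  have hna : ¬ IsMulCommutative ↥M := fun hc => hQS.not_comm
    ⟨⟨fun a b => e.injective (by rw [map_mul, map_mul, hc.is_comm.comm])⟩⟩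
  have hcent : centralizer (M : Set (G ⧸ Z)) = ⊥ := by
    rw [Subgroup.eq_bot_iff_forall]
    intro q hq
    obtain ⟨g, rfl⟩ := hsurj q
    refine hφ1.2 (h.mem_core (fun y hy => ?_) fun J hJ k hk => ?_)
    · rcases hcore y hy with e1 | e1
      · rw [e1, one_mul, mul_one]
      · rw [e1]; exact (mem_center_iff.1 h.central g).symm
    have hεc : ∀ x : ↥K, g * x * g⁻¹ * (x : G)⁻¹ ∈ center G := fun x => by
      have h1 : g * x * g⁻¹ * (x : G)⁻¹ ∈ Z := hφ1.1 (by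
        have h2 := mem_centralizer_iff.1 hq (φ x) (mem_map_of_mem φ x.2)
        rw [map_mul, map_mul, map_mul, map_inv, map_inv, ← h2, mul_inv_cancel_right, mul_inv_cancel])
      rcases hcore _ h1 with e1 | e1 <;> rw [e1]
      exacts [one_mem _, h.central]
    let χ : ↥K →* ↥(center G) :=
      { toFun := fun x => ⟨_, hεc x⟩
        map_one' := Subtype.ext (by simp)
        map_mul' := fun a b => Subtype.ext (by
          show g * ((a : G) * b) * g⁻¹ * ((a : G) * b)⁻¹ =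
            (g * a * g⁻¹ * (a : G)⁻¹) * (g * b * g⁻¹ * (b : G)⁻¹)
          calc g * ((a : G) * b) * g⁻¹ * ((a : G) * b)⁻¹
              = g * a * g⁻¹ * ((g * b * g⁻¹ * (b : G)⁻¹) * (a : G)⁻¹) := by group
            _ = g * a * g⁻¹ * ((a : G)⁻¹ * (g * b * g⁻¹ * (b : G)⁻¹)) := by
                rw [(mem_center_iff.1 (hεc b) (a : G)⁻¹).symm]
            _ = _ := by group) }
    have hker : χ.ker = ⊤ := by
      rw [eq_top_iff, ← hQS.perfect, commutator_eq_closure, closure_le]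
      rintro _ ⟨a, b, rfl⟩
      rw [SetLike.mem_coe, MonoidHom.mem_ker, map_commutatorElement,
        commutatorElement_eq_one_iff_mul_comm]
      exact Subtype.ext (mem_center_iff.1 (χ b).2 (χ a : G))
    have h1 : χ ⟨k, hu J hJ ▸ hk⟩ = 1 := MonoidHom.mem_ker.1 (hker ▸ mem_top _)
    exact (mul_inv_eq_iff_eq_mul.1 (mul_inv_eq_one.1 (congrArg Subtype.val h1))).symm
  have hdih : ∀ P : Sylow 2 ↥M, ∃ n, 1 ≤ n ∧
      Nonempty (↥(P : Subgroup ↥M) ≃* DihedralGroup (2 ^ n)) := by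
    intro P
    obtain ⟨P₀, hP₀⟩ := Sylow.mapSurjective_surjective (QuotientGroup.mk'_surjective (center ↥K)) 2
      (P.mapSurjective (f := e.symm.toMonoidHom) e.symm.surjective)
    obtain ⟨n, hn1, ⟨eP⟩⟩ := hn.sylow_quat P₀
    haveI : NeZero (2 ^ n : ℕ) := ⟨pow_ne_zero n two_ne_zero⟩
    obtain ⟨d⟩ := GWConsumers12.dihedral_mod_center P₀ (2 ^ n) eP (hn.center_card h)
    refine ⟨n, hn1, ⟨((e.symm.subgroupMap (P : Subgroup ↥M)).trans (MulEquiv.subgroupCongr ?_)).trans d⟩⟩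
    exact (congrArg Sylow.toSubgroup hP₀).symm
  obtain ⟨S⟩ := (inferInstance : Nonempty (Sylow 2 G))
  obtain ⟨t, htS, ht2, ht1, htz⟩ := h.exists_invol hnQ S
  have hmemS : ∀ g : G, φ g ∈ ((S.mapSurjective hsurj : Sylow 2 (G ⧸ Z)) : Subgroup (G ⧸ Z)) →
      g ∈ (S : Subgroup G) := by
    rintro g ⟨s, hs, hsg⟩
    have := mul_mem hs (Cores.pCore_le_sylow S (QuotientGroup.eq.1 hsg))
    rwa [mul_inv_cancel_left] at this
  refine false_of_dihedral M hna hcent hdih (S.mapSurjective hsurj) (t := φ t) ⟨t, htS, rfl⟩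
    (by rw [← map_mul, ht2, map_one]) ?_ ?_
  · rintro ⟨k, hk, hkt⟩
    have hcZ := QuotientGroup.eq.1 hkt
    have htK : t ∈ K := by
      rcases hcore _ hcZ with e1 | e1
      · exact inv_mul_eq_one.1 e1 ▸ hk
      · rw [inv_mul_eq_iff_eq_mul.1 e1]
        exact mul_mem hk hn.zmem
    rcases hn.only t htK ht2 with e1 | e1
    exacts [ht1 e1, htz e1]
  · intro q hq
    obtain ⟨g, rfl⟩ := hsurj q
    rw [← map_inv, ← map_mul, ← map_mul] at hq
    have hgN := h.uni.normalizes h.central htS ht2 ht1 htz (hmemS _ hq)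
    refine mem_normalizer_iff.2 fun y => ?_
    obtain ⟨y, rfl⟩ := hsurj y
    rw [← map_inv, ← map_mul, ← map_mul]
    constructor
    · exact fun hy => mem_map_of_mem φ ((mem_normalizer_iff.1 hgN y).1 (hmemS _ hy))
    · exact fun hy => mem_map_of_mem φ ((mem_normalizer_iff.1 hgN y).2 (hmemS _ hy))

/-- An element of order four of the core, if it has more than two elements. -/
theorem Cen.exists_root (h : Cen G z) (hcore : ¬ ∀ y ∈ Cfsg.pCore 2 G, y = 1 ∨ y = z) :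
    ∃ q ∈ Cfsg.pCore 2 G, q * q = z := by
  push Not at hcore
  obtain ⟨y, hy, hy1, hyz⟩ := hcore
  obtain ⟨k, hk⟩ := Cores.pCore_isPGroup (G := G) 2 ⟨y, hy⟩
  obtain ⟨j, -, hj⟩ := (Nat.dvd_prime_pow Nat.prime_two).1
    (orderOf_dvd_of_pow_eq_one (show y ^ 2 ^ k = 1 from congrArg Subtype.val hk))
  rcases j with _ | _ | j
  · exact absurd (orderOf_eq_one_iff.1 (by simpa using hj)) hy1
  · refine absurd ((h.uniq y hy ?_).resolve_left hy1) hyz
    have := pow_orderOf_eq_one y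
    rwa [hj, pow_one, pow_two] at this
  · refine ⟨y ^ 2 ^ j, pow_mem hy _, (h.uniq _ (mul_mem (pow_mem hy _) (pow_mem hy _)) ?_).resolve_left
      fun e => ?_⟩
    · rw [← pow_add, ← pow_add]
      refine orderOf_dvd_iff_pow_eq_one.1 ?_
      rw [hj]
      exact dvd_of_eq (by ring)
    · rw [← pow_add] at e
      have h1 := Nat.le_of_dvd (by positivity) (orderOf_dvd_of_pow_eq_one e)
      rw [hj, pow_succ, pow_succ] at h1
      have h2 : 0 < 2 ^ j := by positivity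
      omega

/-- The conclusion in the case of one component. -/
def CaseA (G : Type u) [Group G] (z : G) : Prop :=
  (∃ n : ℕ, Nonempty (↥(Cfsg.pCore 2 G) ≃* QuaternionGroup (2 ^ (n + 1)))) ∧
    (∃ (S : Sylow 2 G) (a b : G), a ∈ (S : Subgroup G) ∧ b ∈ (S : Subgroup G) ∧ a * a = 1 ∧
      b * b = 1 ∧ a * b = b * a ∧ a ≠ 1 ∧ b ≠ 1 ∧ a ≠ b ∧ a ≠ z ∧ b ≠ z ∧ b ≠ z * a) ∧
    ∃ (G₁ : Subgroup G) (_ : G₁.Normal) (_ : ((Cfsg.pCore 2 G).subgroupOf G₁).Normal),
      Odd G₁.index ∧ Cfsg.pCore 2 G ≤ G₁ ∧ Bender (↥G₁ ⧸ (Cfsg.pCore 2 G).subgroupOf G₁)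

/-- The conclusion in the case of two components. -/
def CaseB (G : Type u) [Group G] : Prop :=
  ∃ (E : Subgroup G) (_ : E.Normal), (Odd E.index ∨ ∃ k : ℕ, Odd k ∧ E.index = 2 * k) ∧
    ∃ (Zc : Subgroup (Matrix.SpecialLinearGroup (Fin 2) (ZMod 5) ×
      Matrix.SpecialLinearGroup (Fin 2) (ZMod 5))) (_ : Zc.Normal),
      Zc = Subgroup.zpowers ((-1 : Matrix.SpecialLinearGroup (Fin 2) (ZMod 5)),
        (-1 : Matrix.SpecialLinearGroup (Fin 2) (ZMod 5))) ∧
      Nonempty (↥E ≃* (Matrix.SpecialLinearGroup (Fin 2) (ZMod 5) ×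
        Matrix.SpecialLinearGroup (Fin 2) (ZMod 5)) ⧸ Zc)

theorem OneH.caseA (hcrit : Crit59.CritFaithful.{u}) (h : Cen G z) (hO : OneH z K)
    {S T : Sylow 2 G} (hne : S ≠ T)
    (hnc : ¬ IsCyclic ↥((S : Subgroup G) ⊓ (T : Subgroup G))) : CaseA G z := by
  haveI : Fact (Nat.Prime 2) := ⟨Nat.prime_two⟩
  haveI := hO.normal
  set Z := Cfsg.pCore 2 G with hZ
  have hZnc : ¬ IsCyclic ↥Z := fun hc =>
    hnc (haveI := hc; Subgroup.isCyclic_of_le (hO.inter h hne))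
  obtain ⟨n, hn, ⟨eZ⟩⟩ := h.shape.resolve_left hZnc
  refine ⟨?_, hO.elementary hcrit h hn eZ, K ⊔ Z, inferInstance, inferInstance, hO.odd_index' h,
    le_sup_right, ?_⟩
  · obtain ⟨m, rfl⟩ : ∃ m, n = m + 1 := ⟨n - 1, by omega⟩
    exact ⟨m, ⟨eZ⟩⟩
  let f : ↥K →* ↥(K ⊔ Z) ⧸ Z.subgroupOf (K ⊔ Z) :=
    (QuotientGroup.mk' _).comp (Subgroup.inclusion le_sup_left)
  have hker : center ↥K = f.ker := by
    ext x
    rw [← h.mem_core_iff hO.comp x, MonoidHom.mem_ker]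
    exact ((QuotientGroup.eq_one_iff (N := Z.subgroupOf (K ⊔ Z))
      (Subgroup.inclusion (le_sup_left : K ≤ K ⊔ Z) x))).symm
  have hf : Function.Surjective f := by
    intro y
    obtain ⟨⟨w, hw⟩, rfl⟩ := QuotientGroup.mk'_surjective _ y
    have hw' : w ∈ ((K : Set G) * (Z : Set G)) := by rw [← Subgroup.mul_normal]; exact hw
    obtain ⟨a, ha, c, hc, rfl⟩ := hw'
    refine ⟨⟨a, ha⟩, QuotientGroup.eq.2 ?_⟩
    show a⁻¹ * (a * c) ∈ Z
    rwa [inv_mul_cancel_left]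
  exact (bender_of_target hO.target).congr
    ((QuotientGroup.quotientMulEquivOfEq hker).trans
      (QuotientGroup.quotientKerEquivOfSurjective f hf)).symm

/-- The case of a nontrivial 2-core. -/
theorem central_case (hcrit : Crit59.CritFaithful.{u}) (h : Cen G z)
    (hnQ : ∀ S : Sylow 2 G, ∀ n : ℕ, IsEmpty (↥(S : Subgroup G) ≃* QuaternionGroup (2 ^ (n + 1))))
    {S T : Sylow 2 G} (hne : S ≠ T)
    (hnc : ¬ IsCyclic ↥((S : Subgroup G) ⊓ (T : Subgroup G))) : CaseA G z ∨ CaseB G := by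
  classical
  obtain ⟨K, hK⟩ := h.exists_component
  by_cases htwo : ∃ L : Subgroup G, Cfsg.IsComponent L ∧ L ≠ K
  · obtain ⟨L, hL, hLK⟩ := htwo
    exact Or.inr (two_case h ⟨hK, hL, hLK⟩)
  push Not at htwo
  left
  by_cases hinv : ∃ w : ↥K, w * w = 1 ∧ w ∉ center ↥K
  · exact (OneH.of_inv hcrit h hK htwo hinv).caseA hcrit h hne hnc
  have hni : NI z K := ⟨hK, fun w hw hw2 => by
    push Not at hinv
    exact h.uniq w (h.center_coe hK (hinv ⟨w, hw⟩ (Subtype.ext hw2))) hw2⟩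
  by_cases hcore : ∀ y ∈ Cfsg.pCore 2 G, y = 1 ∨ y = z
  · exact (hni.false_of_small h htwo hcore hnQ).elim
  · obtain ⟨q, hq, hq2⟩ := h.exists_root hcore
    exact (OneH.of_four h hni htwo hq hq2).caseA hcrit h hne hnc

end Cfsg.Agent.Lib.Inter3310
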