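import Cfsg.Agent.Lib.Inter3310.Quasi

/-!
# The components in the case of a nontrivial 2-core
-/

set_option autoImplicit false
set_option linter.style.haveILetI false
set_option linter.unusedSectionVars false

namespace Cfsg.Agent.Lib.Inter3310

open Subgroup Cfsg.Agent.Lib.Components

universe u

variable {G : Type u} [Group G] [Finite G] {z : G}

/-- A component centralises the 2-core. -/
theorem Cen.comp_comm (h : Cen G z) {K : Subgroup G} (hK : Cfsg.IsComponent K) {y k : G}
    (hy : y ∈ Cfsg.pCore 2 G) (hk : k ∈ K) : k * y = y * k :=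
  mem_centralizer_iff.1 (Component.fittingSubgroup_le_centralizer hK (h.fitting_eq.symm ▸ hy)) k hk

/-- The centraliser of the core and of all components is in the core. -/
theorem Cen.mem_core (h : Cen G z) {x : G} (hZ : ∀ y ∈ Cfsg.pCore 2 G, y * x = x * y)
    (hK : ∀ K : Subgroup G, Cfsg.IsComponent K → ∀ k ∈ K, k * x = x * k) :
    x ∈ Cfsg.pCore 2 G := by
  rw [← h.fitting_eq]
  refine FStarTools.center_genFitting_le ?_
  have hle : Cfsg.generalizedFittingSubgroup G ≤ centralizer ({x} : Set G) := by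
    refine sup_le (sSup_le fun K hK' k hk => mem_centralizer_singleton_iff.2 (hK K hK' k hk)) ?_
    rw [h.fitting_eq]
    exact fun y hy => mem_centralizer_singleton_iff.2 (hZ y hy)
  exact mem_centralizer_iff.2 fun g hg => mem_centralizer_singleton_iff.1 (hle hg)

/-- The centre of a component lies in the core. -/
theorem Cen.center_mem (h : Cen G z) {K : Subgroup G} (hK : Cfsg.IsComponent K) {x : G}
    (hx : x ∈ K) (hc : ∀ k ∈ K, k * x = x * k) : x ∈ Cfsg.pCore 2 G := by
  refine h.mem_core (fun y hy => (h.comp_comm hK hy hx).symm) fun L hL k hk => ?_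
  by_cases hLK : L = K
  · exact hc k (hLK ▸ hk)
  · exact (mem_centralizer_iff.1 (Component.le_centralizer_of_ne hL hK hLK hk) x hx).symm

theorem Cen.center_coe (h : Cen G z) {K : Subgroup G} (hK : Cfsg.IsComponent K) {x : ↥K}
    (hx : x ∈ center ↥K) : (x : G) ∈ Cfsg.pCore 2 G :=
  h.center_mem hK x.2 fun k hk => congrArg Subtype.val (mem_center_iff.1 hx ⟨k, hk⟩)

/-- An element of a component equal to `z` is central in it. -/
theorem Cen.z_center (h : Cen G z) {K : Subgroup G} {x : ↥K} (hx : (x : G) = z) :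
    x ∈ center ↥K :=
  mem_center_iff.2 fun k => Subtype.ext (by
    show (k : G) * x = x * k
    rw [hx]
    exact mem_center_iff.1 h.central k)

/-- A component satisfies the hypotheses of the quasisimple lemma. -/
theorem Cen.qs (h : Cen G z) {K : Subgroup G} (hK : Cfsg.IsComponent K) : QS ↥K := by
  refine ⟨hK.2.1.1, hK.2.2, fun x => ?_, fun c hc d hd hc2 hd2 hc1 hd1 => ?_, fun S T w hS hT hw hwc => ?_⟩
  · obtain ⟨k, hk⟩ := Cores.pCore_isPGroup (G := G) 2 ⟨((x : ↥K) : G), h.center_coe hK x.2⟩
    have hk' : (((x : ↥K) : G)) ^ 2 ^ k = 1 := congrArg Subtype.val hk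
    exact ⟨k, Subtype.ext (Subtype.ext (by simpa using hk'))⟩
  · have e : ∀ x : ↥K, x ∈ center ↥K → x * x = 1 → x ≠ 1 → (x : G) = z := fun x hx hx2 hx1 =>
      (h.uniq _ (h.center_coe hK hx) (congrArg Subtype.val hx2)).resolve_left
        fun e => hx1 (Subtype.ext e)
    exact Subtype.ext ((e c hc hc2 hc1).trans (e d hd hd2 hd1).symm)
  · obtain ⟨S', hS'⟩ := (S.isPGroup'.map K.subtype).exists_le_sylow
    obtain ⟨T', hT'⟩ := (T.isPGroup'.map K.subtype).exists_le_sylow
    obtain rfl := h.uni S' T' w (hS' ⟨w, hS, rfl⟩) (hT' ⟨w, hT, rfl⟩) (congrArg Subtype.val hw)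
      (fun e => hwc (by rw [show w = 1 from Subtype.ext e]; exact one_mem _))
      (fun e => hwc (h.z_center e))
    have h2 : IsPGroup 2 ↥((S' : Subgroup G).subgroupOf K) := S'.isPGroup'.comap_subtype
    exact Sylow.ext ((S.3 h2 fun a ha => hS' ⟨a, ha, rfl⟩).symm.trans
      (T.3 h2 fun a ha => hT' ⟨a, ha, rfl⟩))

/-- No involution other than `z` centralises a component. -/
theorem Cen.false_of_centralizes (h : Cen G z) {K : Subgroup G} (hK : Cfsg.IsComponent K) {w : G}
    (hw : w * w = 1) (hw1 : w ≠ 1) (hwz : w ≠ z) (hc : ∀ k ∈ K, k * w = w * k) : False :=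
  Component.not_isSolvable hK (h.uni.solvable_of_centralizes h.central hw hw1 hwz K hc)

/-- With two components, the only involution of a component is `z`. -/
theorem Cen.only_z (h : Cen G z) {K L : Subgroup G} (hK : Cfsg.IsComponent K)
    (hL : Cfsg.IsComponent L) (hne : L ≠ K) {w : G} (hw : w ∈ K) (hw2 : w * w = 1) :
    w = 1 ∨ w = z := by
  by_contra hcon
  push Not at hcon
  exact h.false_of_centralizes hL hw2 hcon.1 hcon.2 fun l hl =>
    (mem_centralizer_iff.1 (Component.le_centralizer_of_ne hL hK hne hl) w hw).symm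

end Cfsg.Agent.Lib.Inter3310
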