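import Cfsg.Prelude.Def_CaseTheorems
import Cfsg.Agent.Lib.RankOne.Involution
import Cfsg.Agent.S0205

/-!
# Intersections of Sylow 2-subgroups of 2-rank at most one: basic facts
-/

set_option autoImplicit false
set_option linter.style.haveILetI false

namespace Cfsg.Agent.Lib.Inter3310

open Subgroup
open scoped Pointwise

universe u

variable {G : Type u} [Group G]

/-- Two distinct commuting involutions lie in at most one Sylow 2-subgroup. -/
def Uni (G : Type u) [Group G] : Prop :=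
  ∀ (S T : Sylow 2 G) (a b : G), a ∈ (S : Subgroup G) → a ∈ (T : Subgroup G) →
    b ∈ (S : Subgroup G) → b ∈ (T : Subgroup G) → a * a = 1 → b * b = 1 → a * b = b * a →
    a ≠ 1 → b ≠ 1 → a ≠ b → S = T

/-- Every involution other than `z` lies in at most one Sylow 2-subgroup. -/
def Uni1 (G : Type u) [Group G] (z : G) : Prop :=
  ∀ (S T : Sylow 2 G) (w : G), w ∈ (S : Subgroup G) → w ∈ (T : Subgroup G) →
    w * w = 1 → w ≠ 1 → w ≠ z → S = T

theorem uni_of_prank [Finite G]
    (hI : ∀ S T : Sylow 2 G, S ≠ T → Cfsg.PRankLE 2 1 ↥((S : Subgroup G) ⊓ (T : Subgroup G))) :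
    Uni G := by
  classical
  intro S T a b haS haT hbS hbT ha hb hab ha1 hb1 hne
  by_contra hST
  set W := (S : Subgroup G) ⊓ (T : Subgroup G)
  let a' : ↥W := ⟨a, haS, haT⟩
  let b' : ↥W := ⟨b, hbS, hbT⟩
  set A := closure ({a', b'} : Set ↥W)
  have hcomm : ∀ x ∈ ({a', b'} : Set ↥W), ∀ y ∈ ({a', b'} : Set ↥W), x * y = y * x := by
    rintro x (rfl | rfl) y (rfl | rfl)
    · rfl
    · exact Subtype.ext hab
    · exact Subtype.ext hab.symm
    · rfl
  haveI hA : IsMulCommutative ↥A := isMulCommutative_closure hcomm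
  have hsq : ∀ x ∈ A, x ^ 2 = 1 := by
    intro x hx
    induction hx using closure_induction with
    | mem x hx =>
      rcases hx with rfl | rfl
      · rw [sq]; exact Subtype.ext ha
      · rw [sq]; exact Subtype.ext hb
    | one => exact one_pow 2
    | mul x y hx hy hx2 hy2 =>
      have hc : x * y = y * x :=
        congrArg Subtype.val (hA.is_comm.comm (⟨x, hx⟩ : ↥A) ⟨y, hy⟩)
      rw [Commute.mul_pow hc, hx2, hy2, one_mul]
    | inv x hx hx2 => rw [inv_pow, hx2, inv_one]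
  have hle := hI S T hST A hA hsq
  let f : Fin 3 → ↥A := ![1, ⟨a', subset_closure (Or.inl rfl)⟩, ⟨b', subset_closure (Or.inr rfl)⟩]
  have hf : Function.Injective f := by
    intro i j h
    have h' : ((f i : ↥W) : G) = ((f j : ↥W) : G) := by rw [h]
    fin_cases i <;> fin_cases j <;> simp [f, a', b'] at h' ⊢ <;>
      first
        | exact ha1 h'
        | exact ha1 h'.symm
        | exact hb1 h'
        | exact hb1 h'.symm
        | exact hne h'
        | exact hne h'.symm
  haveI : Finite ↥A := inferInstance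
  have h3 := Nat.card_le_card_of_injective f hf
  rw [Nat.card_eq_fintype_card, Fintype.card_fin] at h3
  exact absurd (h3.trans hle) (by norm_num)

/-- Two involutions whose product has odd order are conjugate under a power of the product. -/
theorem exists_conj_of_odd {s t : G} (hs : s * s = 1) (ht : t * t = 1) (h : Odd (orderOf (s * t))) :
    ∃ o ∈ zpowers (s * t), o * s * o⁻¹ = t := by
  obtain ⟨k, hk⟩ := h
  have hsi : s⁻¹ = s := inv_eq_of_mul_eq_one_right hs
  have hti : t⁻¹ = t := inv_eq_of_mul_eq_one_right ht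
  have h1 : ∀ n : ℕ, s * ((s * t) ^ n)⁻¹ = (s * t) ^ n * s := by
    intro n
    induction n with
    | zero => simp
    | succ n ih =>
      calc s * ((s * t) ^ (n + 1))⁻¹ = s * (s * t)⁻¹ * ((s * t) ^ n)⁻¹ := by
            rw [pow_succ, mul_inv_rev, mul_assoc]
        _ = s * t * (s * ((s * t) ^ n)⁻¹) := by rw [mul_inv_rev, hsi, hti]; group
        _ = (s * t) ^ (n + 1) * s := by simp only [ih, pow_succ', mul_assoc]
  refine ⟨(s * t) ^ k, pow_mem (mem_zpowers _) k, ?_⟩
  have h2 : (s * t) ^ (2 * k) = t * s := by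
    have := pow_orderOf_eq_one (s * t)
    rw [hk, pow_succ, mul_eq_one_iff_eq_inv, mul_inv_rev, hsi, hti] at this
    exact this
  calc (s * t) ^ k * s * ((s * t) ^ k)⁻¹ = (s * t) ^ k * (s * ((s * t) ^ k)⁻¹) := mul_assoc _ _ _
    _ = (s * t) ^ (2 * k) * s := by rw [h1, two_mul, pow_add, mul_assoc]
    _ = t := by rw [h2, mul_assoc, hs, mul_one]

theorem eq_smul_iff [Finite G] {S : Sylow 2 G} {g : G} :
    g • S = S ↔ g ∈ normalizer ((S : Subgroup G) : Set G) := Sylow.smul_eq_iff_mem_normalizer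

theorem mem_smul_iff {S : Sylow 2 G} {g x : G} :
    x ∈ ((g • S : Sylow 2 G) : Subgroup G) ↔ g⁻¹ * x * g ∈ (S : Subgroup G) := by
  rw [show ((g • S : Sylow 2 G) : Subgroup G) = MulAut.conj g • (S : Subgroup G) from rfl,
    Subgroup.mem_pointwise_smul_iff_inv_smul_mem]
  simp [MulAut.smul_def]

theorem conj_mem_smul {S : Sylow 2 G} (g : G) {x : G} (hx : x ∈ (S : Subgroup G)) :
    g * x * g⁻¹ ∈ ((g • S : Sylow 2 G) : Subgroup G) :=
  mem_smul_iff.2 (by rwa [show g⁻¹ * (g * x * g⁻¹) * g = x by group])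

/-- An element centralising a four group of `S` normalises `S`. -/
theorem Uni.normalizes [Finite G] (h : Uni G) {S : Sylow 2 G} {a b : G}
    (haS : a ∈ (S : Subgroup G)) (hbS : b ∈ (S : Subgroup G)) (ha : a * a = 1) (hb : b * b = 1)
    (hab : a * b = b * a) (ha1 : a ≠ 1) (hb1 : b ≠ 1) (hne : a ≠ b) {g : G}
    (hga : g * a * g⁻¹ ∈ (S : Subgroup G)) (hgb : g * b * g⁻¹ ∈ (S : Subgroup G)) :
    g ∈ normalizer ((S : Subgroup G) : Set G) := by
  refine eq_smul_iff.1 (h S (g • S) (g * a * g⁻¹) (g * b * g⁻¹) hga (conj_mem_smul g haS) hgb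
    (conj_mem_smul g hbS) ?_ ?_ ?_ ?_ ?_ ?_).symm
  · rw [conj_mul, ha, mul_one, mul_inv_cancel]
  · rw [conj_mul, hb, mul_one, mul_inv_cancel]
  · rw [conj_mul, conj_mul, hab]
  · exact fun h' => ha1 (conj_eq_one_iff.1 h')
  · exact fun h' => hb1 (conj_eq_one_iff.1 h')
  · exact fun h' => hne (mul_left_cancel (mul_right_cancel h'))

/-- The property passes to a quotient by a normal subgroup of odd order. -/
theorem Uni.quotient [Finite G] (h : Uni G) (O : Subgroup G) [O.Normal]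
    (hO : Odd (Nat.card ↥O)) : Uni (G ⧸ O) := by
  haveI : Fact (Nat.Prime 2) := ⟨Nat.prime_two⟩
  set π := QuotientGroup.mk' O with hπ
  have hsurj : Function.Surjective π := QuotientGroup.mk'_surjective O
  have hpre : ∀ P : Sylow 2 (G ⧸ O), ∃ S : Sylow 2 G, ∀ x,
      x ∈ (P : Subgroup (G ⧸ O)) ↔ ∃ s ∈ (S : Subgroup G), π s = x := by
    intro P
    obtain ⟨S₀⟩ := (inferInstance : Nonempty (Sylow 2 G))
    obtain ⟨q, hq⟩ := MulAction.exists_smul_eq (G ⧸ O) (S₀.mapSurjective hsurj) P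
    obtain ⟨g, rfl⟩ := hsurj q
    refine ⟨g • S₀, fun x => ?_⟩
    rw [← hq]
    constructor
    · intro hx
      have hx' : (π g)⁻¹ * x * π g ∈ (S₀ : Subgroup G).map π := mem_smul_iff.1 hx
      obtain ⟨z, hz, hzx⟩ := hx'
      exact ⟨g * z * g⁻¹, conj_mem_smul g hz, by rw [map_mul, map_mul, map_inv, hzx]; group⟩
    · rintro ⟨s, hs, rfl⟩
      refine mem_smul_iff.2 ?_
      exact ⟨g⁻¹ * s * g, mem_smul_iff.1 hs, by simp⟩
  have hker : ∀ x : G, π x = 1 → x ∈ O := fun x hx => (QuotientGroup.eq_one_iff x).1 hx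
  have hone : ∀ (S : Sylow 2 G) (x : G), x ∈ (S : Subgroup G) → x ∈ O → x = 1 := by
    intro S x hxS hxO
    obtain ⟨k, hk⟩ := S.isPGroup' ⟨x, hxS⟩
    have h1 : x ^ 2 ^ k = 1 := congrArg Subtype.val hk
    have hd : orderOf x ∣ Nat.card ↥O := Subgroup.orderOf_dvd_natCard O hxO
    exact orderOf_eq_one_iff.1 (Nat.eq_one_of_dvd_coprimes
      ((Nat.coprime_two_left.2 hO).pow_left k) (orderOf_dvd_of_pow_eq_one h1) hd)
  have hoddst : ∀ s t : G, π s = π t → s * s = 1 → Odd (orderOf (s * t)) := by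
    intro s t hst hs
    refine hO.of_dvd_nat (Subgroup.orderOf_dvd_natCard O (hker _ ?_))
    rw [map_mul, ← hst, ← map_mul, hs, map_one]
  intro P Q a b haP haQ hbP hbQ ha hb hab ha1 hb1 hne
  obtain ⟨S, hS⟩ := hpre P
  obtain ⟨T, hT⟩ := hpre Q
  obtain ⟨s, hsS, rfl⟩ := (hS a).1 haP
  obtain ⟨s', hsS', rfl⟩ := (hS b).1 hbP
  obtain ⟨t, htT, hts⟩ := (hT _).1 haQ
  obtain ⟨t', htT', hts'⟩ := (hT _).1 hbQ
  have hlift : ∀ (U : Sylow 2 G) (x : G), x ∈ (U : Subgroup G) → π x * π x = 1 → x * x = 1 :=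
    fun U x hx hx1 => hone U _ (mul_mem hx hx) (hker _ (by rw [map_mul, hx1]))
  have hs2 := hlift S s hsS ha
  have hs2' := hlift S s' hsS' hb
  have ht2 := hlift T t htT (hts.symm ▸ ha)
  have ht2' := hlift T t' htT' (hts'.symm ▸ hb)
  have hcm : ∀ (U : Sylow 2 G) (x y : G), x ∈ (U : Subgroup G) → y ∈ (U : Subgroup G) →
      π x * π y = π y * π x → x * y = y * x := by
    intro U x y hx hy hxy
    have := hone U (x * y * (y * x)⁻¹) (mul_mem (mul_mem hx hy) (inv_mem (mul_mem hy hx)))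
      (hker _ (by rw [map_mul, map_inv, map_mul, map_mul, hxy, mul_inv_cancel]))
    exact mul_inv_eq_one.1 this
  have hss := hcm S s s' hsS hsS' hab
  have htt := hcm T t t' htT htT' (by rw [hts, hts']; exact hab)
  -- move `t` to `s`
  obtain ⟨o, ho, hot⟩ := exists_conj_of_odd ht2 hs2 (hoddst t s hts ht2)
  have hπo : π o = 1 := by
    obtain ⟨i, rfl⟩ := ho
    rw [map_zpow, map_mul, hts, ha, one_zpow]
  set t₁ := o * t' * o⁻¹ with ht1
  have ht1s : s * t₁ = t₁ * s := by rw [← hot, ht1, conj_mul, conj_mul, htt]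
  have ht1π : π t₁ = π s' := by rw [ht1, map_mul, map_mul, map_inv, hπo, hts']; group
  have ht1sq : t₁ * t₁ = 1 := by rw [ht1, conj_mul, ht2', mul_one, mul_inv_cancel]
  obtain ⟨o', ho', hot'⟩ := exists_conj_of_odd ht1sq hs2' (hoddst t₁ s' ht1π ht1sq)
  have hπo' : π o' = 1 := by
    obtain ⟨i, rfl⟩ := ho'
    rw [map_zpow, map_mul, ht1π, hb, one_zpow]
  have ho's : o' * s = s * o' := by
    obtain ⟨i, rfl⟩ := ho'
    exact ((Commute.mul_left (ht1s.symm : Commute t₁ s) (hss.symm : Commute s' s)).zpow_left i).eq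
  have hST : S = (o' * o) • T := by
    refine h S _ s s' hsS ?_ hsS' ?_ hs2 hs2' hss ?_ ?_ ?_
    · rw [show s = o' * o * t * (o' * o)⁻¹ by
        calc s = o' * s * o'⁻¹ := by rw [ho's, mul_inv_cancel_right]
          _ = _ := by rw [← hot]; group]
      exact conj_mem_smul _ htT
    · rw [show s' = o' * o * t' * (o' * o)⁻¹ by rw [← hot', ht1]; group]
      exact conj_mem_smul _ htT'
    · exact fun h' => ha1 (by rw [h', map_one])
    · exact fun h' => hb1 (by rw [h', map_one])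
    · exact fun h' => hne (by rw [h'])
  refine Sylow.ext (Subgroup.ext fun x => ?_)
  rw [hS, hT]
  constructor
  · rintro ⟨y, hy, rfl⟩
    rw [hST] at hy
    exact ⟨_, mem_smul_iff.1 hy, by simp [hπo, hπo']⟩
  · rintro ⟨y, hy, rfl⟩
    refine ⟨(o' * o) * y * (o' * o)⁻¹, ?_, by simp [hπo, hπo']⟩
    rw [hST]
    exact conj_mem_smul _ hy

/-- If `S` contains an elementary abelian group of order eight, it centralises every subgroup of
odd order which it normalises. -/
theorem Uni.centralizes_odd [Finite G] (h : Uni G) (S : Sylow 2 G) {O : Subgroup G} [O.Normal]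
    (hO : Odd (Nat.card ↥O)) {e f g : G} (heS : e ∈ (S : Subgroup G)) (hfS : f ∈ (S : Subgroup G))
    (hgS : g ∈ (S : Subgroup G)) (he : e * e = 1) (hf : f * f = 1) (hg : g * g = 1)
    (hef : e * f = f * e) (heg : e * g = g * e) (hfg : f * g = g * f)
    (hind : e ≠ 1 ∧ f ≠ 1 ∧ g ≠ 1 ∧ e ≠ f ∧ e ≠ g ∧ f ≠ g ∧ g ≠ e * f) :
    ∀ o ∈ O, ∀ s ∈ (S : Subgroup G), s * o = o * s := by
  obtain ⟨he1, hf1, hg1, hne1, hne2, hne3, hne4⟩ := hind
  set M := O ⊓ centralizer ((S : Subgroup G) : Set G) with hM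
  -- the centraliser in `O` of a four group of `S`
  have hfour : ∀ a b : G, a ∈ (S : Subgroup G) → b ∈ (S : Subgroup G) → a * a = 1 → b * b = 1 →
      a * b = b * a → a ≠ 1 → b ≠ 1 → a ≠ b → ∀ o ∈ O, a * o * a⁻¹ = o → b * o * b⁻¹ = o → o ∈ M := by
    intro a b haS hbS ha hb hab ha1 hb1 hne o ho hoa hob
    have hca : ∀ c : G, c * o * c⁻¹ = o → o * c * o⁻¹ = c := fun c hc => by
      calc o * c * o⁻¹ = (c * o * c⁻¹) * c * o⁻¹ := by rw [hc]
        _ = c := by group
    have hn := h.normalizes haS hbS ha hb hab ha1 hb1 hne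
      (by rw [hca a hoa]; exact haS) (by rw [hca b hob]; exact hbS)
    refine ⟨ho, mem_centralizer_iff.2 fun s hs => ?_⟩
    have h1 : s * o * s⁻¹ * o⁻¹ ∈ (S : Subgroup G) := by
      have := mul_mem hs ((mem_normalizer_iff.1 hn s⁻¹).1 (inv_mem hs))
      simpa [mul_assoc] using this
    have h2 : s * o * s⁻¹ * o⁻¹ ∈ O :=
      mul_mem (Subgroup.Normal.conj_mem inferInstance o ho s) (inv_mem ho)
    obtain ⟨k, hk⟩ := S.isPGroup' ⟨_, h1⟩
    have h3 : s * o * s⁻¹ * o⁻¹ = 1 := orderOf_eq_one_iff.1 (Nat.eq_one_of_dvd_coprimes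
      ((Nat.coprime_two_left.2 hO).pow_left k) (orderOf_dvd_of_pow_eq_one (congrArg Subtype.val hk))
      (Subgroup.orderOf_dvd_natCard O h2))
    exact mul_inv_eq_iff_eq_mul.1 (mul_inv_eq_one.1 h3)
  -- the centraliser in `O` of one involution
  have hinv : ∀ a b c : G, a ∈ (S : Subgroup G) → b ∈ (S : Subgroup G) → c ∈ (S : Subgroup G) →
      a * a = 1 → b * b = 1 → c * c = 1 → a * b = b * a → a * c = c * a → b * c = c * b →
      a ≠ 1 → b ≠ 1 → c ≠ 1 → a ≠ b → a ≠ c → b * c ≠ 1 → a ≠ b * c →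
      ∀ o ∈ O, a * o * a⁻¹ = o → o ∈ M := by
    intro a b c haS hbS hcS ha hb hc hab hac hbc ha1 hb1 hc1 hn1 hn2 hbc1 hn3 o ho hoa
    have hbc2 : b * c * (b * c) = 1 := by
      rw [mul_assoc, ← mul_assoc c b c, ← hbc, mul_assoc b c c, hc, mul_one, hb]
    have hcomm : ∀ x : G, a * x = x * a → ∀ y ∈ O ⊓ centralizer ({a} : Set G),
        x * y * x⁻¹ ∈ O ⊓ centralizer ({a} : Set G) := by
      intro x hx y hy
      refine ⟨Subgroup.Normal.conj_mem inferInstance y hy.1 x, mem_centralizer_singleton_iff.2 ?_⟩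
      have hy' : Commute y a := mem_centralizer_singleton_iff.1 hy.2
      have hx' : Commute x a := hx.symm
      exact ((hx'.mul_left hy').mul_left hx'.inv_left).eq
    have hfix : ∀ y ∈ O ⊓ centralizer ({a} : Set G), a * y * a⁻¹ = y := fun y hy => by
      rw [← mem_centralizer_singleton_iff.1 hy.2, mul_inv_cancel_right]
    refine RankOne.Involution.le_of_four_group (H := O ⊓ centralizer ({a} : Set G)) (M := M)
      (hO.of_dvd_nat (Subgroup.card_dvd_of_le inf_le_left)) hb hc hbc (hcomm b hab) (hcomm c hac)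
      (fun y hy hyb => hfour a b haS hbS ha hb hab ha1 hb1 hn1 y hy.1 (hfix y hy) hyb)
      (fun y hy hyc => hfour a c haS hcS ha hc hac ha1 hc1 hn2 y hy.1 (hfix y hy) hyc)
      (fun y hy hyc => hfour a (b * c) haS (mul_mem hbS hcS) ha hbc2
        (Commute.mul_right hab hac).eq ha1 hbc1 hn3 y hy.1 (hfix y hy) hyc)
      ⟨ho, mem_centralizer_singleton_iff.2 ?_⟩
    calc o * a = (a * o * a⁻¹) * a := by rw [hoa]
      _ = a * o := by rw [inv_mul_cancel_right]
  have hcancel : ∀ a b : G, a * a = 1 → a * b = 1 → a = b := fun a b ha hab =>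
    (mul_left_cancel (hab.trans ha.symm)).symm
  have hle : O ≤ M := RankOne.Involution.le_of_four_group (M := M) hO he hf hef
    (fun o ho => Subgroup.Normal.conj_mem inferInstance o ho e)
    (fun o ho => Subgroup.Normal.conj_mem inferInstance o ho f)
    (hinv e f g heS hfS hgS he hf hg hef heg hfg he1 hf1 hg1 hne1 hne2
      (fun h' => hne3 (hcancel f g hf h'))
      (fun h' => hne4 (by
        calc g = (f * f) * g := by rw [hf, one_mul]
          _ = f * (f * g) := mul_assoc _ _ _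
          _ = e * f := by rw [← h', hef])))
    (hinv f e g hfS heS hgS hf he hg hef.symm hfg heg hf1 he1 hg1 (Ne.symm hne1) hne3
      (fun h' => hne2 (hcancel e g he h'))
      (fun h' => hne4 (by
        calc g = (e * e) * g := by rw [he, one_mul]
          _ = e * (e * g) := mul_assoc _ _ _
          _ = e * f := by rw [← h'])))
    (hinv (e * f) f g (mul_mem heS hfS) hfS hgS
      (by rw [mul_assoc, ← mul_assoc f e f, ← hef, mul_assoc e f f, hf, mul_one, he]) hf hg
      (Commute.mul_left hef (Commute.refl f)).eq (Commute.mul_left heg hfg).eq hfg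
      (fun h' => hne1 (hcancel e f he h')) hf1 hg1 (fun h' => he1 (mul_eq_right.1 h')) (Ne.symm hne4)
      (fun h' => hne3 (hcancel f g hf h')) (fun h' => hne2 (mul_left_cancel (hef.symm.trans h'))))
  intro o ho s hs
  exact mem_centralizer_iff.1 (hle ho).2 s hs

end Cfsg.Agent.Lib.Inter3310
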