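import Cfsg.Agent.Lib.Inter3310.Setting
import Cfsg.Agent.Lib.Inter3310.Outer
import Cfsg.Agent.Lib.Inter3308.Main
import Cfsg.Agent.Lib.Goldschmidt53.Facts
import Cfsg.Agent.Lib.Balance.LBalance
import Cfsg.Agent.Lib.FStarTools.Basic

/-!
# With trivial cores the intersections of distinct Sylow 2-subgroups are cyclic

The group then has a simple normal subgroup of odd index on the list of S3185, and in all these
groups two Sylow 2-subgroups with a common four-group, or a common involution when the Sylow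
subgroups are not abelian, are equal.
-/

set_option autoImplicit false
set_option linter.style.haveILetI false
set_option linter.unusedSectionVars false

namespace Cfsg.Agent.Lib.Inter3310

open Subgroup Cfsg.Agent.Lib.Components

universe u

variable {X : Type u} [Group X] [Finite X]

/-- A noncyclic group of exponent two has two involutions. -/
theorem exists_two_of_sq {D : Subgroup X} (hnc : ¬ IsCyclic ↥D) (hsq : ∀ x ∈ D, x * x = 1) :
    ∃ a b : X, a ∈ D ∧ b ∈ D ∧ a ≠ 1 ∧ b ≠ 1 ∧ a ≠ b ∧ a * b = b * a := by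
  obtain ⟨a, ha, ha1⟩ : ∃ a ∈ D, a ≠ 1 := by
    by_contra h
    push Not at h
    refine hnc ?_
    rw [(Subgroup.eq_bot_iff_forall D).2 h]
    exact isCyclic_of_subsingleton
  obtain ⟨b, hb, hb1, hab⟩ : ∃ b ∈ D, b ≠ 1 ∧ a ≠ b := by
    by_contra h
    push Not at h
    refine hnc ⟨⟨⟨a, ha⟩, fun x => ?_⟩⟩
    by_cases hx : x = 1
    · rw [hx]; exact ⟨0, zpow_zero _⟩
    · exact ⟨1, (zpow_one _).trans (Subtype.ext (h x x.2 fun e => hx (Subtype.ext e)))⟩
  refine ⟨a, b, ha, hb, ha1, hb1, hab, ?_⟩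
  calc a * b = (a * b)⁻¹ := (inv_eq_of_mul_eq_one_right (hsq _ (mul_mem ha hb))).symm
    _ = b * a := by
      rw [mul_inv_rev, inv_eq_of_mul_eq_one_right (hsq a ha), inv_eq_of_mul_eq_one_right (hsq b hb)]

/-- A non-abelian simple group has two commuting involutions in a Sylow 2-subgroup. -/
theorem exists_four_simple {L : Type u} [Group L] [Finite L] [IsSimpleGroup L]
    (hna : ¬ IsMulCommutative L) : ∃ (T : Sylow 2 L) (a b : L), a ∈ (T : Subgroup L) ∧
      b ∈ (T : Subgroup L) ∧ a * a = 1 ∧ b * b = 1 ∧ a * b = b * a ∧ a ≠ 1 ∧ b ≠ 1 ∧ a ≠ b := by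
  haveI : Fact (Nat.Prime 2) := ⟨Nat.prime_two⟩
  obtain ⟨T⟩ := (inferInstance : Nonempty (Sylow 2 L))
  haveI : Nontrivial ↥(T : Subgroup L) :=
    (Subgroup.nontrivial_iff_ne_bot _).2 (Inter3308.sylow_ne_bot hna T)
  haveI := T.isPGroup'.center_nontrivial
  obtain ⟨z₀, hz₀⟩ := exists_prime_orderOf_dvd_card' (G := ↥(center ↥(T : Subgroup L))) 2
    (((T.isPGroup'.to_subgroup (center ↥(T : Subgroup L))).card_eq_or_dvd).resolve_left
      Finite.one_lt_card.ne')
  set z : L := ((z₀ : ↥(T : Subgroup L)) : L) with hz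
  have hzo : orderOf z = 2 := by rw [hz, Subgroup.orderOf_coe, Subgroup.orderOf_coe, hz₀]
  have hz2 : z * z = 1 := by rw [← pow_two, ← hzo]; exact pow_orderOf_eq_one z
  have hz1 : z ≠ 1 := fun h => by rw [h, orderOf_one] at hzo; exact absurd hzo (by norm_num)
  have hzT : z ∈ (T : Subgroup L) := (z₀ : ↥(T : Subgroup L)).2
  by_cases hw : ∃ w ∈ (T : Subgroup L), w * w = 1 ∧ w ≠ 1 ∧ z ≠ w
  · obtain ⟨w, hw, hw2, hw1, hne⟩ := hw
    exact ⟨T, z, w, hzT, hw, hz2, hw2,
      (congrArg Subtype.val (mem_center_iff.1 z₀.2 ⟨w, hw⟩)).symm, hz1, hw1, hne⟩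
  push Not at hw
  exfalso
  have hiso : ∀ g : L, g * z * g⁻¹ ∈ (T : Subgroup L) → g * z * g⁻¹ = z := fun g hg =>
    (hw _ hg (by rw [conj_mul, hz2, mul_one, mul_inv_cancel])
      fun e => hz1 (conj_eq_one_iff.1 e)).symm
  obtain ⟨N, hN, hodd, hc⟩ := Cfsg.Agent.S0215.result T z hzo hzT hiso
  have hNb : N = ⊥ := hN.eq_bot_or_eq_top.resolve_right fun h => by
    rw [h, Subgroup.card_top] at hodd
    exact hna ⟨⟨IsSimpleGroup.comm_iff_isSolvable.2 (Cfsg.Agent.S0205.result hodd)⟩⟩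
  have hzc : z ∈ center L := mem_center_iff.2 fun g => by
    have h1 := hc g
    rw [hNb, mem_bot] at h1
    exact (mul_inv_eq_iff_eq_mul.1 (mul_inv_eq_one.1 h1)).symm
  rw [SmallGroups.Sylow.center_eq_bot hna, mem_bot] at hzc
  exact hz1 hzc

/-- With trivial cores there is a simple normal subgroup with trivial centraliser. -/
theorem exists_socle (h : Uni X) (hns : ¬ Group.IsSolvable X) (hO : Cfsg.oddCore X = ⊥)
    (hP : Cfsg.pCore 2 X = ⊥) :
    ∃ M : Subgroup X, M.Normal ∧ IsSimpleGroup ↥M ∧ ¬ IsMulCommutative ↥M ∧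
      centralizer (M : Set X) = ⊥ := by
  classical
  haveI : Fact (Nat.Prime 2) := ⟨Nat.prime_two⟩
  have hF : Cfsg.fittingSubgroup X = ⊥ := by rw [FStarTools.fitting_eq_pCore hO, hP]
  obtain ⟨K, hK⟩ : ∃ K : Subgroup X, Cfsg.IsComponent K := by
    by_contra hne
    have hlay : Cfsg.layer X = ⊥ := by
      by_contra hl
      exact hne (Components.Layer.layer_ne_bot_iff.1 hl)
    have hle := FStarTools.centralizer_fitting_le_iff.2 hlay
    rw [hF] at hle
    refine hns (Group.isSolvable_of_comm fun a b => ?_)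
    have ha : a ∈ (⊥ : Subgroup X) := hle (mem_centralizer_iff.2 fun y hy => by
      rw [SetLike.mem_coe, mem_bot] at hy
      rw [hy, one_mul, mul_one])
    rw [mem_bot] at ha
    rw [ha, one_mul, mul_one]
  -- something centralising all components is trivial
  have htriv : ∀ x : X, (∀ J : Subgroup X, Cfsg.IsComponent J → ∀ j ∈ J, j * x = x * j) → x = 1 := by
    intro x hx
    have hx' : x ∈ Cfsg.fittingSubgroup X := by
      refine FStarTools.center_genFitting_le ?_
      have hle : Cfsg.generalizedFittingSubgroup X ≤ centralizer ({x} : Set X) :=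
        sup_le (sSup_le fun J hJ j hj => mem_centralizer_singleton_iff.2 (hx J hJ j hj))
          (by rw [hF]; exact bot_le)
      exact mem_centralizer_iff.2 fun g hg => mem_centralizer_singleton_iff.1 (hle hg)
    rwa [hF, mem_bot] at hx'
  -- components are simple
  have hcen : ∀ {J : Subgroup X}, Cfsg.IsComponent J → center ↥J = ⊥ := by
    intro J hJ
    rw [Subgroup.eq_bot_iff_forall]
    intro x hx
    refine Subtype.ext (htriv x fun L hL l hl => ?_)
    by_cases hLJ : L = J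
    · exact congrArg Subtype.val (mem_center_iff.1 hx ⟨l, hLJ ▸ hl⟩)
    · exact (mem_centralizer_iff.1 (Component.le_centralizer_of_ne hL hJ hLJ hl) x x.2).symm
  have hsimp : ∀ {J : Subgroup X}, Cfsg.IsComponent J →
      IsSimpleGroup ↥J ∧ ¬ IsMulCommutative ↥J := by
    intro J hJ
    haveI := hJ.2.2
    refine ⟨((QuotientGroup.quotientMulEquivOfEq (hcen hJ)).trans
      QuotientGroup.quotientBot).symm.isSimpleGroup_congr.2 hJ.2.2, fun hc => ?_⟩
    exact Component.not_isSolvable hJ (Group.isSolvable_of_comm fun a b => hc.is_comm.comm a b)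
  -- there is only one component
  have honly : ∀ L : Subgroup X, Cfsg.IsComponent L → L = K := by
    intro L hL
    by_contra hne
    haveI := (hsimp hK).1
    obtain ⟨T, a, b, haT, hbT, ha2, hb2, hab, ha1, hb1, hne'⟩ := exists_four_simple (hsimp hK).2
    obtain ⟨R, R', hRR⟩ := Inter3308.exists_two_sylow (Component.not_isSolvable hL)
    have hcomm : ∀ k ∈ K, ∀ l ∈ L, k * l = l * k := fun k hk l hl =>
      mem_centralizer_iff.1 (Component.le_centralizer_of_ne hL hK hne hl) k hk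
    have key : ∀ U : Sylow 2 ↥L, ∃ P : Sylow 2 X, (a : X) ∈ (P : Subgroup X) ∧
        (b : X) ∈ (P : Subgroup X) ∧ ∀ x ∈ (U : Subgroup ↥L), (x : X) ∈ (P : Subgroup X) := by
      intro U
      have hn : (T : Subgroup ↥K).map K.subtype ≤
          normalizer ((((U : Subgroup ↥L).map L.subtype) : Subgroup X) : Set X) := by
        rintro _ ⟨k, -, rfl⟩
        exact centralizer_le_normalizer _ (mem_centralizer_iff.2 (by
          rintro _ ⟨l, -, rfl⟩
          exact (hcomm k k.2 l l.2).symm))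
      obtain ⟨P, hP⟩ := (IsPGroup.to_sup_of_normal_right' (T.isPGroup'.map K.subtype)
        (U.isPGroup'.map L.subtype) hn).exists_le_sylow
      exact ⟨P, (le_sup_left.trans hP) ⟨a, haT, rfl⟩, (le_sup_left.trans hP) ⟨b, hbT, rfl⟩,
        fun x hx => (le_sup_right.trans hP) ⟨x, hx, rfl⟩⟩
    obtain ⟨P, haP, hbP, hPR⟩ := key R
    obtain ⟨P', haP', hbP', hPR'⟩ := key R'
    obtain rfl := h P P' a b haP haP' hbP hbP' (congrArg Subtype.val ha2) (congrArg Subtype.val hb2)
      (congrArg Subtype.val hab) (fun e => ha1 (Subtype.ext e)) (fun e => hb1 (Subtype.ext e))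
      (fun e => hne' (Subtype.ext e))
    refine hRR (Sylow.ext ?_)
    have h2 : IsPGroup 2 ↥((P : Subgroup X).subgroupOf L) := P.isPGroup'.comap_subtype
    exact (R.3 h2 fun x hx => hPR x hx).symm.trans (R'.3 h2 fun x hx => hPR' x hx)
  refine ⟨K, ⟨fun x hx g => ?_⟩, (hsimp hK).1, (hsimp hK).2, ?_⟩
  · exact (honly _ (Component.conj hK g)).le ⟨x, hx, rfl⟩
  · rw [Subgroup.eq_bot_iff_forall]
    exact fun x hx => htriv x fun J hJ j hj => mem_centralizer_iff.1 hx j (honly J hJ ▸ hj)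

/-- Two commuting involutions, central in the Sylow subgroup, and how Sylow subgroups meet. -/
structure SylData (L : Type u) [Group L] : Prop where
  four : ∀ P : Sylow 2 L, ∃ a b : L, a ∈ (P : Subgroup L) ∧ b ∈ (P : Subgroup L) ∧ a * a = 1 ∧
    b * b = 1 ∧ a ≠ 1 ∧ b ≠ 1 ∧ a ≠ b ∧
    (∀ p ∈ (P : Subgroup L), a * p = p * a) ∧ ∀ p ∈ (P : Subgroup L), b * p = p * b
  inter : ∀ P : Sylow 2 L, (∀ x ∈ (P : Subgroup L), x * x = 1) ∨
    ∀ z ∈ (P : Subgroup L), z * z = 1 → z ≠ 1 →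
      centralizer ({z} : Set L) ≤ normalizer ((P : Subgroup L) : Set L) ∧
      ∀ p ∈ (P : Subgroup L), z * p = p * z

theorem sylData_of_elementary {L : Type u} [Group L] [Finite L]
    (h : ∀ P : Sylow 2 L, (∀ x ∈ (P : Subgroup L), x * x = 1) ∧ ¬ IsCyclic ↥(P : Subgroup L)) :
    SylData L := by
  refine ⟨fun P => ?_, fun P => Or.inl (h P).1⟩
  obtain ⟨a, b, ha, hb, ha1, hb1, hne, -⟩ := exists_two_of_sq (h P).2 (h P).1
  exact ⟨a, b, ha, hb, (h P).1 a ha, (h P).1 b hb, ha1, hb1, hne,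
    fun p hp => Inter3308.comm_of_sq (h P).1 ha hp, fun p hp => Inter3308.comm_of_sq (h P).1 hb hp⟩

theorem sylData_of_bender {L : Type u} [Group L] [Finite L]
    (h : ∀ P : Sylow 2 L, Goldschmidt53.BenderLocal L (P : Subgroup L)) : SylData L := by
  refine ⟨fun P => ?_, fun P => Or.inr fun z hz hz2 hz1 =>
    ⟨(h P).cent_le z hz hz2 hz1, (h P).central z hz hz2⟩⟩
  obtain ⟨Z, hZ, h2, h4⟩ := (h P).four
  have hnc : ¬ IsCyclic ↥Z := fun hc => by
    obtain ⟨g, hg⟩ := hc.exists_generator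
    have h1 : orderOf g ∣ 2 := orderOf_dvd_of_pow_eq_one (Subtype.ext (by
      rw [SubmonoidClass.coe_pow, pow_two]; exact h2 _ g.2))
    have := Nat.le_of_dvd two_pos h1
    rw [orderOf_eq_card_of_forall_mem_zpowers hg] at this
    omega
  obtain ⟨a, b, ha, hb, ha1, hb1, hne, -⟩ := exists_two_of_sq hnc h2
  exact ⟨a, b, hZ ha, hZ hb, h2 a ha, h2 b hb, ha1, hb1, hne,
    (h P).central a (hZ ha) (h2 a ha), (h P).central b (hZ hb) (h2 b hb)⟩

/-- The groups of the list. -/
theorem sylData_of_families {L : Type u} [Group L] [Finite L] [IsSimpleGroup L]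
    (hna : ¬ IsMulCommutative L) (h : Inter3185.Families L) : SylData L := by
  haveI : Fact (Nat.Prime 2) := ⟨Nat.prime_two⟩
  have hnc : ∀ P : Sylow 2 L, ¬ IsCyclic ↥(P : Subgroup L) := fun P =>
    Inter3308.not_isCyclic_sylow hna P (Inter3308.sylow_ne_bot hna P)
  have hk : Walter.KnownFacts L → SylData L := fun hf => sylData_of_elementary fun P =>
    ⟨fun x hx => by rw [← pow_two]; exact (hf.elementary P).2 x hx, hnc P⟩
  rcases h with ⟨n, F, _, _, hn, hF, ⟨e⟩⟩ | ⟨m, F, i1, i2, hm, hF, he⟩ |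
    ⟨n, F, _, _, hn, hF, ⟨e⟩⟩ | ⟨F, _, _, hF, h5, ⟨e⟩⟩ | hJ
  · exact hk (Walter.Known.even_facts hn hF e)
  · exact sylData_of_bender (Goldschmidt53.suzuki_local ⟨F, i1, i2, m, hm, hF, he⟩)
  · have hF' : Fintype.card F = (2 ^ n) ^ 2 := by
      rw [hF, ← pow_mul, mul_comm, pow_mul]; norm_num
    exact sylData_of_bender (Goldschmidt53.unitary_local hn hF' e)
  · exact hk (Walter.Known.odd_facts hF h5.le e).1
  · obtain ⟨t, ht, ⟨P₀, htP, hPc⟩, ⟨e⟩⟩ := Order175560Uniq.exists_involution (G := L) hJ.2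
    have hP8 : Nat.card ↥(P₀ : Subgroup L) = 8 :=
      SmallGroups.Sylow.card_sylow_eq P₀ (a := 3) (m := 21945) (by rw [hJ.2]; norm_num)
        (by norm_num)
    have h2 : ∀ x ∈ (P₀ : Subgroup L), x * x = 1 := by
      intro x hx
      have hxC : x ∈ centralizer ({t} : Set L) := mem_centralizer_singleton_iff.2 (hPc x hx)
      have hx8 : (⟨x, hxC⟩ : ↥(centralizer ({t} : Set L))) ^ 8 = 1 := Subtype.ext (by
        rw [SubmonoidClass.coe_pow, Subgroup.coe_one, ← hP8]
        exact congrArg Subtype.val (pow_card_eq_one' (x := (⟨x, hx⟩ : ↥(P₀ : Subgroup L)))))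
      have hsq : e (⟨x, hxC⟩ ^ 2) = 1 := by
        have h8 : e ⟨x, hxC⟩ ^ 8 = 1 := by rw [← map_pow, hx8, map_one]
        rw [map_pow]
        refine Prod.ext ?_ (Inter3308.alt_five_sq _ (congrArg Prod.snd h8))
        show (e ⟨x, hxC⟩).1 ^ 2 = 1
        exact Inter3308.zmod_two_sq _
      rw [← pow_two]
      exact congrArg Subtype.val ((map_eq_one_iff e e.injective).1 hsq)
    refine sylData_of_elementary fun P => ⟨fun x hx => ?_, hnc P⟩
    obtain ⟨g, rfl⟩ := MulAction.exists_smul_eq L P₀ P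
    have h1 := h2 _ (mem_smul_iff.1 hx)
    calc x * x = g * (g⁻¹ * x * g * (g⁻¹ * x * g)) * g⁻¹ := by group
      _ = 1 := by rw [h1, mul_one, mul_inv_cancel]

/-- With trivial cores and distinct Sylow subgroups meeting in rank at most one, the intersections
are cyclic. -/
theorem no_rad (hS : Inter3185.SimpleStatement.{u}) (h : Uni X) (hns : ¬ Group.IsSolvable X)
    (hO : Cfsg.oddCore X = ⊥) (hP : Cfsg.pCore 2 X = ⊥) {S T : Sylow 2 X} (hne : S ≠ T) :
    IsCyclic ↥((S : Subgroup X) ⊓ (T : Subgroup X)) := by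
  haveI : Fact (Nat.Prime 2) := ⟨Nat.prime_two⟩
  by_contra hnc
  obtain ⟨M, hMn, hMs, hna, hcent⟩ := exists_socle h hns hO hP
  haveI := hMn
  haveI := hMs
  have hV : Inter3185.VHyp ↥M := by
    intro P Q E hEP hEQ hE hcard z _ _
    obtain ⟨P', hP'⟩ := (P.isPGroup'.map M.subtype).exists_le_sylow
    obtain ⟨Q', hQ'⟩ := (Q.isPGroup'.map M.subtype).exists_le_sylow
    have hsq : ∀ x ∈ E, x * x = 1 := fun x hx => by rw [← pow_two]; exact hE.2 x hx
    have hnc' : ¬ IsCyclic ↥E := fun hc => by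
      obtain ⟨g, hg⟩ := hc.exists_generator
      have h1 : orderOf g ∣ 2 := orderOf_dvd_of_pow_eq_one (Subtype.ext (by
        rw [SubmonoidClass.coe_pow, pow_two]; exact hsq _ g.2))
      have := Nat.le_of_dvd two_pos h1
      rw [orderOf_eq_card_of_forall_mem_zpowers hg, hcard] at this
      omega
    obtain ⟨a, b, ha, hb, ha1, hb1, hne', hab⟩ := exists_two_of_sq hnc' hsq
    obtain rfl := h P' Q' a b (hP' ⟨a, hEP ha, rfl⟩) (hQ' ⟨a, hEQ ha, rfl⟩) (hP' ⟨b, hEP hb, rfl⟩)
      (hQ' ⟨b, hEQ hb, rfl⟩) (congrArg Subtype.val (hsq a ha)) (congrArg Subtype.val (hsq b hb))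
      (congrArg Subtype.val hab) (fun e => ha1 (Subtype.ext e)) (fun e => hb1 (Subtype.ext e))
      (fun e => hne' (Subtype.ext e))
    have h2 : IsPGroup 2 ↥((P' : Subgroup X).subgroupOf M) := P'.isPGroup'.comap_subtype
    exact Sylow.ext ((P.3 h2 fun x hx => hP' ⟨x, hx, rfl⟩).symm.trans
      (Q.3 h2 fun x hx => hQ' ⟨x, hx, rfl⟩))
  have hfam := hS ↥M hna hV
  have hD := sylData_of_families hna hfam
  have hdet : ∀ SM : Sylow 2 ↥M,
      Det (((center ↥(SM : Subgroup ↥M)).map (SM : Subgroup ↥M).subtype).map M.subtype) := by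
    intro SM P Q hUP hUQ
    obtain ⟨a, b, ha, hb, ha2, hb2, ha1, hb1, hne', hac, hbc⟩ := hD.four SM
    have hU : ∀ y : ↥M, y ∈ (SM : Subgroup ↥M) → (∀ p ∈ (SM : Subgroup ↥M), y * p = p * y) →
        (y : X) ∈ ((center ↥(SM : Subgroup ↥M)).map (SM : Subgroup ↥M).subtype).map M.subtype :=
      fun y hy hyc => ⟨y, ⟨⟨y, hy⟩, mem_center_iff.2 fun p => Subtype.ext (hyc p p.2).symm, rfl⟩, rfl⟩
    exact h P Q a b (hUP (hU a ha hac)) (hUQ (hU a ha hac)) (hUP (hU b hb hbc)) (hUQ (hU b hb hbc))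
      (congrArg Subtype.val ha2) (congrArg Subtype.val hb2) (congrArg Subtype.val (hac b hb))
      (fun e => ha1 (Subtype.ext e)) (fun e => hb1 (Subtype.ext e)) (fun e => hne' (Subtype.ext e))
  have hodd := odd_index M hna hcent (Inter3308.model_of_families hna hfam) hdet
  -- the Sylow subgroups lie in `M`
  have hle : ∀ P : Sylow 2 X, (P : Subgroup X) ≤ M := by
    intro P x hx
    obtain ⟨k, hk⟩ := P.isPGroup' ⟨x, hx⟩
    have hk' : (QuotientGroup.mk' M x) ^ 2 ^ k = 1 := by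
      rw [← map_pow, show x ^ 2 ^ k = 1 from congrArg Subtype.val hk, map_one]
    refine (QuotientGroup.eq_one_iff x).1 (orderOf_eq_one_iff.1 ?_)
    refine Nat.eq_one_of_dvd_coprimes ((Nat.coprime_two_left.2 hodd).pow_left k)
      (orderOf_dvd_of_pow_eq_one hk') ?_
    rw [Subgroup.index_eq_card]
    exact orderOf_dvd_natCard _
  obtain ⟨P, hPe⟩ := Balance.exists_sylow_inf_normal S M
  obtain ⟨Q, hQe⟩ := Balance.exists_sylow_inf_normal T M
  rcases hD.inter P with hsq | hben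
  · have hsqD : ∀ x ∈ (S : Subgroup X) ⊓ (T : Subgroup X), x * x = 1 := fun x hx =>
      congrArg Subtype.val (hsq ⟨x, hle S hx.1⟩ (by rw [hPe]; exact hx.1))
    obtain ⟨a, b, ha, hb, ha1, hb1, hne', hab⟩ := exists_two_of_sq hnc hsqD
    exact hne (h S T a b ha.1 ha.2 hb.1 hb.2 (hsqD a ha) (hsqD b hb) hab ha1 hb1 hne')
  · haveI : Nontrivial ↥((S : Subgroup X) ⊓ (T : Subgroup X)) :=
      not_subsingleton_iff_nontrivial.1 fun hs => hnc (haveI := hs; isCyclic_of_subsingleton)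
    have hDp : IsPGroup 2 ↥((S : Subgroup X) ⊓ (T : Subgroup X)) := S.isPGroup'.to_le inf_le_left
    obtain ⟨d, hd⟩ := exists_prime_orderOf_dvd_card' (G := ↥((S : Subgroup X) ⊓ (T : Subgroup X))) 2
      (hDp.card_eq_or_dvd.resolve_left Finite.one_lt_card.ne')
    let z : ↥M := ⟨d, hle S d.2.1⟩
    have hd2 : d * d = 1 := by
      have := pow_orderOf_eq_one d
      rwa [hd, pow_two] at this
    have hz2 : z * z = 1 :=
      Subtype.ext (show (d : X) * d = 1 from congrArg Subtype.val hd2)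
    have hz1 : z ≠ 1 := fun e => by
      rw [show d = 1 from Subtype.ext (show (d : X) = 1 from congrArg Subtype.val e), orderOf_one] at hd
      exact absurd hd (by norm_num)
    have hzP : z ∈ (P : Subgroup ↥M) := by rw [hPe]; exact d.2.1
    have hzQ : z ∈ (Q : Subgroup ↥M) := by rw [hQe]; exact d.2.2
    have hQc : ∀ q ∈ (Q : Subgroup ↥M), z * q = q * z := by
      rcases hD.inter Q with hsq | hb
      · exact fun q hq => Inter3308.comm_of_sq hsq hzQ hq
      · exact (hb z hzQ hz2 hz1).2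
    have hQN : (Q : Subgroup ↥M) ≤ normalizer ((P : Subgroup ↥M) : Set ↥M) := fun q hq =>
      (hben z hzP hz2 hz1).1 (mem_centralizer_singleton_iff.2 (hQc q hq).symm)
    have hPQ : P = Q := by
      refine Sylow.ext ?_
      have hsup := IsPGroup.to_sup_of_normal_left' P.2 Q.2 hQN
      exact ((Q.3 hsup le_sup_right).symm.trans (P.3 hsup le_sup_left)).symm
    refine hne (Sylow.ext ?_)
    ext x
    constructor
    · intro hx
      have hx' : (⟨x, hle S hx⟩ : ↥M) ∈ (P : Subgroup ↥M) := by rw [hPe]; exact hx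
      rw [hPQ, hQe] at hx'
      exact hx'
    · intro hx
      have hx' : (⟨x, hle T hx⟩ : ↥M) ∈ (Q : Subgroup ↥M) := by rw [hQe]; exact hx
      rw [← hPQ, hPe] at hx'
      exact hx'

end Cfsg.Agent.Lib.Inter3310
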