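import Cfsg.Agent.Lib.Inter3310.Central
import Cfsg.Agent.Lib.Inter3310.NoRad
import Cfsg.Agent.Lib.GWConsumers12.RankOne

/-!
# S3310, given the simple case of S3185
-/

set_option autoImplicit false
set_option linter.style.haveILetI false
set_option linter.unusedSectionVars false

namespace Cfsg.Agent.Lib.Inter3310

open Subgroup
open scoped Pointwise

universe u

/-- S3310, given the simple case and the faithful criterion. -/
theorem row3310 (hS : Inter3185.SimpleStatement.{u}) (hcrit : Crit59.CritFaithful.{u})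
    {G : Type u} [Group G] [Finite G] (hns : ¬ Group.IsSolvable G)
    (hI : ∀ S T : Sylow 2 G, S ≠ T → Cfsg.PRankLE 2 1 ↥((S : Subgroup G) ⊓ (T : Subgroup G)))
    (hnC : ∃ S T : Sylow 2 (G ⧸ Cfsg.oddCore G), S ≠ T ∧
      ¬ IsCyclic ↥((S : Subgroup (G ⧸ Cfsg.oddCore G)) ⊓ (T : Subgroup (G ⧸ Cfsg.oddCore G))))
    (hnQ : ∀ S : Sylow 2 G, ∀ n : ℕ, IsEmpty (↥(S : Subgroup G) ≃* QuaternionGroup (2 ^ (n + 1)))) :
    (∃ (G₁ : Subgroup G) (_ : G₁.Normal) (_ : ((Cfsg.pCore 2 G ⊔ Cfsg.oddCore G).subgroupOf G₁).Normal),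
      Odd G₁.index ∧ Cfsg.pCore 2 G ⊔ Cfsg.oddCore G ≤ G₁ ∧
      (∃ n : ℕ, Nonempty (↥(Cfsg.pCore 2 G) ≃* QuaternionGroup (2 ^ (n + 1)))) ∧
      Bender (↥G₁ ⧸ (Cfsg.pCore 2 G ⊔ Cfsg.oddCore G).subgroupOf G₁)) ∨
    (∃ (G₁ : Subgroup G) (_ : G₁.Normal) (_ : ((Cfsg.oddCore G).subgroupOf G₁).Normal),
      (Odd G₁.index ∨ ∃ k : ℕ, Odd k ∧ G₁.index = 2 * k) ∧ Cfsg.oddCore G ≤ G₁ ∧
      ∃ (Z : Subgroup (Matrix.SpecialLinearGroup (Fin 2) (ZMod 5) ×
          Matrix.SpecialLinearGroup (Fin 2) (ZMod 5))) (_ : Z.Normal),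
        Z = Subgroup.zpowers ((-1 : Matrix.SpecialLinearGroup (Fin 2) (ZMod 5)),
          (-1 : Matrix.SpecialLinearGroup (Fin 2) (ZMod 5))) ∧
        Nonempty (↥G₁ ⧸ (Cfsg.oddCore G).subgroupOf G₁ ≃*
          (Matrix.SpecialLinearGroup (Fin 2) (ZMod 5) ×
            Matrix.SpecialLinearGroup (Fin 2) (ZMod 5)) ⧸ Z)) := by
  classical
  haveI : Fact (Nat.Prime 2) := ⟨Nat.prime_two⟩
  set O := Cfsg.oddCore G with hO
  have hOodd : Odd (Nat.card ↥O) := ZStar.Elements.oddCore_odd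
  set π := QuotientGroup.mk' O with hπ
  have hsurj : Function.Surjective π := QuotientGroup.mk'_surjective O
  have hOX : Cfsg.oddCore (G ⧸ O) = ⊥ := Cores.pPrimeCore_quotient_pPrimeCore 2
  have hUG := uni_of_prank hI
  have hU : Uni (G ⧸ O) := hUG.quotient O hOodd
  have hnsX : ¬ Group.IsSolvable (G ⧸ O) := fun h => by
    haveI := h
    haveI : Group.IsSolvable ↥O := Cfsg.Agent.S0205.result hOodd
    exact hns (Group.isSolvable_of_ker_le_range O.subtype π (by
      rw [hπ, QuotientGroup.ker_mk', Subgroup.range_subtype]))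
  have hinj : ∀ (S : Sylow 2 G) (x y : G), x ∈ (S : Subgroup G) → y ∈ (S : Subgroup G) →
      π x = π y → x = y := fun S x y hx hy hxy =>
    congrArg Subtype.val
      (GWConsumers12.inj_on_two S.isPGroup' hOodd (a₁ := ⟨x, hx⟩) (a₂ := ⟨y, hy⟩) hxy)
  have hnQX : ∀ P : Sylow 2 (G ⧸ O), ∀ n : ℕ,
      IsEmpty (↥(P : Subgroup (G ⧸ O)) ≃* QuaternionGroup (2 ^ (n + 1))) := by
    intro P n
    obtain ⟨S, rfl⟩ := Sylow.mapSurjective_surjective hsurj 2 P
    refine ⟨fun e => ?_⟩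
    have hbij : Function.Bijective (π.subgroupMap (S : Subgroup G)) :=
      ⟨fun a b hab => Subtype.ext (hinj S a b a.2 b.2 (congrArg Subtype.val hab)),
        MonoidHom.subgroupMap_surjective _ _⟩
    exact (hnQ S n).false ((MulEquiv.ofBijective _ hbij).trans e)
  obtain ⟨SX, TX, hne, hnc⟩ := hnC
  have hP : Cfsg.pCore 2 (G ⧸ O) ≠ ⊥ := fun h => hnc (no_rad hS hU hnsX hOX h hne)
  obtain ⟨z, hz⟩ := exists_cen hU hnsX hOX hP
  rcases central_case hcrit hz hnQX hne hnc with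
    ⟨⟨n, ⟨eZ⟩⟩, ⟨SA, a, b, haS, hbS, ha2, hb2, hab, ha1, hb1, hane, haz, hbz, hbza⟩, G₁, hG₁n, hnZ,
      hodd, hle, hB⟩ | ⟨E, hEn, hidx, Zc, hZcn, hZc, ⟨eE⟩⟩
  · left
    set Zx := Cfsg.pCore 2 (G ⧸ O) with hZx
    -- the Sylow subgroup centralises the odd core
    obtain ⟨S, rfl⟩ := Sylow.mapSurjective_surjective hsurj 2 SA
    obtain ⟨a', ha', rfl⟩ := haS
    obtain ⟨b', hb', rfl⟩ := hbS
    obtain ⟨z', hz', rfl⟩ := Cores.pCore_le_sylow (S.mapSurjective hsurj) hz.mem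
    have hsq : ∀ x ∈ (S : Subgroup G), π x * π x = 1 → x * x = 1 := fun x hx e =>
      hinj S _ 1 (mul_mem hx hx) (one_mem _) (by rw [map_mul, e, map_one])
    have hcm : ∀ x ∈ (S : Subgroup G), ∀ y ∈ (S : Subgroup G), π x * π y = π y * π x →
        x * y = y * x := fun x hx y hy e =>
      hinj S _ _ (mul_mem hx hy) (mul_mem hy hx) (by rw [map_mul, map_mul, e])
    have hcz : ∀ x, π z' * π x = π x * π z' := fun x => (mem_center_iff.1 hz.central (π x)).symm
    have hSO : ∀ o ∈ O, ∀ s ∈ (S : Subgroup G), s * o = o * s :=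
      hUG.centralizes_odd S hOodd hz' ha' hb' (hsq z' hz' hz.sq) (hsq a' ha' ha2) (hsq b' hb' hb2)
        (hcm z' hz' a' ha' (hcz a')) (hcm z' hz' b' hb' (hcz b')) (hcm a' ha' b' hb' hab)
        ⟨fun e => hz.ne (by rw [e, map_one]), fun e => ha1 (by rw [e, map_one]),
          fun e => hb1 (by rw [e, map_one]), fun e => haz (by rw [e]), fun e => hbz (by rw [e]),
          fun e => hane (by rw [e]), fun e => hbza (by rw [e, map_mul])⟩
    -- the preimage of the core
    set N := Zx.comap π with hN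
    have hdec : ∀ x ∈ N, ∃ s ∈ N ⊓ (S : Subgroup G), s⁻¹ * x ∈ O := by
      intro x hx
      obtain ⟨s, hs, hsx⟩ := Cores.pCore_le_sylow (S.mapSurjective hsurj) hx
      exact ⟨s, ⟨show π s ∈ Zx from hsx.symm ▸ hx, hs⟩, QuotientGroup.eq.1 hsx⟩
    haveI hn2 : (N ⊓ (S : Subgroup G)).Normal := by
      refine ⟨fun x hx g => ?_⟩
      have hgN : g * x * g⁻¹ ∈ N :=
        (inferInstance : (Zx.comap π).Normal).conj_mem x hx.1 g
      obtain ⟨s, hs, ho⟩ := hdec _ hgN
      have hcomm : Commute s (s⁻¹ * (g * x * g⁻¹)) := hSO _ ho s hs.2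
      obtain ⟨k, hk⟩ := S.isPGroup' ⟨x, hx.2⟩
      obtain ⟨l, hl⟩ := S.isPGroup' ⟨s, hs.2⟩
      have hk' : (g * x * g⁻¹) ^ 2 ^ (k + l) = 1 := by
        rw [conj_pow, pow_add, pow_mul, show x ^ 2 ^ k = 1 from congrArg Subtype.val hk, one_pow,
          mul_one, mul_inv_cancel]
      have hl' : s ^ 2 ^ (k + l) = 1 := by
        rw [pow_add, mul_comm, pow_mul, show s ^ 2 ^ l = 1 from congrArg Subtype.val hl, one_pow]
      have hm := hcomm.mul_pow (2 ^ (k + l))
      rw [mul_inv_cancel_left, hk', hl', one_mul] at hm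
      have ho1 : s⁻¹ * (g * x * g⁻¹) = 1 := orderOf_eq_one_iff.1 (Nat.eq_one_of_dvd_coprimes
        ((Nat.coprime_two_left.2 hOodd).pow_left _) (orderOf_dvd_of_pow_eq_one hm.symm)
        (Subgroup.orderOf_dvd_natCard O ho))
      exact inv_mul_eq_one.1 ho1 ▸ hs
    have hP2 : Cfsg.pCore 2 G = N ⊓ (S : Subgroup G) :=
      le_antisymm (le_inf (fun x hx => Cores.map_pCore_le π hsurj (mem_map_of_mem π hx))
          (Cores.pCore_le_sylow S))
        (Cores.le_pCore (S.isPGroup'.to_le inf_le_right))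
    have hsup : Cfsg.pCore 2 G ⊔ O = N := by
      refine le_antisymm (sup_le (hP2 ▸ inf_le_left) fun x hx => ?_) fun x hx => ?_
      · show π x ∈ Zx
        rw [show π x = 1 from (QuotientGroup.eq_one_iff x).2 hx]
        exact one_mem _
      · obtain ⟨s, hs, ho⟩ := hdec x hx
        have := mul_mem (mem_sup_left (T := O) (hP2.symm ▸ hs : s ∈ Cfsg.pCore 2 G))
          (mem_sup_right (S := Cfsg.pCore 2 G) ho)
        rwa [mul_inv_cancel_left] at this
    -- the core of `G` is isomorphic to that of the quotient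
    let f : ↥(Cfsg.pCore 2 G) →* ↥Zx :=
      (π.comp (Cfsg.pCore 2 G).subtype).codRestrict Zx fun x =>
        Cores.map_pCore_le π hsurj (mem_map_of_mem π x.2)
    have hf : Function.Bijective f := by
      constructor
      · exact fun x y hxy => Subtype.ext (hinj S x y (Cores.pCore_le_sylow S x.2)
          (Cores.pCore_le_sylow S y.2) (congrArg Subtype.val hxy))
      · rintro ⟨y, hy⟩
        obtain ⟨x, rfl⟩ := hsurj y
        obtain ⟨s, hs, ho⟩ := hdec x hy
        exact ⟨⟨s, hP2.symm ▸ hs⟩, Subtype.ext (QuotientGroup.eq.2 ho)⟩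
    haveI := hG₁n
    haveI : ((Cfsg.pCore 2 G ⊔ O).subgroupOf (G₁.comap π)).Normal := by
      rw [hsup]; infer_instance
    refine ⟨G₁.comap π, inferInstance, inferInstance, ?_, ?_, ⟨n, ⟨(MulEquiv.ofBijective f hf).trans eZ⟩⟩,
      ?_⟩
    · rw [Subgroup.index_comap_of_surjective _ hsurj]; exact hodd
    · rw [hsup]; exact Subgroup.comap_mono hle
    · let g : ↥(G₁.comap π) →* ↥G₁ ⧸ Zx.subgroupOf G₁ :=
        (QuotientGroup.mk' _).comp (π.subgroupComap G₁)
      have hg : Function.Surjective g := by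
        intro y
        obtain ⟨⟨w, hw⟩, rfl⟩ := QuotientGroup.mk'_surjective _ y
        obtain ⟨x, rfl⟩ := hsurj w
        exact ⟨⟨x, hw⟩, rfl⟩
      have hker : (Cfsg.pCore 2 G ⊔ O).subgroupOf (G₁.comap π) = g.ker := by
        rw [hsup]
        ext x
        exact (QuotientGroup.eq_one_iff (N := Zx.subgroupOf G₁) (π.subgroupComap G₁ x)).symm
      exact Bender.congr ((QuotientGroup.quotientMulEquivOfEq hker).trans
        (QuotientGroup.quotientKerEquivOfSurjective g hg)) hB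
  · right
    haveI := hEn
    have hle : O ≤ E.comap π := fun x hx => by
      rw [Subgroup.mem_comap, show π x = 1 from (QuotientGroup.eq_one_iff x).2 hx]; exact one_mem E
    let φ : ↥(E.comap π) →* ↥E := π.subgroupComap E
    have hφs : Function.Surjective φ := fun y => by
      obtain ⟨x, hx⟩ := hsurj y
      exact ⟨⟨x, show π x ∈ E from hx.symm ▸ y.2⟩, Subtype.ext hx⟩
    have hφk : O.subgroupOf (E.comap π) = φ.ker := by
      ext x
      exact ⟨fun hx => Subtype.ext ((QuotientGroup.eq_one_iff (x : G)).2 hx),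
        fun hx => (QuotientGroup.eq_one_iff (x : G)).1 (congrArg Subtype.val hx)⟩
    refine ⟨E.comap π, inferInstance, inferInstance, ?_, hle, Zc, hZcn, hZc,
      ⟨((QuotientGroup.quotientMulEquivOfEq hφk).trans
        (QuotientGroup.quotientKerEquivOfSurjective φ hφs)).trans eE⟩⟩
    rw [Subgroup.index_comap_of_surjective _ hsurj]
    exact hidx

end Cfsg.Agent.Lib.Inter3310
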