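import Cfsg.Agent.Lib.Inter3310.Quat
import Cfsg.Agent.Lib.Inter3310.Outer
import Cfsg.Agent.Lib.Inter3308.Abelian
import Cfsg.Agent.Lib.Inter3308.Suzuki
import Cfsg.Agent.Lib.Inter3308.Unitary
import Cfsg.Agent.Lib.LAEven54.SylowJoin
import Cfsg.Agent.Lib.Walter.PairsX

/-!
# One component with involutions over every involution of its central quotient
-/

set_option autoImplicit false
set_option linter.style.haveILetI false
set_option linter.unusedSectionVars false

namespace Cfsg.Agent.Lib.Inter3310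

open Subgroup
open Cfsg.Agent.Lib.Components
open scoped Pointwise

universe u

variable {G : Type u} [Group G] [Finite G] {z : G} {K : Subgroup G}

/-- The data of the case of one component. -/
structure OneH (z : G) (K : Subgroup G) : Prop where
  comp : Cfsg.IsComponent K
  only : ∀ J : Subgroup G, Cfsg.IsComponent J → J = K
  target : BenderConsumers23.Target (↥K ⧸ center ↥K)
  lift : ∀ x : ↥K, x ∉ center ↥K → x * x ∈ center ↥K →
    ∃ y ∈ Cfsg.pCore 2 G, (x : G) * y * ((x : G) * y) = 1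

theorem OneH.of_inv (hcrit : Crit59.CritFaithful.{u}) (h : Cen G z) (hK : Cfsg.IsComponent K)
    (hu : ∀ J : Subgroup G, Cfsg.IsComponent J → J = K)
    (hinv : ∃ w : ↥K, w * w = 1 ∧ w ∉ center ↥K) : OneH z K := by
  refine ⟨hK, hu, (h.qs hK).target hcrit hinv, fun x hx hx2 => ?_⟩
  obtain ⟨c, hc, hc2⟩ := (h.qs hK).exists_lift hcrit hinv hx hx2
  exact ⟨(c : G), h.center_coe hK hc, congrArg Subtype.val hc2⟩

theorem OneH.of_four (h : Cen G z) (hn : NI z K)
    (hu : ∀ J : Subgroup G, Cfsg.IsComponent J → J = K) {q : G} (hqZ : q ∈ Cfsg.pCore 2 G)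
    (hq : q * q = z) : OneH z K := by
  have hqK : ∀ k ∈ K, k * q = q * k := fun k hk => h.comp_comm hn.comp hqZ hk
  refine ⟨hn.comp, hu, hn.target h hq hqK, fun x hx hx2 => ⟨q, hqZ, ?_⟩⟩
  calc (x : G) * q * ((x : G) * q) = (x : G) * (q * (x : G)) * q := by group
    _ = (x : G) * (x : G) * (q * q) := by rw [← hqK x x.2]; group
    _ = 1 := by rw [hn.sq_eq h hx hx2, hq, h.sq]

theorem OneH.normal (hO : OneH z K) : K.Normal := by
  refine ⟨fun x hx g => ?_⟩
  have := hO.only _ (Component.conj hO.comp g)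
  exact this.le ⟨x, hx, rfl⟩

/-- An involution over an involution of the quotient. -/
theorem OneH.lift_invol (h : Cen G z) (hO : OneH z K) {x : ↥K} (hx : x ∉ center ↥K)
    (hx2 : x * x ∈ center ↥K) : ∃ y ∈ Cfsg.pCore 2 G, (x : G) * y * ((x : G) * y) = 1 ∧
      (x : G) * y ≠ 1 ∧ (x : G) * y ≠ z := by
  obtain ⟨y, hy, hy2⟩ := hO.lift x hx hx2
  have hcase : ∀ c ∈ center G, (x : G) * y = c → False := fun c hc e => hx (mem_center_iff.2 fun k =>
    Subtype.ext (by
      show (k : G) * x = x * k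
      have e1 : Commute (k : G) c := mem_center_iff.1 hc k
      have e2 : Commute (k : G) y := h.comp_comm hO.comp hy k.2
      rw [show (x : G) = c * y⁻¹ by rw [← e, mul_inv_cancel_right]]
      exact (e1.mul_right e2.inv_right).eq))
  exact ⟨y, hy, hy2, hcase 1 (one_mem _), hcase z h.central⟩

/-- Every Sylow subgroup contains an element of `K` of order two modulo the centre. -/
theorem OneH.exists_in_sylow (h : Cen G z) (hO : OneH z K) (S : Sylow 2 G) :
    ∃ x : ↥K, (x : G) ∈ (S : Subgroup G) ∧ x ∉ center ↥K ∧ x * x ∈ center ↥K := by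
  haveI : Fact (Nat.Prime 2) := ⟨Nat.prime_two⟩
  have hQS := h.qs hO.comp
  haveI := hQS.simple
  obtain ⟨P, hP⟩ := Walter.Pairs.exists_sylow_subnormal S hO.comp.1
  set π := QuotientGroup.mk' (center ↥K)
  set T := P.mapSurjective (QuotientGroup.mk'_surjective (center ↥K))
  haveI : Nontrivial ↥(T : Subgroup (↥K ⧸ center ↥K)) :=
    (Subgroup.nontrivial_iff_ne_bot _).2 (Inter3308.sylow_ne_bot hQS.not_comm T)
  obtain ⟨⟨u, x, hx, hxu⟩, ho⟩ := exists_prime_orderOf_dvd_card' (G := ↥(T : Subgroup (↥K ⧸ center ↥K))) 2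
    ((T.isPGroup'.card_eq_or_dvd).resolve_left Finite.one_lt_card.ne')
  rw [← Subgroup.orderOf_coe] at ho
  change orderOf u = 2 at ho
  subst hxu
  refine ⟨x, SetLike.le_def.1 hP.le hx, fun hc => ?_, pi_eq_one.1 ?_⟩
  · rw [pi_eq_one.2 hc, orderOf_one] at ho; exact absurd ho (by norm_num)
  · rw [map_mul, ← pow_two, ← ho, pow_orderOf_eq_one]

/-- The centraliser of `K` normalises every Sylow subgroup. -/
theorem OneH.centralizer_le (h : Cen G z) (hO : OneH z K) (S : Sylow 2 G) :
    centralizer (K : Set G) ≤ normalizer ((S : Subgroup G) : Set G) := by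
  haveI : Fact (Nat.Prime 2) := ⟨Nat.prime_two⟩
  obtain ⟨x, hxS, hxc, hx2⟩ := hO.exists_in_sylow h S
  obtain ⟨y, hy, hw2, hw1, hwz⟩ := hO.lift_invol h hxc hx2
  intro c hc
  refine h.uni.normalizes h.central (mul_mem hxS (Cores.pCore_le_sylow S hy)) hw2 hw1 hwz ?_
  rw [show c * ((x : G) * y) * c⁻¹ = (c * x * c⁻¹) * (c * y * c⁻¹) by group,
    show c * (x : G) * c⁻¹ = x by rw [← mem_centralizer_iff.1 hc x x.2, mul_inv_cancel_right]]
  exact mul_mem hxS (Cores.pCore_le_sylow S ((inferInstance : (Cfsg.pCore 2 G).Normal).conj_mem y hy c))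

theorem OneH.core_le_centralizer (h : Cen G z) (hO : OneH z K) :
    Cfsg.pCore 2 G ≤ centralizer (K : Set G) :=
  fun _ hy => mem_centralizer_iff.2 fun _ hk => h.comp_comm hO.comp hy hk

/-- The part of the centraliser of `K` in a Sylow subgroup is the core. -/
theorem OneH.inf_centralizer_le (h : Cen G z) (hO : OneH z K) (S : Sylow 2 G) :
    centralizer (K : Set G) ⊓ (S : Subgroup G) ≤ Cfsg.pCore 2 G := by
  haveI : Fact (Nat.Prime 2) := ⟨Nat.prime_two⟩
  haveI := hO.normal
  set C := centralizer (K : Set G)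
  have hn : ∀ T : Sylow 2 G, C ⊓ (S : Subgroup G) ≤ (T : Subgroup G) := by
    intro T x hx
    obtain ⟨k, hk⟩ := S.isPGroup' ⟨x, hx.2⟩
    have hk' : x ^ 2 ^ k = 1 := congrArg Subtype.val hk
    have hsup : IsPGroup 2 ↥((T : Subgroup G) ⊔ zpowers x) :=
      IsPGroup.to_sup_of_normal_left' T.2 (SylowInter.CyclicTwoTools.isPGroup_zpowers hk')
        (zpowers_le.2 (hO.centralizer_le h T hx.1))
    rw [← T.3 hsup le_sup_left]
    exact mem_sup_right (mem_zpowers x)
  haveI : (C ⊓ (S : Subgroup G)).Normal := ⟨fun x hx g =>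
    ⟨(inferInstance : C.Normal).conj_mem x hx.1 g, by
      have h1 : x ∈ ((g⁻¹ • S : Sylow 2 G) : Subgroup G) := hn _ hx
      have h2 := mem_smul_iff.1 h1
      rwa [inv_inv] at h2⟩⟩
  exact Cores.le_pCore (S.isPGroup'.to_le inf_le_right)

/-- A two-element `w` with image in the image of a Sylow subgroup lies in it. -/
theorem OneH.mem_of_mod (h : Cen G z) (hO : OneH z K) (S : Sylow 2 G) {s w : G}
    (hs : s ∈ (S : Subgroup G)) (hsw : s⁻¹ * w ∈ centralizer (K : Set G)) (hw : w * w = 1) :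
    w ∈ (S : Subgroup G) := by
  haveI : Fact (Nat.Prime 2) := ⟨Nat.prime_two⟩
  have hwN : w ∈ normalizer ((S : Subgroup G) : Set G) := by
    have := mul_mem (le_normalizer hs) (hO.centralizer_le h S hsw)
    rwa [mul_inv_cancel_left] at this
  have hsup : IsPGroup 2 ↥((S : Subgroup G) ⊔ zpowers w) :=
    IsPGroup.to_sup_of_normal_left' S.2 (SylowInter.CyclicTwoTools.isPGroup_zpowers (k := 1)
      (by rw [pow_one, pow_two, hw])) (zpowers_le.2 hwN)
  rw [← S.3 hsup le_sup_left]
  exact mem_sup_right (mem_zpowers w)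

theorem model_of_target {X : Type u} [Group X] [Finite X] (h : BenderConsumers23.Target X) :
    Inter3308.Model X := by
  rcases h with ⟨F, _, _, n, hn, hF, ⟨e⟩⟩ | ⟨F, _, _, m, hm, hF, ⟨e⟩⟩ | ⟨F, _, _, n, hn, hF, ⟨e⟩⟩
  · exact Inter3308.model_even hn hF e
  · exact Inter3308.model_suzuki hm hF e
  · exact Inter3308.model_unitary hn
      (by rw [hF, show (4 : ℕ) = 2 ^ 2 by norm_num, ← pow_mul, ← pow_mul, mul_comm]) e

set_option maxHeartbeats 1000000 in
/-- The product of `K` and its centraliser has odd index. -/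
theorem OneH.odd_index (h : Cen G z) (hO : OneH z K) :
    Odd (K ⊔ centralizer (K : Set G)).index := by
  haveI : Fact (Nat.Prime 2) := ⟨Nat.prime_two⟩
  haveI := hO.normal
  set C := centralizer (K : Set G) with hC
  have hQS := h.qs hO.comp
  haveI := hQS.simple
  set φ := QuotientGroup.mk' C with hφ
  have hφ1 : ∀ {g : G}, φ g = 1 ↔ g ∈ C := fun {g} => QuotientGroup.eq_one_iff g
  set M := K.map φ with hM
  haveI : M.Normal := Subgroup.Normal.map inferInstance φ (QuotientGroup.mk'_surjective C)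
  set ψ : ↥K →* ↥M := φ.subgroupMap K with hψ
  have hψs : Function.Surjective ψ := MonoidHom.subgroupMap_surjective _ _
  have hψk : ψ.ker = center ↥K := by
    ext x
    rw [MonoidHom.mem_ker, mem_center_iff]
    constructor
    · intro e k
      exact Subtype.ext (mem_centralizer_iff.1 (hφ1.1 (congrArg Subtype.val e)) k k.2)
    · intro hx
      exact Subtype.ext (hφ1.2 (mem_centralizer_iff.2 fun k hk => congrArg Subtype.val (hx ⟨k, hk⟩)))
  let e : ↥K ⧸ center ↥K ≃* ↥M :=
    (QuotientGroup.quotientMulEquivOfEq hψk.symm).trans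
      (QuotientGroup.quotientKerEquivOfSurjective ψ hψs)
  haveI : IsSimpleGroup ↥M := e.symm.isSimpleGroup_congr.2 hQS.simple
  have hna : ¬ IsMulCommutative ↥M := fun hc => hQS.not_comm
    ⟨⟨fun a b => e.injective (by rw [map_mul, map_mul, hc.is_comm.comm])⟩⟩
  have hcent : centralizer (M : Set (G ⧸ C)) = ⊥ := by
    rw [Subgroup.eq_bot_iff_forall]
    intro q hq
    obtain ⟨g, rfl⟩ := QuotientGroup.mk'_surjective C q
    refine hφ1.2 ?_
    have hεc : ∀ x : ↥K, g * x * g⁻¹ * (x : G)⁻¹ ∈ C := fun x => hφ1.1 (by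
      have h1 := mem_centralizer_iff.1 hq (φ x) (mem_map_of_mem φ x.2)
      rw [map_mul, map_mul, map_mul, map_inv, map_inv]
      rw [show φ g * φ (x : G) = φ (x : G) * φ g from h1.symm, mul_inv_cancel_right, mul_inv_cancel])
    have hεK : ∀ x : ↥K, g * x * g⁻¹ * (x : G)⁻¹ ∈ K := fun x =>
      mul_mem ((inferInstance : K.Normal).conj_mem x x.2 g) (inv_mem x.2)
    let χ : ↥K →* ↥(center ↥K) :=
      { toFun := fun x => ⟨⟨_, hεK x⟩, mem_center_iff.2 fun k =>
          Subtype.ext (mem_centralizer_iff.1 (hεc x) k k.2)⟩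
        map_one' := Subtype.ext (Subtype.ext (by simp))
        map_mul' := fun a b => Subtype.ext (Subtype.ext (by
          show g * ((a : G) * b) * g⁻¹ * ((a : G) * b)⁻¹ =
            (g * a * g⁻¹ * (a : G)⁻¹) * (g * b * g⁻¹ * (b : G)⁻¹)
          have e1 := mem_centralizer_iff.1 (hεc b) (a : G) a.2
          calc g * ((a : G) * b) * g⁻¹ * ((a : G) * b)⁻¹
              = g * a * g⁻¹ * (g * b * g⁻¹ * (b : G)⁻¹) * (a : G)⁻¹ := by group
            _ = g * a * g⁻¹ * ((a : G)⁻¹ * (g * b * g⁻¹ * (b : G)⁻¹)) := by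
                rw [mul_assoc (g * a * g⁻¹), ← mem_centralizer_iff.1 (hεc b) (a : G)⁻¹ (inv_mem a.2)]
            _ = _ := by group)) }
    refine mem_centralizer_iff.2 fun k hk => ?_
    have hker : χ.ker = ⊤ := by
      rw [eq_top_iff, ← hQS.perfect, commutator_eq_closure, closure_le]
      rintro _ ⟨a, b, rfl⟩
      rw [SetLike.mem_coe, MonoidHom.mem_ker, map_commutatorElement,
        commutatorElement_eq_one_iff_mul_comm]
      exact Subtype.ext (mem_center_iff.1 (χ b).2 (χ a : ↥K))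
    have h1 : χ ⟨k, hk⟩ = 1 := MonoidHom.mem_ker.1 (hker ▸ mem_top _)
    have h2 : g * k * g⁻¹ * k⁻¹ = 1 := congrArg (fun y : ↥(center ↥K) => ((y : ↥K) : G)) h1
    exact (mul_inv_eq_iff_eq_mul.1 (mul_inv_eq_one.1 h2)).symm
  have hdet : ∀ SM : Sylow 2 ↥M,
      Det (((center ↥(SM : Subgroup ↥M)).map (SM : Subgroup ↥M).subtype).map M.subtype) := by
    intro SM P Q hUP hUQ
    haveI : Nontrivial ↥(SM : Subgroup ↥M) :=
      (Subgroup.nontrivial_iff_ne_bot _).2 (Inter3308.sylow_ne_bot hna SM)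
    haveI := SM.isPGroup'.center_nontrivial
    obtain ⟨u, hu⟩ := exists_prime_orderOf_dvd_card' (G := ↥(center ↥(SM : Subgroup ↥M))) 2
      (((SM.isPGroup'.to_subgroup (center ↥(SM : Subgroup ↥M))).card_eq_or_dvd).resolve_left
        Finite.one_lt_card.ne')
    rw [← Subgroup.orderOf_coe, ← Subgroup.orderOf_coe] at hu
    set u' : ↥M := ((u : ↥(SM : Subgroup ↥M)) : ↥M)
    have humem : (u' : G ⧸ C) ∈ ((center ↥(SM : Subgroup ↥M)).map (SM : Subgroup ↥M).subtype).map
        M.subtype := ⟨u', ⟨_, u.2, rfl⟩, rfl⟩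
    obtain ⟨x, hx⟩ := hψs u'
    have hxc : x ∉ center ↥K := fun hc => by
      rw [← hψk] at hc
      rw [← hx, MonoidHom.mem_ker.1 hc, orderOf_one] at hu
      exact absurd hu (by norm_num)
    have hx2 : x * x ∈ center ↥K := by
      rw [← hψk, MonoidHom.mem_ker, map_mul, hx, ← pow_two, ← hu, pow_orderOf_eq_one]
    obtain ⟨y, hy, hw2, hw1, hwz⟩ := hO.lift_invol h hxc hx2
    have hφw : φ ((x : G) * y) = (u' : G ⧸ C) := by
      rw [map_mul, hφ1.2 (hO.core_le_centralizer h hy), mul_one, ← hx]; rfl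
    have key : ∀ R : Sylow 2 (G ⧸ C), (u' : G ⧸ C) ∈ (R : Subgroup (G ⧸ C)) →
        ∀ S : Sylow 2 G, S.mapSurjective (QuotientGroup.mk'_surjective C) = R →
          (x : G) * y ∈ (S : Subgroup G) := by
      intro R hR S hS
      rw [← hS] at hR
      obtain ⟨s, hs, hsu⟩ := hR
      refine hO.mem_of_mod h S hs ?_ hw2
      exact QuotientGroup.eq.1 (hsu.trans hφw.symm)
    obtain ⟨S, hS⟩ := Sylow.mapSurjective_surjective (QuotientGroup.mk'_surjective C) 2 P
    obtain ⟨S', hS'⟩ := Sylow.mapSurjective_surjective (QuotientGroup.mk'_surjective C) 2 Q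
    rw [← hS, ← hS', h.uni S S' _ (key P (hUP humem) S hS) (key Q (hUQ humem) S' hS') hw2 hw1 hwz]
  have hodd := Inter3310.odd_index M hna hcent
    (model_of_target (hO.target.congr e.symm)) hdet
  rwa [hM, Subgroup.index_map, QuotientGroup.ker_mk',
    MonoidHom.range_eq_top.2 (QuotientGroup.mk'_surjective C), Subgroup.index_top, mul_one] at hodd

/-- The Sylow subgroups lie in `K O₂(G)`. -/
theorem OneH.sylow_le (h : Cen G z) (hO : OneH z K) (S : Sylow 2 G) :
    (S : Subgroup G) ≤ K ⊔ Cfsg.pCore 2 G := by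
  haveI : Fact (Nat.Prime 2) := ⟨Nat.prime_two⟩
  haveI := hO.normal
  have hle : (S : Subgroup G) ≤ K ⊔ centralizer (K : Set G) := by
    intro s hs
    have hn : (K ⊔ centralizer (K : Set G)).Normal := inferInstance
    have h2 : ¬ 2 ∣ (K ⊔ centralizer (K : Set G)).index :=
      Nat.two_dvd_ne_zero.2 (Nat.odd_iff.1 (hO.odd_index h))
    obtain ⟨k, hk⟩ := S.isPGroup' ⟨s, hs⟩
    have hk' : (QuotientGroup.mk' (K ⊔ centralizer (K : Set G)) s) ^ 2 ^ k = 1 := by
      rw [← map_pow, show s ^ 2 ^ k = 1 from congrArg Subtype.val hk, map_one]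
    refine (QuotientGroup.eq_one_iff s).1 (orderOf_eq_one_iff.1 ?_)
    refine Nat.eq_one_of_dvd_coprimes ((Nat.prime_two.coprime_iff_not_dvd.2 h2).pow_left k)
      (orderOf_dvd_of_pow_eq_one hk') ?_
    rw [Subgroup.index_eq_card]
    exact orderOf_dvd_natCard _
  calc (S : Subgroup G) = (K ⊔ centralizer (K : Set G)) ⊓ (S : Subgroup G) := (inf_eq_right.2 hle).symm
    _ = (K ⊓ (S : Subgroup G)) ⊔ (centralizer (K : Set G) ⊓ (S : Subgroup G)) :=
        LAEven54.SylowJoin.inf_sup_eq S hO.normal.isSubnormal (Normal.isSubnormal inferInstance)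
    _ ≤ K ⊔ Cfsg.pCore 2 G := sup_le_sup inf_le_left (hO.inf_centralizer_le h S)

/-- Distinct Sylow subgroups meet in the core. -/
theorem OneH.inter (h : Cen G z) (hO : OneH z K) {S T : Sylow 2 G} (hne : S ≠ T) :
    (S : Subgroup G) ⊓ (T : Subgroup G) ≤ Cfsg.pCore 2 G := by
  haveI : Fact (Nat.Prime 2) := ⟨Nat.prime_two⟩
  haveI := hO.normal
  set Z := Cfsg.pCore 2 G with hZ
  intro x hx
  by_contra hxZ
  obtain ⟨k, hk⟩ := S.isPGroup' ⟨x, hx.1⟩
  have hk' : x ^ 2 ^ k = 1 := congrArg Subtype.val hk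
  classical
  have hex : ∃ j, x ^ 2 ^ j ∈ Z := ⟨k, by rw [hk']; exact one_mem _⟩
  obtain ⟨j, hj⟩ : ∃ j, Nat.find hex = j + 1 := by
    rcases hf : Nat.find hex with _ | j
    · have := Nat.find_spec hex
      rw [hf, pow_zero, pow_one] at this
      exact absurd this hxZ
    · exact ⟨j, rfl⟩
  set v := x ^ 2 ^ j with hv
  have hvZ : v ∉ Z := Nat.find_min hex (by omega)
  have hv2 : v * v ∈ Z := by
    have := Nat.find_spec hex
    rwa [hj, pow_succ, pow_mul, pow_two] at this
  have hvS : v ∈ (S : Subgroup G) := pow_mem hx.1 _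
  have hvT : v ∈ (T : Subgroup G) := pow_mem hx.2 _
  have hmem : v ∈ ((K : Set G) * (Z : Set G)) := by
    rw [← Subgroup.mul_normal]
    exact hO.sylow_le h S hvS
  obtain ⟨a, ha, y, hy, hay⟩ := hmem
  change a * y = v at hay
  have hcom : a * y = y * a := h.comp_comm hO.comp hy ha
  have haS : a ∈ (S : Subgroup G) := by
    rw [show a = v * y⁻¹ by rw [← hay, mul_inv_cancel_right]]
    exact mul_mem hvS (inv_mem (Cores.pCore_le_sylow S hy))
  have haT : a ∈ (T : Subgroup G) := by
    rw [show a = v * y⁻¹ by rw [← hay, mul_inv_cancel_right]]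
    exact mul_mem hvT (inv_mem (Cores.pCore_le_sylow T hy))
  have hac : (⟨a, ha⟩ : ↥K) ∉ center ↥K := fun hc => hvZ (by
    rw [← hay]; exact mul_mem (h.center_coe hO.comp hc) hy)
  have ha2 : (⟨a, ha⟩ : ↥K) * ⟨a, ha⟩ ∈ center ↥K := mem_center_iff.2 fun l => Subtype.ext (by
    show (l : G) * (a * a) = a * a * l
    refine h.comp_comm hO.comp ?_ l.2
    rw [show a * a = v * v * (y * y)⁻¹ by
      rw [← hay]
      calc a * a = a * a * (y * y) * (y * y)⁻¹ := by group
        _ = a * (a * y) * y * (y * y)⁻¹ := by group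
        _ = a * (y * a) * y * (y * y)⁻¹ := by rw [hcom]
        _ = a * y * (a * y) * (y * y)⁻¹ := by group]
    exact mul_mem hv2 (inv_mem (mul_mem hy hy)))
  obtain ⟨y', hy', hw2, hw1, hwz⟩ := hO.lift_invol h hac ha2
  exact hne (h.uni S T _ (mul_mem haS (Cores.pCore_le_sylow S hy'))
    (mul_mem haT (Cores.pCore_le_sylow T hy')) hw2 hw1 hwz)

theorem OneH.odd_index' (h : Cen G z) (hO : OneH z K) : Odd (K ⊔ Cfsg.pCore 2 G).index := by
  haveI : Fact (Nat.Prime 2) := ⟨Nat.prime_two⟩
  obtain ⟨S⟩ := (inferInstance : Nonempty (Sylow 2 G))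
  exact Nat.odd_iff.2 (Nat.two_dvd_ne_zero.1 fun hd =>
    S.not_dvd_index (hd.trans (Subgroup.index_dvd_of_le (hO.sylow_le h S))))

/-- Some Sylow subgroup contains an elementary group of order eight, if the core is quaternion. -/
theorem OneH.elementary (hcrit : Crit59.CritFaithful.{u}) (h : Cen G z) (hO : OneH z K) {n : ℕ}
    (hn : 1 ≤ n) (eZ : ↥(Cfsg.pCore 2 G) ≃* QuaternionGroup (2 ^ n)) :
    ∃ (S : Sylow 2 G) (a b : G), a ∈ (S : Subgroup G) ∧ b ∈ (S : Subgroup G) ∧ a * a = 1 ∧
      b * b = 1 ∧ a * b = b * a ∧ a ≠ 1 ∧ b ≠ 1 ∧ a ≠ b ∧ a ≠ z ∧ b ≠ z ∧ b ≠ z * a := by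
  classical
  haveI : Fact (Nat.Prime 2) := ⟨Nat.prime_two⟩
  haveI : NeZero (2 ^ n : ℕ) := ⟨pow_ne_zero n two_ne_zero⟩
  have hQS := h.qs hO.comp
  haveI := hQS.simple
  set Z := Cfsg.pCore 2 G
  -- the centre of `K`
  have hcen : ∀ c : ↥K, c ∈ center ↥K → (c : G) = 1 ∨ (c : G) = z := by
    intro c hc
    have hcZ := h.center_coe hO.comp hc
    refine h.uniq _ hcZ ?_
    have h1 := SylowInter.CyclicTwoTools.quaternion_central_sq hn (eZ ⟨c, hcZ⟩) fun r => by
      obtain ⟨y, rfl⟩ := eZ.surjective r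
      rw [← map_mul, ← map_mul]
      exact congrArg eZ (Subtype.ext (h.comp_comm hO.comp y.2 c.2))
    rw [← map_mul, MulEquiv.map_eq_one_iff] at h1
    exact congrArg Subtype.val h1
  -- two commuting involutions of the quotient
  obtain ⟨P⟩ := (inferInstance : Nonempty (Sylow 2 ↥K))
  set π := QuotientGroup.mk' (center ↥K)
  set T := P.mapSurjective (QuotientGroup.mk'_surjective (center ↥K)) with hT
  obtain ⟨hcard, hshape⟩ := Inter3185.kShape_of_target hO.target T
  have hinv : ∀ t : ↥(T : Subgroup (↥K ⧸ center ↥K)), t ∈ center _ → t * t = 1 := by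
    intro t ht
    rcases hshape with h0 | ⟨h0, -⟩ | ⟨h0, -⟩
    · exact h0 t
    · exact (h0.inv t).2 ht
    · exact (h0.inv t).2 ht
  obtain ⟨u, v, hu, hv, hu1, hv1, huv⟩ : ∃ u v : ↥(T : Subgroup (↥K ⧸ center ↥K)),
      u ∈ center _ ∧ v ∈ center _ ∧ u ≠ 1 ∧ v ≠ 1 ∧ u ≠ v := by
    set W := center ↥(T : Subgroup (↥K ⧸ center ↥K))
    haveI := Fintype.ofFinite ↥W
    have h2 : 1 < Fintype.card ↥W := by rw [← Nat.card_eq_fintype_card]; omega
    obtain ⟨u, hu⟩ := Fintype.exists_ne_of_one_lt_card h2 1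
    have h3 : ∃ v : ↥W, v ≠ 1 ∧ u ≠ v := by
      by_contra hcon
      push Not at hcon
      have : Finset.univ ⊆ ({1, u} : Finset ↥W) := fun v _ => by
        by_cases hv : v = 1
        · simp [hv]
        · simp [hcon v hv]
      have := Finset.card_le_card this
      rw [Finset.card_univ, ← Nat.card_eq_fintype_card] at this
      have h4 := (Finset.card_insert_le (1 : ↥W) {u}).trans (by rw [Finset.card_singleton])
      omega
    obtain ⟨v, hv1, huv⟩ := h3
    exact ⟨u, v, u.2, v.2, fun e => hu (Subtype.ext e), fun e => hv1 (Subtype.ext e),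
      fun e => huv (Subtype.ext e)⟩
  obtain ⟨_, x, hxP, rfl⟩ := u
  obtain ⟨_, x', hxP', rfl⟩ := v
  have hx : π x * π x = 1 := congrArg Subtype.val (hinv _ hu)
  have hx' : π x' * π x' = 1 := congrArg Subtype.val (hinv _ hv)
  have hxc : x ∉ center ↥K := fun e => hu1 (Subtype.ext (pi_eq_one.2 e))
  have hxc' : x' ∉ center ↥K := fun e => hv1 (Subtype.ext (pi_eq_one.2 e))
  have hne : π x ≠ π x' := fun e => huv (Subtype.ext e)
  have hcom : π x * π x' = π x' * π x :=
    congrArg Subtype.val (mem_center_iff.1 hv ⟨π x, mem_map_of_mem π hxP⟩)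
  have hprodc : x * x' ∉ center ↥K := fun e => hne (by
    have h1 : π x * π x' = 1 := by rw [← map_mul]; exact pi_eq_one.2 e
    exact (mul_left_cancel (h1.trans hx.symm)).symm)
  have hsq : ∀ r : ↥K, π r * π r = 1 → r * r ∈ center ↥K := fun r hr =>
    pi_eq_one.1 (by rw [map_mul]; exact hr)
  have hxx' : π (x * x') * π (x * x') = 1 := by
    rw [map_mul]
    calc π x * π x' * (π x * π x') = π x * (π x' * π x) * π x' := by group
      _ = π x * π x * (π x' * π x') := by rw [← hcom]; group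
      _ = 1 := by rw [hx, hx', one_mul]
  -- correcting elements
  obtain ⟨y, y', hy, hy', hy2, hy'2, hcomm⟩ : ∃ y y' : G, y ∈ Z ∧ y' ∈ Z ∧
      (x : G) * y * ((x : G) * y) = 1 ∧ (x' : G) * y' * ((x' : G) * y') = 1 ∧
      (x : G) * y * ((x' : G) * y') = (x' : G) * y' * ((x : G) * y) := by
    by_cases hinvK : ∃ w : ↥K, w * w = 1 ∧ w ∉ center ↥K
    · have hone : ∀ r : ↥K, r ∉ center ↥K → π r * π r = 1 → r * r = 1 := by
        intro r hr hr2
        obtain ⟨c, hc, hc2⟩ := hQS.exists_lift hcrit hinvK hr (hsq r hr2)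
        have hcc : c * c = 1 := Subtype.ext (by
          show (c : G) * c = 1
          rcases hcen c hc with e | e
          · rw [e, one_mul]
          · rw [e, h.sq])
        calc r * r = r * r * (c * c) := by rw [hcc, mul_one]
          _ = r * (r * c) * c := by group
          _ = r * (c * r) * c := by rw [mem_center_iff.1 hc r]
          _ = 1 := by rw [← hc2]; group
      refine ⟨1, 1, one_mem _, one_mem _, ?_, ?_, ?_⟩
      · rw [mul_one]; exact congrArg Subtype.val (hone x hxc hx)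
      · rw [mul_one]; exact congrArg Subtype.val (hone x' hxc' hx')
      · rw [mul_one, mul_one]
        have h1 := hone _ hprodc hxx'
        have h2 : (x : ↥K)⁻¹ = x := inv_eq_of_mul_eq_one_right (hone x hxc hx)
        have h3 : (x' : ↥K)⁻¹ = x' := inv_eq_of_mul_eq_one_right (hone x' hxc' hx')
        have h4 : x * x' = x' * x := by
          have h5 := inv_eq_of_mul_eq_one_right h1
          rw [mul_inv_rev, h2, h3] at h5
          exact h5.symm
        exact congrArg Subtype.val h4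
    · have hni : NI z K := ⟨hO.comp, fun w hw hw2 => by
        by_contra hcon
        push Not at hcon
        refine hinvK ⟨⟨w, hw⟩, Subtype.ext hw2, fun hc => ?_⟩
        rcases hcen _ hc with e | e
        exacts [hcon.1 e, hcon.2 e]⟩
      -- two anticommuting elements of order four in the core
      obtain ⟨q, q', hq, hq', hq2, hq'2, hqq⟩ : ∃ q q' : G, q ∈ Z ∧ q' ∈ Z ∧ q * q = z ∧
          q' * q' = z ∧ q * q' = q' * q * z := by
        obtain ⟨m, rfl⟩ : ∃ m, n = m + 1 := ⟨n - 1, by omega⟩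
        have hz' : ((eZ.symm (QuaternionGroup.a ((2 ^ (m + 1) : ℕ) : ZMod (2 * 2 ^ (m + 1)))) :
            ↥Z) : G) = z := by
          refine (h.uniq _ (Subtype.property _) ?_).resolve_left fun e1 => ?_
          · rw [← Subgroup.coe_mul, ← map_mul, QuaternionGroup.a_mul_a, ← Nat.cast_add,
              ← two_mul, ZMod.natCast_self]
            show ((eZ.symm 1 : ↥Z) : G) = 1
            rw [map_one]; rfl
          · have h1 : eZ.symm (QuaternionGroup.a ((2 ^ (m + 1) : ℕ) : ZMod (2 * 2 ^ (m + 1)))) =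
                eZ.symm 1 := by rw [map_one]; exact Subtype.ext e1
            have h2 := eZ.symm.injective h1
            rw [QuaternionGroup.one_def, QuaternionGroup.a.injEq, ZMod.natCast_eq_zero_iff] at h2
            have := Nat.le_of_dvd (pow_pos two_pos _) h2
            have := pow_pos (two_pos (α := ℕ)) (m + 1)
            omega
        refine ⟨(eZ.symm (QuaternionGroup.xa 0) : ↥Z),
          (eZ.symm (QuaternionGroup.a ((2 ^ m : ℕ) : ZMod (2 * 2 ^ (m + 1)))) : ↥Z),
          Subtype.property _, Subtype.property _, ?_, ?_, ?_⟩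
        · rw [← hz', ← Subgroup.coe_mul, ← map_mul, QuaternionGroup.xa_mul_xa]
          simp
        · rw [← hz', ← Subgroup.coe_mul, ← map_mul, QuaternionGroup.a_mul_a, ← Nat.cast_add,
            show (2 : ℕ) ^ m + 2 ^ m = 2 ^ (m + 1) by rw [pow_succ]; ring]
        · rw [← hz', ← Subgroup.coe_mul, ← Subgroup.coe_mul, ← Subgroup.coe_mul, ← map_mul,
            ← map_mul, ← map_mul, QuaternionGroup.xa_mul_a, QuaternionGroup.a_mul_xa,
            QuaternionGroup.xa_mul_a, zero_add]
          congr 3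
          rw [pow_succ', Nat.cast_mul]
          push_cast
          ring
      have hqK : ∀ (r : G), r ∈ Z → ∀ k : ↥K, (k : G) * r = r * k := fun r hr k =>
        h.comp_comm hO.comp hr k.2
      have hmake : ∀ (r : ↥K) (p : G), p ∈ Z → r ∉ center ↥K → π r * π r = 1 → p * p = z →
          (r : G) * p * ((r : G) * p) = 1 := fun r p hp hr hr2 hp2 => by
        calc (r : G) * p * ((r : G) * p) = (r : G) * (p * r) * p := by group
          _ = (r : G) * r * (p * p) := by rw [← hqK p hp r]; group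
          _ = 1 := by rw [hni.sq_eq h hr (hsq r hr2), hp2, h.sq]
      refine ⟨q, q', hq, hq', hmake x q hq hxc hx hq2, hmake x' q' hq' hxc' hx' hq'2, ?_⟩
      have hanti : (x : G) * x' = (x' : G) * x * z := by
        have h1 : (x : G) * x' * ((x : G) * x') = z := hni.sq_eq h hprodc (hsq _ hxx')
        have h2 : (x : G) * x = z := hni.sq_eq h hxc (hsq x hx)
        have h3 : (x' : G) * x' = z := hni.sq_eq h hxc' (hsq x' hx')
        have hzc := mem_center_iff.1 h.central
        have h4 : (x' : G) * x * z = (x : G) * x' := by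
          calc (x' : G) * x * z = (x' : G) * x * ((x : G) * x' * ((x : G) * x')) := by rw [h1]
            _ = (x' : G) * ((x : G) * x) * x' * x * x' := by group
            _ = (x' : G) * (z * x') * x * x' := by rw [h2]; group
            _ = (x' : G) * (x' * z) * x * x' := by rw [hzc]
            _ = z * z * ((x : G) * x') := by rw [← h3]; group
            _ = (x : G) * x' := by rw [h.sq, one_mul]
        exact h4.symm
      calc (x : G) * q * ((x' : G) * q') = (x : G) * (q * x') * q' := by group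
        _ = (x : G) * x' * (q * q') := by rw [← hqK q hq x']; group
        _ = (x' : G) * x * z * (q' * q * z) := by rw [hanti, hqq]
        _ = (x' : G) * x * (z * (q' * q)) * z := by group
        _ = (x' : G) * x * (q' * q * z) * z := by rw [← mem_center_iff.1 h.central (q' * q)]
        _ = (x' : G) * ((x : G) * q') * q * (z * z) := by group
        _ = (x' : G) * (q' * x) * q := by rw [hqK q' hq' x, h.sq, mul_one]
        _ = (x' : G) * q' * ((x : G) * q) := by group
  obtain ⟨S, hS⟩ := (P.isPGroup'.map K.subtype).exists_le_sylow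
  have hout : ∀ (r : ↥K) (p c : G), p ∈ Z → c ∈ center G → r ∉ center ↥K → (r : G) * p ≠ c := by
    intro r p c hp hc hr e
    refine hr (mem_center_iff.2 fun k => Subtype.ext ?_)
    show (k : G) * r = r * k
    have e1 : Commute (k : G) c := mem_center_iff.1 hc k
    have e2 : Commute (k : G) p := h.comp_comm hO.comp hp k.2
    rw [show (r : G) = c * p⁻¹ by rw [← e, mul_inv_cancel_right]]
    exact (e1.mul_right e2.inv_right).eq
  have hdiff : ∀ c ∈ center G, (x' : G) * y' ≠ c * ((x : G) * y) := by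
    intro c hc e
    refine hne (pi_eq.2 (mem_center_iff.2 fun k => Subtype.ext ?_))
    show (k : G) * ((x : G)⁻¹ * x') = (x : G)⁻¹ * x' * k
    have e0 : (x : G)⁻¹ * x' = c * (y * y'⁻¹) := by
      calc (x : G)⁻¹ * x' = (x : G)⁻¹ * ((x' : G) * y') * y'⁻¹ := by group
        _ = (x : G)⁻¹ * (c * (x : G)) * y * y'⁻¹ := by rw [e]; group
        _ = c * (y * y'⁻¹) := by rw [← mem_center_iff.1 hc (x : G)]; group
    rw [e0]
    have e1 : Commute (k : G) c := mem_center_iff.1 hc k
    have e2 : Commute (k : G) y := h.comp_comm hO.comp hy k.2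
    have e3 : Commute (k : G) y' := h.comp_comm hO.comp hy' k.2
    exact (e1.mul_right (e2.mul_right e3.inv_right)).eq
  refine ⟨S, (x : G) * y, (x' : G) * y', mul_mem (hS ⟨x, hxP, rfl⟩) (Cores.pCore_le_sylow S hy),
    mul_mem (hS ⟨x', hxP', rfl⟩) (Cores.pCore_le_sylow S hy'), hy2, hy'2, hcomm,
    hout x y 1 hy (one_mem _) hxc, hout x' y' 1 hy' (one_mem _) hxc',
    fun e => hdiff 1 (one_mem _) (by rw [one_mul]; exact e.symm),
    hout x y z hy h.central hxc, hout x' y' z hy' h.central hxc', hdiff z h.central⟩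

end Cfsg.Agent.Lib.Inter3310
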