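import Cfsg.Agent.Lib.Inter3310.Setting
import Cfsg.Agent.Lib.Crit59.Setting
import Cfsg.Agent.Lib.HalfTransitive.MaxClass
import Cfsg.Agent.Lib.SylowInter.CyclicTwoTools
import Cfsg.Agent.Lib.PGroups.Omega
import Cfsg.Agent.Lib.BenderConsumers23.Simple
import Cfsg.Agent.Lib.BenderOne.Final
import Cfsg.Agent.Lib.BenderSuzuki.Main
import Cfsg.Agent.Lib.GorensteinWalter.Main
import Cfsg.Agent.Lib.Walter.Main
import Cfsg.Agent.Lib.Involutions.StronglyEmbedded
import Cfsg.Agent.S0111
import Cfsg.Agent.S0215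

/-!
# Quasisimple groups whose non-central involutions lie in unique Sylow 2-subgroups
-/

set_option autoImplicit false
set_option linter.style.haveILetI false
set_option linter.unusedSectionVars false

namespace Cfsg.Agent.Lib.Inter3310

open Subgroup

universe u

/-- A quasisimple group with a small 2-group as centre, every other involution lying in a unique
Sylow 2-subgroup. -/
structure QS (K : Type u) [Group K] : Prop where
  perfect : commutator K = ⊤
  simple : IsSimpleGroup (K ⧸ center K)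
  two : IsPGroup 2 ↥(center K)
  one : ∀ c ∈ center K, ∀ d ∈ center K, c * c = 1 → d * d = 1 → c ≠ 1 → d ≠ 1 → c = d
  uni : ∀ (S T : Sylow 2 K) (w : K), w ∈ (S : Subgroup K) → w ∈ (T : Subgroup K) →
    w * w = 1 → w ∉ center K → S = T

variable {K : Type u} [Group K] [Finite K]

local notation "π" => QuotientGroup.mk' (center K)

theorem pi_eq_one {x : K} : π x = 1 ↔ x ∈ center K := QuotientGroup.eq_one_iff x

theorem pi_eq {x y : K} : π x = π y ↔ x⁻¹ * y ∈ center K := QuotientGroup.eq

theorem pi_commute {x y : K} : π x * π y = π y * π x ↔ x * y * x⁻¹ * y⁻¹ ∈ center K := by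
  rw [← pi_eq_one, map_mul, map_mul, map_mul, map_inv, map_inv]
  constructor
  · intro h; rw [h]; group
  · intro h; exact (mul_inv_eq_iff_eq_mul.1 (mul_inv_eq_one.1 h))

theorem QS.center_le (h : QS K) (P : Sylow 2 K) : center K ≤ (P : Subgroup K) :=
  h.two.le_sylow_of_normal P

theorem QS.mem_of_pi_eq (h : QS K) (P : Sylow 2 K) {x y : K} (hx : x ∈ (P : Subgroup K))
    (hxy : π x = π y) : y ∈ (P : Subgroup K) := by
  have := mul_mem hx (h.center_le P (pi_eq.1 hxy))
  rwa [mul_inv_cancel_left] at this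

theorem QS.normalizes (h : QS K) {P : Sylow 2 K} {t g : K} (ht : t ∈ (P : Subgroup K))
    (ht2 : t * t = 1) (htc : t ∉ center K) (hg : g * t * g⁻¹ ∈ (P : Subgroup K)) :
    g ∈ normalizer ((P : Subgroup K) : Set K) := by
  refine eq_smul_iff.1 (h.uni P (g • P) _ hg (conj_mem_smul g ht) ?_ ?_).symm
  · rw [conj_mul, ht2, mul_one, mul_inv_cancel]
  · intro hc
    refine htc ?_
    have := (inferInstance : (center K).Normal).conj_mem _ hc g⁻¹
    rwa [show g⁻¹ * (g * t * g⁻¹) * g⁻¹⁻¹ = t by group] at this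

theorem QS.not_comm (h : QS K) : ¬ IsMulCommutative (K ⧸ center K) := by
  intro hc
  haveI := h.simple
  have hle : commutator K ≤ center K := by
    rw [commutator_eq_closure, closure_le]
    rintro _ ⟨a, b, rfl⟩
    rw [SetLike.mem_coe, commutatorElement_def, ← pi_commute]
    exact hc.is_comm.comm _ _
  rw [h.perfect] at hle
  haveI : Subsingleton (K ⧸ center K) := ⟨fun a b => by
    obtain ⟨a, rfl⟩ := QuotientGroup.mk'_surjective (center K) a
    obtain ⟨b, rfl⟩ := QuotientGroup.mk'_surjective (center K) b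
    exact pi_eq.2 (hle (mem_top _))⟩
  exact not_subsingleton (K ⧸ center K) this

/-- An involution outside the centre which is central modulo the centre in a Sylow subgroup. -/
theorem QS.exists_ac (h : QS K) (hinv : ∃ w : K, w * w = 1 ∧ w ∉ center K) :
    ∃ (P : Sylow 2 K) (t : K), t ∈ (P : Subgroup K) ∧ t * t = 1 ∧ t ∉ center K ∧
      ∀ p ∈ (P : Subgroup K), π p * π t = π t * π p := by
  classical
  haveI : Fact (Nat.Prime 2) := ⟨Nat.prime_two⟩
  obtain ⟨w, hw2, hwc⟩ := hinv
  obtain ⟨P, hwP⟩ := exists_sylow_of_sq hw2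
  refine ⟨P, ?_⟩
  by_cases hcen : ∃ t ∈ (P : Subgroup K), t * t = 1 ∧ t ∉ center K ∧
      ∀ p ∈ (P : Subgroup K), p * t = t * p
  · obtain ⟨t, htP, ht2, htc, hp⟩ := hcen
    exact ⟨t, htP, ht2, htc, fun p hpP => by rw [← map_mul, ← map_mul, hp p hpP]⟩
  push Not at hcen
  -- the involutions centralising `P` are central
  have hZ : ∀ x : ↥(P : Subgroup K), x * x = 1 → x ∈ center ↥(P : Subgroup K) →
      (x : K) ∈ center K := by
    intro x hx hxc
    by_contra hne
    obtain ⟨p, hp, hpx⟩ := hcen x x.2 (congrArg Subtype.val hx) hne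
    exact hpx (congrArg Subtype.val (mem_center_iff.1 hxc ⟨p, hp⟩))
  haveI : Nontrivial ↥(P : Subgroup K) :=
    ⟨⟨⟨w, hwP⟩, 1, fun e => hwc (by rw [show w = 1 from congrArg Subtype.val e]; exact one_mem _)⟩⟩
  haveI := P.isPGroup'.center_nontrivial
  obtain ⟨z₀, hz₀⟩ := exists_prime_orderOf_dvd_card' (G := ↥(center ↥(P : Subgroup K))) 2
    (((P.isPGroup'.to_subgroup (center ↥(P : Subgroup K))).card_eq_or_dvd).resolve_left
      Finite.one_lt_card.ne')
  have hz02 : (z₀ : ↥(P : Subgroup K)) * z₀ = 1 := congrArg Subtype.val (show z₀ * z₀ = 1 by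
    have := pow_orderOf_eq_one z₀
    rwa [hz₀, pow_two] at this)
  have hzc := hZ _ hz02 z₀.2
  set z : K := ((z₀ : ↥(P : Subgroup K)) : K) with hz
  have hz2 : z * z = 1 := congrArg Subtype.val hz02
  have hz1 : z ≠ 1 := fun e => by
    rw [show z₀ = 1 from Subtype.ext (Subtype.ext e), orderOf_one] at hz₀
    exact absurd hz₀ (by norm_num)
  by_cases hE : ∃ E : Subgroup ↥(P : Subgroup K), E.Normal ∧ Cfsg.IsElementaryAbelian 2 E ∧
      Nat.card E = 2 ^ 2
  · obtain ⟨E, hEn, hEel, hE4⟩ := hE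
    have hsq : ∀ e ∈ E, (e : K) * (e : K) = 1 := fun e he => by
      have := congrArg Subtype.val (hEel.2 e he)
      simpa [pow_two] using this
    obtain ⟨e, he, hec⟩ : ∃ e ∈ E, (e : K) ∉ center K := by
      by_contra hcon
      push Not at hcon
      have hinj : Function.Injective (fun e : ↥E => decide ((e : ↥(P : Subgroup K)) = 1)) := by
        intro a b hab
        simp only [decide_eq_decide] at hab
        by_cases ha : (a : ↥(P : Subgroup K)) = 1
        · exact Subtype.ext (ha.trans (hab.1 ha).symm)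
        · refine Subtype.ext (Subtype.ext (h.one _ (hcon _ a.2) _ (hcon _ b.2) (hsq _ a.2)
            (hsq _ b.2) (fun e => ha (Subtype.ext e)) (fun e => ha (hab.2 (Subtype.ext e)))))
      have := Nat.card_le_card_of_injective _ hinj
      rw [hE4, Nat.card_eq_fintype_card, Fintype.card_bool] at this
      norm_num at this
    haveI := hEn
    obtain ⟨⟨y, hy⟩, hy1'⟩ := @exists_ne _ ((Subgroup.nontrivial_iff_ne_bot
      (E ⊓ center ↥(P : Subgroup K))).2 fun hb => by
      have hne1 : E ≠ ⊥ := fun hE' => by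
        rw [hE', Subgroup.card_bot] at hE4
        norm_num at hE4
      haveI := (Subgroup.nontrivial_iff_ne_bot E).2 hne1
      haveI := P.isPGroup'.center_nontrivial
      exact PGroups.normal_inf_center_ne_bot P.isPGroup' E hne1 hb) (1 : ↥(E ⊓ center ↥(P : Subgroup K)))
    have hy1 : y ≠ 1 := fun e1 => hy1' (Subtype.ext e1)
    have hyz : (y : K) = z := h.one _ (hZ y (Subtype.ext (hsq y hy.1)) hy.2) _ hzc (hsq y hy.1) hz2
        (fun e1 => hy1 (Subtype.ext e1)) hz1
    have hey : (e : K) ≠ z := fun e1 => hec (e1 ▸ hzc)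
    let f : Fin 4 → ↥E := ![1, ⟨e, he⟩, ⟨y, hy.1⟩, ⟨e * y, mul_mem he hy.1⟩]
    have hf : Function.Injective f := by
      intro i j hij
      have h2 : ((f i : ↥(P : Subgroup K)) : K) = ((f j : ↥(P : Subgroup K)) : K) := by rw [hij]
      have he1 : (e : K) ≠ 1 := fun e1 => hec (e1 ▸ one_mem _)
      have he1' : e ≠ 1 := fun e1 => he1 (congrArg Subtype.val e1)
      fin_cases i <;> fin_cases j <;> simp [f, hyz] at h2 ⊢ <;>
        first
          | exact he1 h2
          | exact he1 h2.symm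
          | exact he1' h2
          | exact he1' h2.symm
          | exact hy1 h2
          | exact hy1 h2.symm
          | exact hz1 h2
          | exact hz1 h2.symm
          | exact hey h2
          | exact hey h2.symm
          | exact hec ((eq_inv_of_mul_eq_one_left h2) ▸ inv_mem hzc)
          | exact hec ((eq_inv_of_mul_eq_one_left h2.symm) ▸ inv_mem hzc)
    have hbij := (Nat.bijective_iff_injective_and_card f).2 ⟨hf, by rw [hE4]; simp⟩
    refine ⟨e, e.2, hsq e he, hec, fun p hp => ?_⟩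
    have hconj := hEn.conj_mem e he ⟨p, hp⟩
    obtain ⟨i, hi⟩ := hbij.2 ⟨_, hconj⟩
    have hpe : ((f i : ↥(P : Subgroup K)) : K) = p * (e : K) * p⁻¹ := by rw [hi]; rfl
    have hne' : p * (e : K) * p⁻¹ ∉ center K := fun hc => hec (by
      have := (inferInstance : (center K).Normal).conj_mem _ hc p⁻¹
      rwa [show p⁻¹ * (p * (e : K) * p⁻¹) * p⁻¹⁻¹ = (e : K) by group] at this)
    rw [pi_commute, ← hpe]
    rw [← hpe] at hne'
    fin_cases i <;> simp [f, hyz] at hne' ⊢
    · exact absurd hzc hne'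
    · rw [mem_center_iff.1 hzc]
      simpa [mul_assoc] using hzc
  exfalso
  obtain ⟨a, n, hn, hao, hwa, hcard, hcov, -⟩ :=
    HalfTransitive.dihedral_or_semidihedral P.isPGroup' hE (t := (⟨w, hwP⟩ : ↥(P : Subgroup K)))
      (Subtype.ext hw2) (fun hc => hwc (hZ _ (Subtype.ext hw2) hc))
  set A := (zpowers a).map (P : Subgroup K).subtype with hA
  have hrel : A.relIndex (P : Subgroup K) = 2 := by
    show ((zpowers a).map (P : Subgroup K).subtype).relIndex (P : Subgroup K) = 2
    rw [relIndex, subgroupOf, comap_map_eq_self_of_injective (P : Subgroup K).subtype_injective]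
    have h1 := card_mul_index (zpowers a)
    rw [Nat.card_zpowers, hao, hcard, pow_succ 2 (n + 1)] at h1
    exact Nat.eq_of_mul_eq_mul_left (pow_pos two_pos _) h1
  rcases Cfsg.Agent.S0111.result P A (map_subtype_le _) hrel w
      (orderOf_eq_prime (by rw [pow_two, hw2]) fun e => hwc (e ▸ one_mem _)) hwP
      (by rintro ⟨x, hx, hxw⟩
          exact hwa ((show x = ⟨w, hwP⟩ from Subtype.ext hxw) ▸ hx)) with
    ⟨M, hMn, hM2, -⟩ | ⟨g, hg⟩
  · haveI := hMn
    haveI : IsMulCommutative (K ⧸ M) := by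
      haveI : IsCyclic (K ⧸ M) := isCyclic_of_prime_card (p := 2)
        (by rw [← Subgroup.index_eq_card, hM2])
      exact IsCyclic.isMulCommutative
    have hle := Subgroup.Normal.quotient_commutative_iff_commutator_le.1 this
    rw [h.perfect, top_le_iff] at hle
    rw [hle, index_top] at hM2
    omega
  · obtain ⟨x, hx, hxg⟩ := hg
    have hx2 : x * x = 1 := Subtype.ext (by
      show (x : K) * x = 1
      have : (x : K) = g * w * g⁻¹ := hxg
      rw [this, conj_mul, hw2, mul_one, mul_inv_cancel])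
    haveI : (zpowers a).Normal := by
      refine Subgroup.normal_of_index_eq_two ?_
      have h1 := card_mul_index (zpowers a)
      rw [Nat.card_zpowers, hao, hcard, pow_succ 2 (n + 1)] at h1
      exact Nat.eq_of_mul_eq_mul_left (pow_pos two_pos _) h1
    have hx1 : x ≠ 1 := fun e => hwc (by
      have h' : g * w * g⁻¹ = 1 := by rw [← hxg, e]; rfl
      rw [conj_eq_one_iff.1 h']; exact one_mem _)
    have hxc : (x : K) ∈ center K := hZ x hx2 (mem_center_iff.2 fun p => by
      have hcj := Subgroup.Normal.conj_mem (inferInstance : (zpowers a).Normal) x hx p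
      exact mul_inv_eq_iff_eq_mul.1 (SylowInter.CyclicTwoTools.invol_eq (K := zpowers a) hcj hx
          (orderOf_eq_prime (by rw [pow_two, conj_mul, hx2, mul_one, mul_inv_cancel])
            (fun e => hx1 (conj_eq_one_iff.1 e)))
          (orderOf_eq_prime (by rw [pow_two, hx2]) hx1)))
    refine hwc ?_
    have := (inferInstance : (center K).Normal).conj_mem _ hxc g⁻¹
    have hxe : (x : K) = g * w * g⁻¹ := hxg
    rwa [hxe, show g⁻¹ * (g * w * g⁻¹) * g⁻¹⁻¹ = w by group] at this

/-- An involution of `P` outside the centre which is central in `P` modulo the centre. -/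
structure AC (P : Sylow 2 K) (t : K) : Prop where
  mem : t ∈ (P : Subgroup K)
  sq : t * t = 1
  out : t ∉ center K
  comm : ∀ p ∈ (P : Subgroup K), π p * π t = π t * π p

theorem QS.ac_conj (h : QS K) {P : Sylow 2 K} {t n : K} (ht : AC P t)
    (hn : n ∈ normalizer ((P : Subgroup K) : Set K)) : AC P (n * t * n⁻¹) := by
  refine ⟨(mem_normalizer_iff.1 hn t).1 ht.mem, by rw [conj_mul, ht.sq, mul_one, mul_inv_cancel],
    fun hc => ht.out ?_, fun p hp => ?_⟩
  · have := (inferInstance : (center K).Normal).conj_mem _ hc n⁻¹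
    rwa [show n⁻¹ * (n * t * n⁻¹) * n⁻¹⁻¹ = t by group] at this
  · have hp' : n⁻¹ * p * n ∈ (P : Subgroup K) := by
      have := (mem_normalizer_iff.1 (inv_mem hn) p).1 hp
      rwa [inv_inv] at this
    have h1 := ht.comm _ hp'
    calc π p * π (n * t * n⁻¹) = π n * (π (n⁻¹ * p * n) * π t) * (π n)⁻¹ := by
          simp only [map_mul, map_inv]; group
      _ = π n * (π t * π (n⁻¹ * p * n)) * (π n)⁻¹ := by rw [h1]
      _ = π (n * t * n⁻¹) * π p := by simp only [map_mul, map_inv]; group

/-- The normaliser of a Sylow subgroup controls fusion modulo the centre in it. -/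
theorem QS.fusion (h : QS K) {P : Sylow 2 K} {t x y g : K} (ht : AC P t)
    (hy : y ∈ (P : Subgroup K)) (hx : x ∈ (P : Subgroup K)) (hg : π (g * x * g⁻¹) = π y) :
    ∃ n ∈ normalizer ((P : Subgroup K) : Set K), π (n * x * n⁻¹) = π y := by
  haveI : Fact (Nat.Prime 2) := ⟨Nat.prime_two⟩
  set C : Subgroup K := (centralizer ({π y} : Set (K ⧸ center K))).comap π with hC
  have hmem : ∀ c, c ∈ C ↔ π c * π y = π y * π c := fun c => by
    rw [hC, mem_comap, mem_centralizer_singleton_iff]
  have htC : t ∈ C := (hmem t).2 (ht.comm y hy).symm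
  have ht'C : g * t * g⁻¹ ∈ C := (hmem _).2 (by
    rw [← hg]
    have h1 := ht.comm x hx
    calc π (g * t * g⁻¹) * π (g * x * g⁻¹) = π g * (π t * π x) * (π g)⁻¹ := by
          simp only [map_mul, map_inv]; group
      _ = π g * (π x * π t) * (π g)⁻¹ := by rw [h1]
      _ = π (g * x * g⁻¹) * π (g * t * g⁻¹) := by simp only [map_mul, map_inv]; group)
  have ht'2 : g * t * g⁻¹ * (g * t * g⁻¹) = 1 := by rw [conj_mul, ht.sq, mul_one, mul_inv_cancel]
  obtain ⟨T1, hT1⟩ := exists_sylow_of_sq (G := ↥C) (w := ⟨t, htC⟩) (Subtype.ext ht.sq)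
  obtain ⟨T2, hT2⟩ := exists_sylow_of_sq (G := ↥C) (w := ⟨_, ht'C⟩) (Subtype.ext ht'2)
  obtain ⟨c, hc⟩ := MulAction.exists_smul_eq ↥C T2 T1
  obtain ⟨P1, hP1⟩ := (T1.isPGroup'.map C.subtype).exists_le_sylow
  obtain rfl : P = P1 := h.uni P P1 t ht.mem (hP1 ⟨_, hT1, rfl⟩) ht.sq ht.out
  have hmem' : c * ⟨g * t * g⁻¹, ht'C⟩ * c⁻¹ ∈ (T1 : Subgroup ↥C) := hc ▸ conj_mem_smul c hT2
  have hP : ((c : K) * g) * t * ((c : K) * g)⁻¹ ∈ (P : Subgroup K) := by
    have h2 : (c : K) * (g * t * g⁻¹) * (c : K)⁻¹ ∈ (P : Subgroup K) := hP1 ⟨_, hmem', rfl⟩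
    rwa [show (c : K) * g * t * ((c : K) * g)⁻¹ = (c : K) * (g * t * g⁻¹) * (c : K)⁻¹ by group]
  refine ⟨(c : K) * g, h.normalizes ht.mem ht.sq ht.out hP, ?_⟩
  calc π ((c : K) * g * x * ((c : K) * g)⁻¹) = π c * π (g * x * g⁻¹) * (π c)⁻¹ := by
        simp only [map_mul, map_inv]; group
    _ = π y := by rw [hg, (hmem c).1 c.2, mul_inv_cancel_right]

theorem QS.sylow_map (P : Sylow 2 K) :
    ((P.mapSurjective (QuotientGroup.mk'_surjective (center K)) : Sylow 2 (K ⧸ center K)) :
      Subgroup (K ⧸ center K)) = (P : Subgroup K).map π := rfl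

theorem QS.orderOf_ac {t : K} (ht : t * t = 1) (htc : t ∉ center K) : orderOf (π t) = 2 :=
  orderOf_eq_prime (by rw [pow_two, ← map_mul, ht, map_one]) fun e => htc (pi_eq_one.1 e)

/-- A good involution gives a strongly embedded subgroup of the quotient. -/
theorem QS.se_of_good (hcrit : Crit59.CritFaithful.{u}) (h : QS K) {P : Sylow 2 K} {t : K}
    (ht : AC P t)
    (hgood : (∀ n ∈ normalizer ((P : Subgroup K) : Set K),
        t * (n * t * n⁻¹) = n * t * n⁻¹ * t) ∨
      ∃ c ∈ center K, c * c ≠ 1 ∧ c * c * (c * c) = 1) :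
    ∃ H : Subgroup (K ⧸ center K), Cfsg.IsStronglyEmbedded H := by
  haveI : Fact (Nat.Prime 2) := ⟨Nat.prime_two⟩
  haveI := h.simple
  set N := normalizer ((P : Subgroup K) : Set K) with hN
  have hZN : center K ≤ N := (h.center_le P).trans le_normalizer
  have hmapmem : ∀ g : K, π g ∈ N.map π → g ∈ N := by
    rintro g ⟨m, hm, hmg⟩
    have := mul_mem hm (hZN (pi_eq.1 hmg))
    rwa [mul_inv_cancel_left] at this
  have hinN : ∀ x : K, x * x = 1 → x ∈ N → x ∈ (P : Subgroup K) := fun x hx hxN => by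
    have hp : IsPGroup 2 ↥(zpowers x) := SylowInter.CyclicTwoTools.isPGroup_zpowers (k := 1)
      (by rw [pow_one, pow_two, hx])
    have hsup : IsPGroup 2 ↥((P : Subgroup K) ⊔ zpowers x) :=
      IsPGroup.to_sup_of_normal_left' P.2 hp (zpowers_le.2 hxN)
    rw [← P.3 hsup le_sup_left]
    exact mem_sup_right (mem_zpowers x)
  have hCt : ∀ g : K, π g * π t = π t * π g → g ∈ N := fun g hg => by
    refine h.normalizes ht.mem ht.sq ht.out (h.mem_of_pi_eq P ht.mem ?_)
    rw [map_mul, map_mul, map_inv, hg, mul_inv_cancel_right]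
  refine Crit59.row1175 hcrit (G := K ⧸ center K) (N.map π) ?_ (QS.orderOf_ac ht.sq ht.out)
    (mem_map_of_mem π (le_normalizer ht.mem))
    ⟨P.mapSurjective (QuotientGroup.mk'_surjective (center K)), mem_map_of_mem π ht.mem, ?_⟩ ?_ ?_
  · intro htop
    have hsol : Group.IsSolvable K := by
      have hNtop : N = ⊤ := (eq_top_iff' _).2 fun g => hmapmem g (htop ▸ mem_top _)
      haveI := normalizer_isSolvable P
      haveI : Group.IsSolvable ↥(⊤ : Subgroup K) := hNtop ▸ this
      exact Group.isSolvable_of_isSolvable_injective (f := (Subgroup.topEquiv (G := K)).symm.toMonoidHom)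
        (MulEquiv.injective _)
    haveI : Group.IsSolvable (K ⧸ center K) :=
      Group.isSolvable_of_surjective (QuotientGroup.mk'_surjective (center K))
    exact h.not_comm ⟨⟨IsSimpleGroup.comm_iff_isSolvable.2 this⟩⟩
  · rintro _ ⟨p, hp, rfl⟩
    exact ht.comm p hp
  · intro q hq
    obtain ⟨g, rfl⟩ := QuotientGroup.mk'_surjective (center K) q
    rw [← map_inv, ← map_mul, ← map_mul] at hq
    exact mem_map_of_mem π (h.normalizes ht.mem ht.sq ht.out (hinN _
      (by rw [conj_mul, ht.sq, mul_one, mul_inv_cancel]) (hmapmem _ hq)))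
  · intro q hcom hne
    obtain ⟨g, rfl⟩ := QuotientGroup.mk'_surjective (center K) q
    rw [← map_inv, ← map_mul, ← map_mul] at hcom hne
    rw [← map_inv, ← map_mul, ← map_mul, ← map_mul]
    set t' := g * t * g⁻¹ with ht'
    have ht'2 : t' * t' = 1 := by rw [ht', conj_mul, ht.sq, mul_one, mul_inv_cancel]
    have ht'P : t' ∈ (P : Subgroup K) := hinN _ ht'2 (hCt _ hcom.eq.symm)
    have hgN := h.normalizes ht.mem ht.sq ht.out ht'P
    -- an involution over the product
    set e := t * t' * (t * t') with he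
    have hti : t⁻¹ = t := inv_eq_of_mul_eq_one_right ht.sq
    have ht'i : t'⁻¹ = t' := inv_eq_of_mul_eq_one_right ht'2
    have hec : e ∈ center K := by
      rw [he, ← pi_eq_one]
      have h0 : π t * π t' = π t' * π t := hcom.eq
      calc π (t * t' * (t * t')) = π t * (π t' * π t) * π t' := by simp only [map_mul]; group
        _ = π t * (π t * π t') * π t' := by rw [h0]
        _ = π (t * t * (t' * t')) := by simp only [map_mul]; group
        _ = 1 := by rw [ht.sq, ht'2, mul_one, map_one]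
    have he2 : e * e = 1 := by
      have h1 : t' * e * t'⁻¹ = e := by rw [mem_center_iff.1 hec t', mul_inv_cancel_right]
      calc e * e = e * (t' * e * t'⁻¹) := by rw [h1]
        _ = t * t' * t * (t' * t') * t * t' * t * (t' * t'⁻¹) := by rw [he]; group
        _ = t * t' * (t * t) * t' * t := by rw [ht'2, mul_inv_cancel]; group
        _ = t * (t' * t') * t := by rw [ht.sq]; group
        _ = 1 := by rw [ht'2, mul_one, ht.sq]
    obtain ⟨c, hc, hc2⟩ : ∃ c ∈ center K, c * c * e = 1 := by
      rcases hgood with hg' | ⟨c, hc, hc1, hc4⟩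
      · refine ⟨1, one_mem _, ?_⟩
        rw [one_mul, one_mul, he]
        have h1 : t * t' = t' * t := hg' g hgN
        calc t * t' * (t * t') = t' * t * (t * t') := by rw [← h1]
          _ = t' * (t * t) * t' := by group
          _ = 1 := by rw [ht.sq, mul_one, ht'2]
      · by_cases he1 : e = 1
        · exact ⟨1, one_mem _, by rw [he1, one_mul, one_mul]⟩
        · exact ⟨c, hc, by rw [h.one _ hec _ (mul_mem hc hc) he2 hc4 he1 hc1]; exact hc4⟩
    set w := t * t' * c with hw
    have hw2 : w * w = 1 := by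
      calc w * w = t * t' * (c * (t * t')) * c := by rw [hw]; group
        _ = t * t' * (t * t' * c) * c := by rw [← mem_center_iff.1 hc (t * t')]
        _ = e * (c * c) := by rw [he]; group
        _ = c * c * e := mem_center_iff.1 (mul_mem hc hc) e
        _ = 1 := hc2
    have hπw : π w = π (t * t') := by rw [hw, map_mul _ (t * t') c, pi_eq_one.2 hc, mul_one]
    have hwc : w ∉ center K := fun hwc => hne (by
      have h1 : π (t * t') = 1 := hπw ▸ pi_eq_one.2 hwc
      rw [map_mul] at h1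
      rw [← inv_eq_of_mul_eq_one_right h1, ← map_inv, hti])
    have hwP : w ∈ (P : Subgroup K) := mul_mem (mul_mem ht.mem ht'P) (h.center_le P hc)
    intro q' hq'
    obtain ⟨a, rfl⟩ := QuotientGroup.mk'_surjective (center K) q'
    have ha := mem_centralizer_singleton_iff.1 hq'
    refine mem_map_of_mem π (h.normalizes hwP hw2 hwc (h.mem_of_pi_eq P hwP ?_))
    rw [hπw, map_mul π (a * w), map_mul π a w, map_inv, hπw, ha, mul_inv_cancel_right]

/-- The quotient has a strongly embedded subgroup. -/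
theorem QS.exists_se (hcrit : Crit59.CritFaithful.{u}) (h : QS K)
    (hinv : ∃ w : K, w * w = 1 ∧ w ∉ center K) :
    ∃ H : Subgroup (K ⧸ center K), Cfsg.IsStronglyEmbedded H := by
  classical
  haveI : Fact (Nat.Prime 2) := ⟨Nat.prime_two⟩
  haveI := h.simple
  obtain ⟨P, t₀, ht₀m, ht₀2, ht₀o, ht₀c⟩ := h.exists_ac hinv
  have ht₀ : AC P t₀ := ⟨ht₀m, ht₀2, ht₀o, ht₀c⟩
  by_cases h4 : ∃ c ∈ center K, c * c ≠ 1 ∧ c * c * (c * c) = 1
  · exact h.se_of_good hcrit ht₀ (Or.inr h4)
  by_cases hg : ∃ t, AC P t ∧ ∀ t', AC P t' → t * t' = t' * t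
  · obtain ⟨t, ht, hall⟩ := hg
    exact h.se_of_good hcrit ht (Or.inl fun n hn => hall _ (h.ac_conj ht hn))
  push Not at hg
  exfalso
  have hexp : ∀ c ∈ center K, c * c = 1 := by
    intro c hc
    obtain ⟨k, hk⟩ := h.two ⟨c, hc⟩
    have hk' : c ^ 2 ^ k = 1 := congrArg Subtype.val hk
    by_contra hne
    obtain ⟨j, -, hj⟩ := (Nat.dvd_prime_pow Nat.prime_two).1 (orderOf_dvd_of_pow_eq_one hk')
    rcases j with _ | _ | j
    · have hc1 : c = 1 := orderOf_eq_one_iff.1 (by simpa using hj)
      exact hne (by rw [hc1, one_mul])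
    · exact hne (by have := pow_orderOf_eq_one c; rwa [hj, pow_one, pow_two] at this)
    · refine h4 ⟨c ^ 2 ^ j, pow_mem hc _, fun e => ?_, ?_⟩
      · rw [← pow_add] at e
        have h1 := Nat.le_of_dvd (by positivity) (orderOf_dvd_of_pow_eq_one e)
        rw [hj, pow_succ, pow_succ] at h1
        have h2 : 0 < 2 ^ j := by positivity
        omega
      · rw [← pow_add, ← pow_add]
        refine orderOf_dvd_iff_pow_eq_one.1 ?_
        rw [hj]
        exact dvd_of_eq (by ring)
  obtain ⟨t₁, ht₁, hnc⟩ := hg t₀ ht₀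
  set W := closure {w : K | AC P w} with hW
  set R := (P : Subgroup K) ⊓ centralizer (W : Set K) with hR
  have hRw : ∀ r ∈ R, ∀ w, AC P w → r * w = w * r := fun r hr w hw =>
    (mem_centralizer_iff.1 hr.2 w (subset_closure hw)).symm
  have hRin : ∀ r ∈ (P : Subgroup K), (∀ w, AC P w → r * w = w * r) → r ∈ R := fun r hr hw =>
    ⟨hr, by rw [hW, centralizer_closure]; exact mem_centralizer_iff.2 fun w hw' => (hw w hw').symm⟩
  have hprod : ∀ w, AC P w → ∀ w', AC P w' → w * w' * (w * w') ∈ center K := fun w hw w' hw' => by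
    rw [← pi_eq_one]
    calc π (w * w' * (w * w')) = π w * (π w' * π w) * π w' := by simp only [map_mul]; group
      _ = π w * (π w * π w') * π w' := by rw [hw.comm w' hw'.mem]
      _ = π (w * w * (w' * w')) := by simp only [map_mul]; group
      _ = 1 := by rw [hw.sq, hw'.sq, mul_one, map_one]
  have hsqne : t₀ * t₁ * (t₀ * t₁) ≠ 1 := fun e => hnc (by
    have := inv_eq_of_mul_eq_one_right e
    rw [mul_inv_rev, inv_eq_of_mul_eq_one_right ht₀.sq, inv_eq_of_mul_eq_one_right ht₁.sq] at this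
    exact this.symm)
  set z := t₀ * t₁ * (t₀ * t₁) with hz
  have hzc : z ∈ center K := hprod _ ht₀ _ ht₁
  have huni : ∀ c ∈ center K, c ≠ 1 → c = z := fun c hc hc1 =>
    h.one c hc z hzc (hexp c hc) (hexp z hzc) hc1 hsqne
  by_cases hRc : R ≤ center K
  · -- the Sylow subgroup of the quotient is elementary abelian
    have hsq : ∀ p ∈ (P : Subgroup K), p * p ∈ center K := by
      intro p hp
      refine hRc (hRin _ (mul_mem hp hp) fun w hw => ?_)
      set c := p * w * p⁻¹ * w⁻¹ with hcdef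
      have hc : c ∈ center K := pi_commute.1 (hw.comm p hp)
      have h1 : p * w * p⁻¹ = c * w := by rw [hcdef, inv_mul_cancel_right]
      have h2 : p * p * w * (p * p)⁻¹ = w := by
        calc p * p * w * (p * p)⁻¹ = p * (p * w * p⁻¹) * p⁻¹ := by group
          _ = (p * c) * w * p⁻¹ := by rw [h1]; group
          _ = c * (p * w * p⁻¹) := by rw [mem_center_iff.1 hc]; group
          _ = w := by rw [h1, ← mul_assoc, hexp c hc, one_mul]
      exact mul_inv_eq_iff_eq_mul.1 h2
    set Pb := P.mapSurjective (QuotientGroup.mk'_surjective (center K)) with hPb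
    have hPb2 : ∀ x ∈ (Pb : Subgroup (K ⧸ center K)), x * x = 1 := by
      rintro _ ⟨p, hp, rfl⟩
      rw [← map_mul, pi_eq_one.2 (hsq p hp)]
    have hab : Walter.AbelianSylow (K ⧸ center K) := by
      intro S
      obtain ⟨q, hq⟩ := MulAction.exists_smul_eq (K ⧸ center K) Pb S
      refine ⟨⟨fun a b => ?_⟩⟩
      have hall : ∀ x : ↥(S : Subgroup (K ⧸ center K)), x * x = 1 := fun x => Subtype.ext (by
        have hxS : (x : K ⧸ center K) ∈ ((q • Pb : Sylow 2 (K ⧸ center K)) :
            Subgroup (K ⧸ center K)) := by rw [hq]; exact x.2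
        have hx := hPb2 _ (mem_smul_iff.1 hxS)
        show (x : K ⧸ center K) * x = 1
        calc (x : K ⧸ center K) * x = q * (q⁻¹ * x * q * (q⁻¹ * x * q)) * q⁻¹ := by group
          _ = 1 := by rw [hx, mul_one, mul_inv_cancel])
      have e1 : ∀ x : ↥(S : Subgroup (K ⧸ center K)), x⁻¹ = x := fun x =>
        inv_eq_of_mul_eq_one_right (hall x)
      rw [← e1 (a * b), mul_inv_rev, e1, e1]
    obtain ⟨n, hn, -, htr⟩ := ((Walter.knownFacts BenderOne.propSplitFinal).1 _
      (Walter.propKnown BenderOne.propSplitFinal GorensteinWalter.propMainFinal _ h.simple h.not_comm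
        hab)).torus Pb
    obtain ⟨k, hk⟩ := htr (π t₀) (mem_map_of_mem π ht₀.mem)
      (fun e => ht₀.out (pi_eq_one.1 e)) (π (t₀ * t₁)) (mem_map_of_mem π (mul_mem ht₀.mem ht₁.mem))
      (fun e => hsqne (by rw [hz, hexp _ (pi_eq_one.1 e)]))
    obtain ⟨g, hg'⟩ := QuotientGroup.mk'_surjective (center K) (n ^ k)
    rw [← hg', ← map_inv, ← map_mul, ← map_mul] at hk
    set c := (g * t₀ * g⁻¹)⁻¹ * (t₀ * t₁) with hcdef
    have hc : c ∈ center K := pi_eq.1 hk
    have hprodeq : t₀ * t₁ = g * t₀ * g⁻¹ * c := by rw [hcdef, mul_inv_cancel_left]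
    refine hsqne ?_
    calc z = g * t₀ * g⁻¹ * (c * (g * t₀ * g⁻¹)) * c := by rw [hz, hprodeq]; group
      _ = g * (t₀ * t₀) * g⁻¹ * (c * c) := by rw [← mem_center_iff.1 hc]; group
      _ = 1 := by rw [ht₀.sq, hexp c hc]; group
  · -- an isolated involution of the quotient
    have hWn : ∀ n ∈ normalizer ((P : Subgroup K) : Set K), ∀ r ∈ R, n * r * n⁻¹ ∈ R := by
      intro n hn r hr
      refine hRin _ ((mem_normalizer_iff.1 hn r).1 hr.1) fun w hw => ?_
      have h1 := hRw r hr _ (h.ac_conj hw (inv_mem hn))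
      rw [inv_inv] at h1
      calc n * r * n⁻¹ * w = n * (r * (n⁻¹ * w * n)) * n⁻¹ := by group
        _ = n * ((n⁻¹ * w * n) * r) * n⁻¹ := by rw [h1]
        _ = w * (n * r * n⁻¹) := by group
    set Pb := (P : Subgroup K).map π with hPb
    set Rb := (R.map π).subgroupOf Pb with hRb
    haveI : Rb.Normal := ⟨by
      rintro ⟨x, _⟩ hx ⟨_, p, hp, rfl⟩
      obtain ⟨r, hr, hrx⟩ := hx
      refine ⟨p * r * p⁻¹, hWn p (le_normalizer hp) r hr, ?_⟩
      rw [map_mul, map_mul, map_inv, hrx]
      rfl⟩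
    have hRbne : Rb ≠ ⊥ := by
      intro hb
      refine hRc fun r hr => pi_eq_one.1 ?_
      have h1 : (⟨π r, mem_map_of_mem π hr.1⟩ : ↥Pb) ∈ Rb := mem_map_of_mem π hr
      rw [hb, mem_bot] at h1
      exact congrArg Subtype.val h1
    have hpg : IsPGroup 2 ↥Pb := P.isPGroup'.map π
    haveI : Nontrivial ↥(Rb ⊓ center ↥Pb) :=
      (Subgroup.nontrivial_iff_ne_bot _).2 (PGroups.normal_inf_center_ne_bot hpg Rb hRbne)
    obtain ⟨r₀, hr₀⟩ := exists_prime_orderOf_dvd_card' (G := ↥(Rb ⊓ center ↥Pb)) 2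
      (((hpg.to_subgroup (Rb ⊓ center ↥Pb)).card_eq_or_dvd).resolve_left Finite.one_lt_card.ne')
    obtain ⟨⟨⟨x, hxP⟩, hxR, hxC⟩, hr₀'⟩ : ∃ r : ↥(Rb ⊓ center ↥Pb), orderOf r = 2 := ⟨r₀, hr₀⟩
    rw [← Subgroup.orderOf_coe, ← Subgroup.orderOf_coe] at hr₀'
    obtain ⟨r, hr, hrx⟩ := hxR
    change π r = x at hrx
    subst hrx
    change orderOf (π r) = 2 at hr₀'
    have hcommr : ∀ p ∈ (P : Subgroup K), π p * π r = π r * π p := fun p hp =>
      congrArg Subtype.val (mem_center_iff.1 hxC ⟨π p, mem_map_of_mem π hp⟩)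
    have hrout : r ∉ center K := fun hc => by
      rw [pi_eq_one.2 hc, orderOf_one] at hr₀'; exact absurd hr₀' (by norm_num)
    -- every such element is congruent to `r`
    have key : ∀ s ∈ R, (∀ p ∈ (P : Subgroup K), π p * π s = π s * π p) → s ∉ center K →
        s * s ∈ center K → s ∈ W ∧ s * s = z := by
      intro s hs hsc hso hs2
      have hne : s * s ≠ 1 := fun e => by
        obtain ⟨w, hw, hsw⟩ := hg s ⟨hs.1, e, hso, hsc⟩
        exact hsw (hRw s hs w hw)
      have hsz := huni _ hs2 hne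
      refine ⟨?_, hsz⟩
      set u := s * (t₀ * t₁) with hu
      have hc : t₀ * t₁ * s = s * (t₀ * t₁) :=
        ((Commute.mul_right (hRw s hs _ ht₀) (hRw s hs _ ht₁)).eq).symm
      have hu2 : u * u = 1 := by
        calc u * u = s * (t₀ * t₁ * s) * (t₀ * t₁) := by rw [hu]; group
          _ = s * s * z := by rw [hc, hz]; group
          _ = 1 := by rw [hsz, hexp z hzc]
      have hW01 : t₀ * t₁ ∈ W := mul_mem (subset_closure ht₀) (subset_closure ht₁)
      have huP : u ∈ (P : Subgroup K) := mul_mem hs.1 (mul_mem ht₀.mem ht₁.mem)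
      have hsW : u ∈ W → s ∈ W := fun huW => by
        have := mul_mem huW (inv_mem hW01)
        rwa [hu, mul_inv_cancel_right] at this
      by_cases huc : u ∈ center K
      · rcases eq_or_ne u 1 with hu1 | hu1
        · exact hsW (hu1 ▸ one_mem W)
        · exact hsW (huni u huc hu1 ▸ mul_mem hW01 hW01)
      · refine hsW (subset_closure (show AC P u from ⟨huP, hu2, huc, fun p hp => ?_⟩))
        rw [hu, map_mul _ s, map_mul]
        have e1 : Commute (π p) (π s) := hsc p hp
        have e2 : Commute (π p) (π t₀) := ht₀.comm p hp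
        have e3 : Commute (π p) (π t₁) := ht₁.comm p hp
        exact (e1.mul_right (e2.mul_right e3)).eq
    have hr2 : r * r ∈ center K := pi_eq_one.1 (by
      have := pow_orderOf_eq_one (π r)
      rw [hr₀', pow_two] at this
      rwa [map_mul])
    obtain ⟨hrW, hrz⟩ := key r hr hcommr hrout hr2
    have huniq : ∀ s ∈ R, (∀ p ∈ (P : Subgroup K), π p * π s = π s * π p) → s ∉ center K →
        s * s ∈ center K → π s = π r := by
      intro s hs hsc hso hs2
      obtain ⟨-, hsz⟩ := key s hs hsc hso hs2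
      by_contra hne
      have hrs : r * s = s * r := (mem_centralizer_iff.1 hs.2 r hrW)
      have hu2 : r * s * (r * s) = 1 := by
        calc r * s * (r * s) = r * (s * r) * s := by group
          _ = r * r * (s * s) := by rw [← hrs]; group
          _ = 1 := by rw [hrz, hsz, hexp z hzc]
      have huo : r * s ∉ center K := fun hc => hne (by
        have h1 : π r * π s = 1 := by rw [← map_mul]; exact pi_eq_one.2 hc
        have h2 : π r * π r = 1 := by rw [← map_mul]; exact pi_eq_one.2 hr2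
        exact mul_left_cancel (h1.trans h2.symm))
      obtain ⟨w, hw, hsw⟩ := hg (r * s) ⟨mul_mem hr.1 hs.1, hu2, huo, fun p hp => by
        rw [map_mul]
        have e1 : Commute (π p) (π r) := hcommr p hp
        have e2 : Commute (π p) (π s) := hsc p hp
        exact (e1.mul_right e2).eq⟩
      exact hsw (hRw _ (mul_mem hr hs) w hw)
    have hiso : ∀ g : K ⧸ center K,
        g * π r * g⁻¹ ∈ (P.mapSurjective (QuotientGroup.mk'_surjective (center K)) :
          Subgroup (K ⧸ center K)) → g * π r * g⁻¹ = π r := by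
      intro g hgP
      obtain ⟨g, rfl⟩ := QuotientGroup.mk'_surjective (center K) g
      obtain ⟨y, hy, hye⟩ := hgP
      rw [← map_inv, ← map_mul, ← map_mul] at hye ⊢
      obtain ⟨n, hn, hne⟩ := h.fusion ht₀ hy hr.1 hye.symm
      rw [← hye, ← hne]
      refine huniq _ (hWn n hn r hr) (fun p hp => ?_) (fun hc => hrout ?_) ?_
      · have hp' : n⁻¹ * p * n ∈ (P : Subgroup K) := by
          have := (mem_normalizer_iff.1 (inv_mem hn) p).1 hp
          rwa [inv_inv] at this
        calc π p * π (n * r * n⁻¹) = π n * (π (n⁻¹ * p * n) * π r) * (π n)⁻¹ := by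
              simp only [map_mul, map_inv]; group
          _ = π n * (π r * π (n⁻¹ * p * n)) * (π n)⁻¹ := by rw [hcommr _ hp']
          _ = π (n * r * n⁻¹) * π p := by simp only [map_mul, map_inv]; group
      · have := (inferInstance : (center K).Normal).conj_mem _ hc n⁻¹
        rwa [show n⁻¹ * (n * r * n⁻¹) * n⁻¹⁻¹ = r by group] at this
      · rw [conj_mul]
        exact (inferInstance : (center K).Normal).conj_mem _ hr2 n
    obtain ⟨O, hOn, hOodd, hOc⟩ := Cfsg.Agent.S0215.result _ (π r) hr₀'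
      (mem_map_of_mem π hr.1) hiso
    have hObot : O = ⊥ := by
      refine hOn.eq_bot_or_eq_top.resolve_right fun e => ?_
      rw [e, Subgroup.card_top] at hOodd
      exact h.not_comm ⟨⟨IsSimpleGroup.comm_iff_isSolvable.2 (Cfsg.Agent.S0205.result hOodd)⟩⟩
    have hrc : π r ∈ center (K ⧸ center K) := mem_center_iff.2 fun g => by
      have h1 := hOc g
      rw [hObot, mem_bot] at h1
      exact (mul_inv_eq_iff_eq_mul.1 (mul_inv_eq_one.1 h1)).symm
    rw [SmallGroups.Sylow.center_eq_bot h.not_comm, mem_bot] at hrc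
    exact hrout (pi_eq_one.1 hrc)

/-- Every element of order two modulo the centre has an involution in its coset. -/
theorem QS.exists_lift (hcrit : Crit59.CritFaithful.{u}) (h : QS K)
    (hinv : ∃ w : K, w * w = 1 ∧ w ∉ center K) {w : K} (hw : w ∉ center K)
    (hw2 : w * w ∈ center K) : ∃ c ∈ center K, w * c * (w * c) = 1 := by
  haveI : Fact (Nat.Prime 2) := ⟨Nat.prime_two⟩
  obtain ⟨H, hH⟩ := h.exists_se hcrit hinv
  obtain ⟨t, ht2, htc⟩ := hinv
  obtain ⟨g, hg⟩ := isConj_iff.1 (Involutions.StronglyEmbedded.isConj_involutions hH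
    (s := π t) (t := π w) (QS.orderOf_ac ht2 htc)
    (orderOf_eq_prime (by rw [pow_two, ← map_mul, pi_eq_one.2 hw2]) fun e => hw (pi_eq_one.1 e)))
  obtain ⟨g, rfl⟩ := QuotientGroup.mk'_surjective (center K) g
  rw [← map_inv, ← map_mul, ← map_mul] at hg
  refine ⟨w⁻¹ * (g * t * g⁻¹), pi_eq.1 hg.symm, ?_⟩
  rw [mul_inv_cancel_left, conj_mul, ht2, mul_one, mul_inv_cancel]

/-- The quotient is one of the groups of Bender's list. -/
theorem QS.target (hcrit : Crit59.CritFaithful.{u}) (h : QS K)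
    (hinv : ∃ w : K, w * w = 1 ∧ w ∉ center K) : BenderConsumers23.Target (K ⧸ center K) := by
  haveI := h.simple
  obtain ⟨H, hH⟩ := h.exists_se hcrit hinv
  exact (BenderConsumers23.simple_case BenderOne.propPartOneFinal BenderSuzuki.propMain
    (BenderConsumers23.na_of_not_comm h.not_comm) hH).1

end Cfsg.Agent.Lib.Inter3310
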