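import Cfsg.Agent.Lib.Inter3310.Comp
import Cfsg.Agent.Lib.CentralInt88.Structure
import Cfsg.Agent.Lib.Inter3185.Facts
import Cfsg.Agent.Lib.TwoGroups.Recognition

/-!
# A component whose only involution is central: it is `SL(2,5)`
-/

set_option autoImplicit false
set_option linter.style.haveILetI false
set_option linter.unusedSectionVars false

namespace Cfsg.Agent.Lib.Inter3310

open Subgroup
open scoped Pointwise

universe u

variable {G : Type u} [Group G] [Finite G] {z : G} {K : Subgroup G}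

/-- `z` is the only involution of the component `K`. -/
structure NI (z : G) (K : Subgroup G) : Prop where
  comp : Cfsg.IsComponent K
  only : ∀ w ∈ K, w * w = 1 → w = 1 ∨ w = z

theorem NI.two_dvd (hn : NI z K) : 2 ∣ Nat.card ↥K :=
  even_iff_two_dvd.1 (Nat.not_odd_iff_even.1 fun ho =>
    Components.Component.not_isSolvable hn.comp (Cfsg.Agent.S0205.result ho))

theorem NI.zmem (hn : NI z K) : z ∈ K := by
  haveI : Fact (Nat.Prime 2) := ⟨Nat.prime_two⟩
  obtain ⟨w, hw⟩ := exists_prime_orderOf_dvd_card' (G := ↥K) 2 hn.two_dvd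
  have hw2 : w * w = 1 := by
    have := pow_orderOf_eq_one w
    rwa [hw, pow_two] at this
  rcases hn.only w w.2 (congrArg Subtype.val hw2) with e | e
  · rw [show w = 1 from Subtype.ext e, orderOf_one] at hw
    exact absurd hw (by norm_num)
  · exact e ▸ w.2

/-- The Sylow 2-subgroups are quaternion groups. -/
theorem NI.sylow_quat (hn : NI z K) (P : Sylow 2 ↥K) :
    ∃ n : ℕ, 1 ≤ n ∧ Nonempty (↥(P : Subgroup ↥K) ≃* QuaternionGroup (2 ^ n)) := by
  haveI : Fact (Nat.Prime 2) := ⟨Nat.prime_two⟩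
  have key : ∀ x : ↥(P : Subgroup ↥K), orderOf x = 2 → ((x : ↥K) : G) = z := fun x hx => by
    have hx2 : x * x = 1 := by
      have := pow_orderOf_eq_one x
      rwa [hx, pow_two] at this
    refine (hn.only _ (x : ↥K).2 (congrArg (fun y : ↥(P : Subgroup ↥K) => ((y : ↥K) : G)) hx2)).resolve_left
      fun e => ?_
    rw [show x = 1 from Subtype.ext (Subtype.ext e), orderOf_one] at hx
    exact absurd hx (by norm_num)
  rcases PGroups.isCyclic_or_quaternion (p := 2) P.isPGroup' (fun x y hx hy => by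
    rw [show y = x from Subtype.ext (Subtype.ext ((key y hy).trans (key x hx).symm))]
    exact mem_zpowers x) with hc | ⟨-, hq⟩
  · exact absurd (Inter3308.solvable_of_cyclic P hc) (Components.Component.not_isSolvable hn.comp)
  · exact hq

/-- The centre is generated by `z`. -/
theorem NI.center_cases (h : Cen G z) (hn : NI z K) {x : ↥K} (hx : x ∈ center ↥K) :
    (x : G) = 1 ∨ (x : G) = z := by
  obtain ⟨P⟩ := (inferInstance : Nonempty (Sylow 2 ↥K))
  obtain ⟨n, hn1, ⟨e⟩⟩ := hn.sylow_quat P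
  have hxP := (h.qs hn.comp).center_le P hx
  have h1 := SylowInter.CyclicTwoTools.quaternion_central_sq hn1 (e ⟨x, hxP⟩) fun r => by
    obtain ⟨y, rfl⟩ := e.surjective r
    rw [← map_mul, ← map_mul]
    exact congrArg e (Subtype.ext (mem_center_iff.1 hx y).symm)
  rw [← map_mul, MulEquiv.map_eq_one_iff] at h1
  exact hn.only x x.2 (congrArg (fun y : ↥(P : Subgroup ↥K) => ((y : ↥K) : G)) h1)

theorem NI.center_card (h : Cen G z) (hn : NI z K) : Nat.card ↥(center ↥K) = 2 := by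
  have hzc : (⟨z, hn.zmem⟩ : ↥K) ∈ center ↥K := h.z_center rfl
  refine Nat.card_eq_two_iff.2 ⟨1, ⟨_, hzc⟩, fun e => h.ne ?_, ?_⟩
  · exact (congrArg (fun y : ↥(center ↥K) => ((y : ↥K) : G)) e).symm
  · refine Set.eq_univ_of_forall fun y => ?_
    rcases hn.center_cases h y.2 with e | e
    · exact Or.inl (Subtype.ext (Subtype.ext e))
    · exact Or.inr (Subtype.ext (Subtype.ext e))

/-- A Sylow subgroup has an element of order four outside the centre with square `z`. -/
theorem NI.sq_eq (h : Cen G z) (hn : NI z K) {x : ↥K} (hx : x ∉ center ↥K)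
    (hx2 : x * x ∈ center ↥K) : (x : G) * x = z := by
  refine (hn.center_cases h hx2).resolve_left fun e => hx ?_
  rcases hn.only x x.2 e with e' | e'
  · rw [show x = 1 from Subtype.ext e']; exact one_mem _
  · exact h.z_center e'

theorem NI.exists_four (h : Cen G z) (hn : NI z K) :
    ∃ q ∈ K, q * q = z ∧ ¬ ∀ k ∈ K, k * q = q * k := by
  obtain ⟨P⟩ := (inferInstance : Nonempty (Sylow 2 ↥K))
  obtain ⟨n, hn1, ⟨e⟩⟩ := hn.sylow_quat P
  haveI : NeZero (2 ^ n : ℕ) := ⟨pow_ne_zero n two_ne_zero⟩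
  set x : ↥(P : Subgroup ↥K) := e.symm (QuaternionGroup.xa 0) with hx
  have ho : orderOf x = 4 := by rw [hx, MulEquiv.orderOf_eq, QuaternionGroup.orderOf_xa]
  refine ⟨((x : ↥K) : G), (x : ↥K).2, ?_, fun hc => ?_⟩
  · have h4 := pow_orderOf_eq_one x
    rw [ho] at h4
    refine ((hn.only _ (mul_mem (x : ↥K).2 (x : ↥K).2) ?_).resolve_left fun e1 => ?_)
    · have := congrArg (fun y : ↥(P : Subgroup ↥K) => ((y : ↥K) : G)) h4
      simpa [pow_succ, mul_assoc] using this
    · have : x ^ 2 = 1 := by rw [pow_two]; exact Subtype.ext (Subtype.ext e1)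
      have := Nat.le_of_dvd two_pos (ho ▸ orderOf_dvd_of_pow_eq_one this)
      omega
  · have hcc : (x : ↥K) ∈ center ↥K := mem_center_iff.2 fun k => Subtype.ext (hc k k.2)
    rcases hn.center_cases h hcc with e1 | e1
    · rw [show x = 1 from Subtype.ext (Subtype.ext e1), orderOf_one] at ho
      exact absurd ho (by norm_num)
    · have h2 : x ^ 2 = 1 := by
        rw [pow_two]
        exact Subtype.ext (Subtype.ext (by
          show ((x : ↥K) : G) * ((x : ↥K) : G) = 1
          rw [e1, h.sq]))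
      have := Nat.le_of_dvd two_pos (ho ▸ orderOf_dvd_of_pow_eq_one h2)
      omega

/-- A Sylow subgroup of a subgroup and a commuting 2-element lie in one Sylow subgroup. -/
theorem exists_sylow_join {P : Subgroup G} (hP : IsPGroup 2 ↥P) {q : G} {k : ℕ}
    (hq : q ^ 2 ^ k = 1) (hc : ∀ x ∈ P, x * q = q * x) :
    ∃ S : Sylow 2 G, P ≤ (S : Subgroup G) ∧ q ∈ (S : Subgroup G) := by
  haveI : Fact (Nat.Prime 2) := ⟨Nat.prime_two⟩
  have hpq := SylowInter.CyclicTwoTools.isPGroup_zpowers hq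
  obtain ⟨S, hS⟩ := (IsPGroup.to_sup_of_normal_left' hP hpq (zpowers_le.2
    (centralizer_le_normalizer _ (mem_centralizer_iff.2 hc)))).exists_le_sylow
  exact ⟨S, le_sup_left.trans hS, hS (mem_sup_right (mem_zpowers q))⟩

/-- With an element of order four centralising `K`, the Sylow subgroups of `K/Z(K)` are TI. -/
theorem NI.ti (h : Cen G z) (hn : NI z K) {q : G} (hq : q * q = z)
    (hqK : ∀ k ∈ K, k * q = q * k) {P P' : Sylow 2 ↥K} {y : ↥K} (hy : y ∈ (P : Subgroup ↥K))
    (hy' : y ∈ (P' : Subgroup ↥K)) (hyc : y ∉ center ↥K) (hy2 : y * y ∈ center ↥K) : P = P' := by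
  have hq4 : q ^ 2 ^ 2 = 1 := by
    rw [show (2 : ℕ) ^ 2 = 2 * 2 by norm_num, pow_mul, pow_two, pow_two, hq, h.sq]
  obtain ⟨S, hPS, hqS⟩ := exists_sylow_join (P.isPGroup'.map K.subtype) hq4
    (by rintro _ ⟨x, -, rfl⟩; exact hqK x x.2)
  obtain ⟨S', hPS', hqS'⟩ := exists_sylow_join (P'.isPGroup'.map K.subtype) hq4
    (by rintro _ ⟨x, -, rfl⟩; exact hqK x x.2)
  set w := (y : G) * q with hw
  have hw2 : w * w = 1 := by
    calc w * w = (y : G) * (q * y) * q := by rw [hw]; group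
      _ = (y : G) * y * (q * q) := by rw [← hqK y y.2]; group
      _ = 1 := by rw [hn.sq_eq h hyc hy2, hq, h.sq]
  have hcase : ∀ c : G, c ∈ center G → w = c → False := fun c hc e => by
    refine hyc (mem_center_iff.2 fun k => Subtype.ext ?_)
    have hy_eq : (y : G) = c * q⁻¹ := by rw [← e, hw, mul_inv_cancel_right]
    show (k : G) * y = y * k
    have e1 : Commute (k : G) c := mem_center_iff.1 hc k
    have e2 : Commute (k : G) q := hqK k k.2
    rw [hy_eq]
    exact (e1.mul_right e2.inv_right).eq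
  obtain rfl := h.uni S S' w (mul_mem (hPS ⟨y, hy, rfl⟩) hqS) (mul_mem (hPS' ⟨y, hy', rfl⟩) hqS')
    hw2 (fun e => hcase 1 (one_mem _) e) (fun e => hcase z h.central e)
  have h2 : IsPGroup 2 ↥((S : Subgroup G).subgroupOf K) := S.isPGroup'.comap_subtype
  exact Sylow.ext ((P.3 h2 fun a ha => hPS ⟨a, ha, rfl⟩).symm.trans
    (P'.3 h2 fun a ha => hPS' ⟨a, ha, rfl⟩))

/-- The quotient is one of Bender's groups. -/
theorem NI.target (h : Cen G z) (hn : NI z K) {q : G} (hq : q * q = z)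
    (hqK : ∀ k ∈ K, k * q = q * k) : BenderConsumers23.Target (↥K ⧸ center ↥K) := by
  haveI : Fact (Nat.Prime 2) := ⟨Nat.prime_two⟩
  have hQS := h.qs hn.comp
  haveI := hQS.simple
  set π := QuotientGroup.mk' (center ↥K)
  have hsurj : Function.Surjective π := QuotientGroup.mk'_surjective _
  obtain ⟨P⟩ := (inferInstance : Nonempty (Sylow 2 ↥K))
  set T := P.mapSurjective hsurj with hT
  have hTne : (T : Subgroup (↥K ⧸ center ↥K)) ≠ ⊥ :=
    Inter3308.sylow_ne_bot hQS.not_comm T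
  refine (BenderConsumers23.simple_case BenderOne.propPartOneFinal BenderSuzuki.propMain
    (BenderConsumers23.na_of_not_comm hQS.not_comm) (H := normalizer
      ((T : Subgroup (↥K ⧸ center ↥K)) : Set (↥K ⧸ center ↥K)))
    (Involutions.StronglyEmbedded.isStronglyEmbedded_normalizer_of_ti T (fun hnT => ?_) ?_)).1
  · rcases hnT.eq_bot_or_eq_top with e | e
    · exact hTne e
    · haveI : Group.IsNilpotent ↥(T : Subgroup (↥K ⧸ center ↥K)) := T.isPGroup'.isNilpotent
      have hs : Group.IsSolvable (↥K ⧸ center ↥K) :=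
        Group.isSolvable_of_surjective (f := (T : Subgroup (↥K ⧸ center ↥K)).subtype)
          (fun x => ⟨⟨x, e.symm ▸ mem_top x⟩, rfl⟩)
      exact hQS.not_comm ⟨⟨IsSimpleGroup.comm_iff_isSolvable.2 hs⟩⟩
  · intro g hne
    rw [Subgroup.eq_bot_iff_forall]
    intro x hx
    by_contra hx1
    obtain ⟨k, hk⟩ := T.isPGroup' ⟨x, hx.2⟩
    have hk' : x ^ 2 ^ k = 1 := congrArg Subtype.val hk
    -- pass to an involution of the intersection
    obtain ⟨j, -, hj⟩ := (Nat.dvd_prime_pow Nat.prime_two).1 (orderOf_dvd_of_pow_eq_one hk')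
    rcases j with _ | j
    · exact hx1 (orderOf_eq_one_iff.1 (by simpa using hj))
    set v := x ^ 2 ^ j with hv
    have hvo : orderOf v = 2 := by
      rw [hv, orderOf_pow_of_dvd (pow_ne_zero _ two_ne_zero) (hj ▸ pow_dvd_pow 2 j.le_succ), hj,
        pow_succ, Nat.mul_div_cancel_left _ (pow_pos two_pos j)]
    have hv2 : v ∈ (T : Subgroup (↥K ⧸ center ↥K)) := pow_mem hx.2 _
    have hv1 : v ∈ MulAut.conj g • (T : Subgroup (↥K ⧸ center ↥K)) := pow_mem hx.1 _
    rw [Subgroup.mem_pointwise_smul_iff_inv_smul_mem] at hv1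
    obtain ⟨g, rfl⟩ := hsurj g
    obtain ⟨y, hy, hyv⟩ := hv2
    obtain ⟨y', hy', hyv'⟩ := hv1
    have hyc : y ∉ center ↥K := fun hc => by
      rw [← hyv, show π y = 1 from pi_eq_one.2 hc, orderOf_one] at hvo
      exact absurd hvo (by norm_num)
    have hy2 : y * y ∈ center ↥K := pi_eq_one.1 (by
      rw [map_mul, hyv]
      have := pow_orderOf_eq_one v
      rwa [hvo, pow_two] at this)
    have hyP' : y ∈ ((g • P : Sylow 2 ↥K) : Subgroup ↥K) := by
      refine mem_smul_iff.2 (hQS.mem_of_pi_eq P hy' ?_)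
      simp only [MulAut.smul_def, MulAut.conj_inv_apply] at hyv'
      rw [hyv', map_mul, map_mul, map_inv, hyv]
    have hgP := hn.ti h hq hqK hy hyP' hyc hy2
    refine hne ?_
    show MulAut.conj (π g) • ((P : Subgroup ↥K).map π) = (P : Subgroup ↥K).map π
    conv_rhs => rw [hgP]
    ext a
    rw [Subgroup.mem_pointwise_smul_iff_inv_smul_mem]
    simp only [MulAut.smul_def, MulAut.conj_inv_apply]
    constructor
    · rintro ⟨b, hb, hba⟩
      exact ⟨g * b * g⁻¹, conj_mem_smul g hb, by rw [map_mul, map_mul, map_inv, hba]; group⟩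
    · rintro ⟨b, hb, rfl⟩
      exact ⟨g⁻¹ * b * g, mem_smul_iff.1 hb, by rw [map_mul, map_mul, map_inv]⟩

/-- The Sylow subgroups of the quotient have order four. -/
theorem NI.card_four (h : Cen G z) (hn : NI z K) {q : G} (hq : q * q = z)
    (hqK : ∀ k ∈ K, k * q = q * k) (T : Sylow 2 (↥K ⧸ center ↥K)) :
    Nat.card ↥(T : Subgroup (↥K ⧸ center ↥K)) = 4 := by
  haveI : Fact (Nat.Prime 2) := ⟨Nat.prime_two⟩
  have hQS := h.qs hn.comp
  set π := QuotientGroup.mk' (center ↥K)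
  have hsurj : Function.Surjective π := QuotientGroup.mk'_surjective _
  obtain ⟨P⟩ := (inferInstance : Nonempty (Sylow 2 ↥K))
  obtain ⟨n, hn1, ⟨e⟩⟩ := hn.sylow_quat P
  haveI : NeZero (2 ^ n : ℕ) := ⟨pow_ne_zero n two_ne_zero⟩
  set T₀ := P.mapSurjective hsurj with hT₀
  have hshape := (Inter3185.kShape_of_target (hn.target h hq hqK) T₀).2
  -- squares central forces order eight
  set x : ↥(P : Subgroup ↥K) := e.symm (QuaternionGroup.xa 0) with hx
  set a : ↥(P : Subgroup ↥K) := e.symm (QuaternionGroup.a 1) with ha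
  have hxa : x * a * x⁻¹ = a⁻¹ := by
    refine mul_inv_eq_iff_eq_mul.2 (eq_inv_mul_iff_mul_eq.2 ?_)
    rw [hx, ha, ← map_mul, ← map_mul, QuaternionGroup.xa_mul_a, QuaternionGroup.a_mul_xa]
    congr 2
    ring
  have hx2 : π (x : ↥K) * π (x : ↥K) = 1 := by
    rw [← map_mul]
    refine pi_eq_one.2 ?_
    have h4 : x * x * (x * x) = 1 := by
      have h' := pow_orderOf_eq_one x
      rw [show orderOf x = 4 by rw [hx, MulEquiv.orderOf_eq, QuaternionGroup.orderOf_xa]] at h'
      simpa [pow_succ, mul_assoc] using h'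
    rcases hn.only _ ((x * x : ↥(P : Subgroup ↥K)) : ↥K).2
      (congrArg (fun y : ↥(P : Subgroup ↥K) => ((y : ↥K) : G)) h4) with e1 | e1
    · rw [show ((x : ↥K) * x) = 1 from Subtype.ext e1]; exact one_mem _
    · exact h.z_center e1
  set xb : ↥(T₀ : Subgroup (↥K ⧸ center ↥K)) := ⟨π (x : ↥K), mem_map_of_mem π x.2⟩
  set ab : ↥(T₀ : Subgroup (↥K ⧸ center ↥K)) := ⟨π (a : ↥K), mem_map_of_mem π a.2⟩
  have hcom : xb * ab = ab * xb := by
    rcases hshape with h0 | ⟨h0, -⟩ | ⟨h0, -⟩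
    · exact Inter3185.comm_of_forall_sq h0 xb ab
    · exact (mem_center_iff.1 ((h0.inv xb).1 (Subtype.ext hx2)) ab).symm
    · exact (mem_center_iff.1 ((h0.inv xb).1 (Subtype.ext hx2)) ab).symm
  have hπ : π (x : ↥K) * π (a : ↥K) * (π (x : ↥K))⁻¹ = π (a : ↥K) := by
    have := congrArg Subtype.val hcom
    exact mul_inv_eq_iff_eq_mul.2 this
  have ha2 : (a : ↥K) * a ∈ center ↥K := by
    have h1 : π ((x : ↥K) * a * (x : ↥K)⁻¹) = π (a : ↥K) := by rw [map_mul, map_mul, map_inv, hπ]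
    have h2 : (x : ↥K) * a * (x : ↥K)⁻¹ = (a : ↥K)⁻¹ := congrArg Subtype.val hxa
    rw [h2] at h1
    have := pi_eq.1 h1
    rwa [inv_inv] at this
  have h8 : n = 1 := by
    have h4 : a ^ 4 = 1 := by
      have h2 : (a : ↥K) * a * ((a : ↥K) * a) = 1 := Subtype.ext (by
        rcases hn.center_cases h ha2 with e1 | e1
        · show (((a : ↥K) * a : ↥K) : G) * (((a : ↥K) * a : ↥K) : G) = 1
          rw [e1, one_mul]
        · show (((a : ↥K) * a : ↥K) : G) * (((a : ↥K) * a : ↥K) : G) = 1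
          rw [e1, h.sq])
      exact Subtype.ext (by simpa [pow_succ, mul_assoc] using h2)
    have hd := Nat.le_of_dvd (by norm_num) (orderOf_dvd_of_pow_eq_one h4)
    rw [ha, MulEquiv.orderOf_eq, QuaternionGroup.orderOf_a_one] at hd
    by_contra hne
    have : 2 ^ 2 ≤ 2 ^ n := Nat.pow_le_pow_right two_pos (by omega)
    omega
  subst h8
  rw [Sylow.card_eq_multiplicity, ← Sylow.card_eq_multiplicity T₀]
  have hle : center ↥K ≤ (P : Subgroup ↥K) := hQS.center_le P
  have h1 := Subgroup.relIndex_mul_relIndex ⊥ (center ↥K) (P : Subgroup ↥K) bot_le hle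
  rw [Subgroup.relIndex_bot_left, Subgroup.relIndex_bot_left, hn.center_card h,
    Nat.card_congr e.toEquiv, Nat.card_eq_fintype_card, QuaternionGroup.card] at h1
  have h2 : Nat.card ↥(T₀ : Subgroup (↥K ⧸ center ↥K)) = (center ↥K).relIndex (P : Subgroup ↥K) := by
    rw [hT₀, Sylow.coe_mapSurjective, ← Subgroup.relIndex_ker, QuotientGroup.ker_mk']
  omega

/-- `K/Z(K)` is `PSL(2,4)`. -/
theorem NI.linear_four (h : Cen G z) (hn : NI z K) {q : G} (hq : q * q = z)
    (hqK : ∀ k ∈ K, k * q = q * k) :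
    ∃ (F : Type) (_ : Field F) (_ : Fintype F), Fintype.card F = 4 ∧
      Nonempty (↥K ⧸ center ↥K ≃* Matrix.ProjectiveSpecialLinearGroup (Fin 2) F) := by
  classical
  haveI : Fact (Nat.Prime 2) := ⟨Nat.prime_two⟩
  obtain ⟨T⟩ := (inferInstance : Nonempty (Sylow 2 (↥K ⧸ center ↥K)))
  have h4 := hn.card_four h hq hqK T
  rcases hn.target h hq hqK with ⟨F, _, _, n, hn2, hF, ⟨e⟩⟩ | ⟨F, _, _, m, hm, hF, ⟨e⟩⟩ |
    ⟨F, _, _, n, hn2, hF, ⟨e⟩⟩
  · obtain ⟨-, hc⟩ := CentralInt88.sylow_linear hF e T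
    exact ⟨F, inferInstance, inferInstance, by rw [hF, ← hc, h4], ⟨e⟩⟩
  · obtain ⟨hc, -, -⟩ := CentralInt88.sylow_suzuki hm hF e T
    rw [h4, ← pow_mul] at hc
    have : 2 ^ 6 ≤ 2 ^ ((2 * m + 1) * 2) := Nat.pow_le_pow_right two_pos (by omega)
    omega
  · obtain ⟨c⟩ := U3Sylow.exists_coords_PSU hF (T.mapSurjective (f := e.toMonoidHom) e.surjective)
    let c' := c.trans ((e.subgroupMap (T : Subgroup (↥K ⧸ center ↥K))).trans
      (MulEquiv.subgroupCongr (Sylow.coe_mapSurjective _ T).symm))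
    have hc := c'.card_eq hF
    rw [h4] at hc
    have : (2 ^ 2) ^ 3 ≤ (2 ^ n) ^ 3 := Nat.pow_le_pow_left (Nat.pow_le_pow_right two_pos hn2) 3
    omega

/-- `K` is `SL(2,5)`. -/
theorem NI.equiv_sl25 (h : Cen G z) (hn : NI z K) {q : G} (hq : q * q = z)
    (hqK : ∀ k ∈ K, k * q = q * k) :
    Nonempty (↥K ≃* Matrix.SpecialLinearGroup (Fin 2) (ZMod 5)) := by
  classical
  haveI : Fact (Nat.Prime 5) := ⟨by norm_num⟩
  obtain ⟨F, _, _, hF, ⟨e⟩⟩ := hn.linear_four h hq hqK
  obtain ⟨e4⟩ := Cfsg.Agent.S0252.result hF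
  obtain ⟨e5⟩ := Linear.SmallIso.nonempty_psl_two_five (F := ZMod 5) (ZMod.card 5)
  set e' : ↥K ⧸ center ↥K ≃* Matrix.ProjectiveSpecialLinearGroup (Fin 2) (ZMod 5) :=
    (e.trans e4).trans e5.symm
  have hker : (e'.toMonoidHom.comp (QuotientGroup.mk' (center ↥K))).ker = center ↥K := by
    rw [CentralInt88.ker_equiv_comp, QuotientGroup.ker_mk']
  exact GWConsumers12.nonempty_equiv_SL2 (h.qs hn.comp).perfect (by rw [ZMod.card]; decide)
    (by rw [ZMod.card]; norm_num) (e'.toMonoidHom.comp (QuotientGroup.mk' (center ↥K)))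
    (e'.surjective.comp (QuotientGroup.mk'_surjective _)) hker.le (by rw [hker, hn.center_card h])

end Cfsg.Agent.Lib.Inter3310
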