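import Cfsg.Agent.Lib.Inter3310.Uniq
import Cfsg.Agent.Lib.Inter3308.Socle
import Cfsg.Agent.Lib.PGroups.UniqueInvolution
import Cfsg.Agent.Lib.TIHall.AutSolvable
import Cfsg.Agent.Lib.FStarTools.Basic

/-!
# The setting with a nontrivial 2-core: consequences for involutions and the layer
-/

set_option autoImplicit false
set_option linter.style.haveILetI false
set_option linter.unusedSectionVars false

namespace Cfsg.Agent.Lib.Inter3310

open Subgroup

universe u

variable {G : Type u} [Group G] [Finite G]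

/-- The normaliser of a Sylow 2-subgroup is solvable. -/
theorem normalizer_isSolvable (S : Sylow 2 G) :
    Group.IsSolvable ↥(normalizer ((S : Subgroup G) : Set G)) := by
  haveI : Fact (Nat.Prime 2) := ⟨Nat.prime_two⟩
  set N := normalizer ((S : Subgroup G) : Set G)
  have h2 : IsPGroup 2 ↥((S : Subgroup G).subgroupOf N) := S.isPGroup'.comap_subtype
  haveI : Group.IsNilpotent ↥((S : Subgroup G).subgroupOf N) := h2.isNilpotent
  haveI : ((S : Subgroup G).subgroupOf N).Normal := Subgroup.normal_in_normalizer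
  haveI : Group.IsSolvable (↥N ⧸ (S : Subgroup G).subgroupOf N) := Cfsg.Agent.S0205.result (by
    rw [← Subgroup.index_eq_card]
    exact Nat.odd_iff.2 (Nat.two_dvd_ne_zero.1 fun h =>
      S.not_dvd_index (h.trans (relIndex_dvd_index_of_le le_normalizer))))
  exact Group.isSolvable_of_ker_le_range ((S : Subgroup G).subgroupOf N).subtype
    (QuotientGroup.mk' ((S : Subgroup G).subgroupOf N))
    (by rw [QuotientGroup.ker_mk', Subgroup.range_subtype])

/-- An element of order two lies in a Sylow 2-subgroup. -/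
theorem exists_sylow_of_sq {w : G} (hw : w * w = 1) : ∃ S : Sylow 2 G, w ∈ (S : Subgroup G) := by
  haveI : Fact (Nat.Prime 2) := ⟨Nat.prime_two⟩
  have h : IsPGroup 2 ↥(zpowers w) := by
    rintro ⟨x, hx⟩
    obtain ⟨i, rfl⟩ := hx
    refine ⟨1, Subtype.ext ?_⟩
    show (w ^ i) ^ (2 ^ 1) = 1
    rw [← zpow_natCast, ← zpow_mul, mul_comm, zpow_mul, zpow_natCast, pow_one, sq, hw, one_zpow]
  obtain ⟨S, hS⟩ := h.exists_le_sylow
  exact ⟨S, hS (mem_zpowers w)⟩

/-- A central involution lies in every Sylow 2-subgroup. -/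
theorem central_mem {z : G} (hz : z * z = 1) (hc : z ∈ center G) (S : Sylow 2 G) :
    z ∈ (S : Subgroup G) := by
  haveI : Fact (Nat.Prime 2) := ⟨Nat.prime_two⟩
  obtain ⟨T, hT⟩ := exists_sylow_of_sq hz
  obtain ⟨g, rfl⟩ := MulAction.exists_smul_eq G T S
  rw [show z = g * z * g⁻¹ by rw [mem_center_iff.1 hc g, mul_inv_cancel_right]]
  exact conj_mem_smul g hT

theorem Uni.uni1 (h : Uni G) {z : G} (hz : z * z = 1) (hz1 : z ≠ 1) (hc : z ∈ center G) :
    Uni1 G z := fun S T w hwS hwT hw hw1 hne =>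
  h S T w z hwS hwT (central_mem hz hc S) (central_mem hz hc T) hw hz
    (mem_center_iff.1 hc w) hw1 hz1 hne

/-- An element conjugating an involution other than `z` of `S` into `S` normalises `S`. -/
theorem Uni1.normalizes {z : G} (h : Uni1 G z) (hc : z ∈ center G) {S : Sylow 2 G} {w g : G}
    (hwS : w ∈ (S : Subgroup G)) (hw : w * w = 1) (hw1 : w ≠ 1) (hne : w ≠ z)
    (hg : g * w * g⁻¹ ∈ (S : Subgroup G)) : g ∈ normalizer ((S : Subgroup G) : Set G) := by
  refine eq_smul_iff.1 (h S (g • S) _ hg (conj_mem_smul g hwS) ?_ ?_ ?_).symm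
  · rw [conj_mul, hw, mul_one, mul_inv_cancel]
  · exact fun h' => hw1 (conj_eq_one_iff.1 h')
  · intro h'
    refine hne ?_
    have : w = g⁻¹ * z * g := by rw [← h']; group
    rw [this, mul_assoc, ← mem_center_iff.1 hc g, inv_mul_cancel_left]

/-- The centraliser of an involution other than `z` normalises each Sylow subgroup containing it. -/
theorem Uni1.centralizer_le {z : G} (h : Uni1 G z) (hc : z ∈ center G) {S : Sylow 2 G} {w : G}
    (hwS : w ∈ (S : Subgroup G)) (hw : w * w = 1) (hw1 : w ≠ 1) (hne : w ≠ z) :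
    centralizer ({w} : Set G) ≤ normalizer ((S : Subgroup G) : Set G) := fun g hg =>
  h.normalizes hc hwS hw hw1 hne (by
    rw [mem_centralizer_singleton_iff.1 hg, mul_inv_cancel_right]; exact hwS)

/-- A subgroup centralising an involution other than `z` is solvable. -/
theorem Uni1.solvable_of_centralizes {z : G} (h : Uni1 G z) (hc : z ∈ center G) {w : G}
    (hw : w * w = 1) (hw1 : w ≠ 1) (hne : w ≠ z) (A : Subgroup G)
    (hA : ∀ a ∈ A, a * w = w * a) : Group.IsSolvable ↥A := by
  obtain ⟨S, hS⟩ := exists_sylow_of_sq hw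
  haveI := normalizer_isSolvable S
  have hle : A ≤ normalizer ((S : Subgroup G) : Set G) := fun a ha =>
    h.centralizer_le hc hS hw hw1 hne (mem_centralizer_singleton_iff.2 (hA a ha))
  exact Group.isSolvable_of_isSolvable_injective (f := inclusion hle) (inclusion_injective hle)

/-- The property passes to subgroups containing `z`. -/
theorem Uni1.subgroup {z : G} (h : Uni1 G z) {H : Subgroup G} (hz : z ∈ H) :
    Uni1 ↥H ⟨z, hz⟩ := by
  intro P Q w hwP hwQ hw hw1 hne
  obtain ⟨P', hP'⟩ := (P.isPGroup'.map H.subtype).exists_le_sylow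
  obtain ⟨Q', hQ'⟩ := (Q.isPGroup'.map H.subtype).exists_le_sylow
  have he : P' = Q' := h P' Q' w (hP' ⟨w, hwP, rfl⟩) (hQ' ⟨w, hwQ, rfl⟩) (congrArg Subtype.val hw)
    (fun h' => hw1 (Subtype.ext h')) (fun h' => hne (Subtype.ext h'))
  subst he
  have h2 : IsPGroup 2 ↥((P' : Subgroup G).subgroupOf H) := P'.isPGroup'.comap_subtype
  exact Sylow.ext ((P.3 h2 fun a ha => hP' ⟨a, ha, rfl⟩).symm.trans
    (Q.3 h2 fun a ha => hQ' ⟨a, ha, rfl⟩))

/-- The data of the case with nontrivial 2-core: the only involution `z` of the core is central,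
and every other involution lies in a unique Sylow subgroup. -/
structure Cen (G : Type u) [Group G] (z : G) : Prop where
  sq : z * z = 1
  ne : z ≠ 1
  central : z ∈ center G
  mem : z ∈ Cfsg.pCore 2 G
  uniq : ∀ w ∈ Cfsg.pCore 2 G, w * w = 1 → w = 1 ∨ w = z
  uni : Uni1 G z
  nonsolv : ¬ Group.IsSolvable G
  core : Cfsg.oddCore G = ⊥

theorem exists_cen (h : Uni G) (hns : ¬ Group.IsSolvable G) (hO : Cfsg.oddCore G = ⊥)
    (hZ : Cfsg.pCore 2 G ≠ ⊥) : ∃ z : G, Cen G z := by
  haveI : Fact (Nat.Prime 2) := ⟨Nat.prime_two⟩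
  set Z := Cfsg.pCore 2 G with hZdef
  have hp : IsPGroup 2 ↥Z := Cores.pCore_isPGroup 2
  haveI : Nontrivial ↥Z := (Subgroup.nontrivial_iff_ne_bot Z).2 hZ
  haveI := hp.center_nontrivial
  obtain ⟨z₀, hz₀⟩ := exists_prime_orderOf_dvd_card' (G := ↥(center ↥Z)) 2
    (((hp.to_subgroup (center ↥Z)).card_eq_or_dvd).resolve_left Finite.one_lt_card.ne')
  set z : G := ((z₀ : ↥Z) : G) with hzdef
  have hzo : orderOf z = 2 := by rw [hzdef, Subgroup.orderOf_coe, Subgroup.orderOf_coe, hz₀]
  have hz2 : z * z = 1 := by rw [← pow_two, ← hzo]; exact pow_orderOf_eq_one z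
  have hz1 : z ≠ 1 := fun h' => by rw [h', orderOf_one] at hzo; exact absurd hzo (by norm_num)
  have hzZ : z ∈ Z := (z₀ : ↥Z).2
  have huniq : ∀ w ∈ Z, w * w = 1 → w = 1 ∨ w = z := by
    intro w hw hw2
    by_contra hcon
    push Not at hcon
    obtain ⟨S, T, hne⟩ := Inter3308.exists_two_sylow hns
    exact hne (h S T w z (Cores.pCore_le_sylow S hw) (Cores.pCore_le_sylow T hw)
      (Cores.pCore_le_sylow S hzZ) (Cores.pCore_le_sylow T hzZ) hw2 hz2
      (congrArg Subtype.val (mem_center_iff.1 z₀.2 ⟨w, hw⟩)) hcon.1 hz1 hcon.2)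
  have hc : z ∈ center G := mem_center_iff.2 fun g => by
    rcases huniq (g * z * g⁻¹) ((inferInstance : (Cfsg.pCore 2 G).Normal).conj_mem z hzZ g)
      (by rw [conj_mul, hz2, mul_one, mul_inv_cancel]) with h' | h'
    · exact absurd (conj_eq_one_iff.1 h') hz1
    · exact mul_inv_eq_iff_eq_mul.1 h'
  exact ⟨z, hz2, hz1, hc, hzZ, huniq, h.uni1 hz2 hz1 hc, hns, hO⟩

variable {z : G}

/-- The 2-core is cyclic or a quaternion group. -/
theorem Cen.shape (h : Cen G z) : IsCyclic ↥(Cfsg.pCore 2 G) ∨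
    ∃ n : ℕ, 1 ≤ n ∧ Nonempty (↥(Cfsg.pCore 2 G) ≃* QuaternionGroup (2 ^ n)) := by
  haveI : Fact (Nat.Prime 2) := ⟨Nat.prime_two⟩
  have key : ∀ x : ↥(Cfsg.pCore 2 G), orderOf x = 2 → (x : G) = z := fun x hx =>
    (h.uniq x x.2 (congrArg Subtype.val (show x * x = 1 by
      have := pow_orderOf_eq_one x
      rwa [hx, pow_two] at this))).resolve_left fun h' => by
        rw [show x = 1 from Subtype.ext h', orderOf_one] at hx
        exact absurd hx (by norm_num)
  rcases PGroups.isCyclic_or_quaternion (p := 2) (Cores.pCore_isPGroup 2) (fun x y hx hy => by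
    rw [show y = x from Subtype.ext ((key y hy).trans (key x hx).symm)]
    exact mem_zpowers x) with hc | ⟨-, hn⟩
  · exact Or.inl hc
  · exact Or.inr hn

theorem Cen.autSolvable (h : Cen G z) : Group.IsSolvable (MulAut ↥(Cfsg.pCore 2 G)) := by
  rcases h.shape with hc | ⟨n, -, ⟨e⟩⟩
  · exact TIHall.isSolvable_mulAut_of_isCyclic
  · haveI : NeZero (2 ^ n : ℕ) := ⟨pow_ne_zero n two_ne_zero⟩
    haveI : Group.IsSolvable (MulAut (QuaternionGroup (2 ^ n))) := by
      refine TIHall.isSolvable_mulAut_of_index_two (a := QuaternionGroup.a 1) ?_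
      have h1 := card_mul_index (zpowers (QuaternionGroup.a (1 : ZMod (2 * 2 ^ n))))
      rw [Nat.card_zpowers, QuaternionGroup.orderOf_a_one, Nat.card_eq_fintype_card,
        QuaternionGroup.card] at h1
      have h2 : 0 < 2 * 2 ^ n := by positivity
      exact Nat.eq_of_mul_eq_mul_left h2 (h1.trans (by ring))
    exact Group.isSolvable_of_isSolvable_injective (f := (MulAut.congr e).toMonoidHom)
      (MulAut.congr e).injective

theorem Cen.fitting_eq (h : Cen G z) : Cfsg.fittingSubgroup G = Cfsg.pCore 2 G :=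
  haveI : Fact (Nat.Prime 2) := ⟨Nat.prime_two⟩
  FStarTools.fitting_eq_pCore h.core

/-- There is a component. -/
theorem Cen.exists_component (h : Cen G z) : ∃ K : Subgroup G, Cfsg.IsComponent K := by
  by_contra hne
  have hlay : Cfsg.layer G = ⊥ := by
    by_contra hl
    exact hne (Components.Layer.layer_ne_bot_iff.1 hl)
  have hle := FStarTools.centralizer_fitting_le_iff.2 hlay
  rw [h.fitting_eq] at hle
  haveI := h.autSolvable
  haveI : Group.IsNilpotent ↥(Cfsg.pCore 2 G) :=
    haveI : Fact (Nat.Prime 2) := ⟨Nat.prime_two⟩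
    (Cores.pCore_isPGroup 2).isNilpotent
  exact h.nonsolv (Group.isSolvable_of_ker_le_range (Cfsg.pCore 2 G).subtype
    (MulAut.conjNormal (H := Cfsg.pCore 2 G) : G →* MulAut ↥(Cfsg.pCore 2 G)) (by
      rw [Subgroup.range_subtype]
      intro g hg
      refine hle (mem_centralizer_iff.2 fun x hx => ?_)
      have h1 : g * x * g⁻¹ = x := by
        have := congrArg Subtype.val (MulEquiv.ext_iff.1 (MonoidHom.mem_ker.1 hg) ⟨x, hx⟩)
        simpa using this
      exact (mul_inv_eq_iff_eq_mul.1 h1).symm))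

end Cfsg.Agent.Lib.Inter3310
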